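import Cfsg.Agent.StdX.DK

/-!
# Subgroups generated by letters of a word model
-/

set_option autoImplicit false

namespace Cfsg.Lib.StdX

open Subgroup Equiv Cfsg.Lib.Spor Cfsg.Lib.Spor.WM Cfsg.Lib.Known Cfsg.Lib.Known.PC

variable {G : Type} [Group G] {n : ℕ} {ρ : G →* Perm (Fin n)}

/-- the codes `cs` are words in the letters `I` -/
noncomputable def letB (b m : ℕ) (I cs : List ℕ) : Bool :=
  lall (fun c => nall (fun i => frc (Nat.land (Nat.shiftRight c (Nat.mul b i)) m) fun l =>
    bor (Nat.beq l 0) (lmem l I)) (len b c)) cs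

theorem letB_eq_1' : type_of% @letB.eq_1 := @letB.eq_1

/-- the codes `cs` are words in the letters `I` and form a chain -/
noncomputable def genB (T : FT) (b m : ℕ) (base : List ℕ) (n : ℕ) (ι : ℕ → ℕ) (I cs : List ℕ) (N : ℕ)
    (ls : List ILev) : Bool :=
  band (letB b m I cs) ((fops T b m base n ι).build cs N ls)

theorem genB_eq_1' : type_of% @genB.eq_1 := @genB.eq_1

variable {T : FT} {b m : ℕ} {base : List ℕ} (h : Good ρ T b m base)

theorem V_mem_gn {I cs : List ℕ} (hc : letB b m I cs = true) : ∀ c ∈ cs, h.V c ∈ gn h.V I :=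
  fun c hcs => V_mem_of_letters h fun i hi => by
    rcases bor_iff.1 ((frc_eq _ _).symm.trans (nall_iff.1 (lall_iff.1 hc c hcs) i hi)) with e | e
    · rw [Nat.eq_of_beq_eq_true e, V_zero]; exact one_mem _
    · exact mem_gn _ (lmem_spec e)

variable {ι : ℕ → ℕ} (hι : invB T b m base ι = true)
include hι

theorem le_card_gn [Finite G] {I cs : List ℕ} {N : ℕ} {ls : List ILev}
    (hc : genB T b m base n ι I cs N ls = true) : N ≤ Nat.card (gn h.V I) :=
  (h.hasF hι).le_card (fun c hcs => ⟨_, V_mem_gn h (band_iff.1 hc).1 c hcs, rfl⟩) (band_iff.1 hc).2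

/-- the order and the generators of a subgroup of bounded order -/
theorem sub_eq [Finite G] {K : Subgroup G} {I cs : List ℕ} {N : ℕ} {ls : List ILev}
    (hI : ∀ l ∈ I, h.V l ∈ K) (hN : Nat.card K ≤ N) (hc : genB T b m base n ι I cs N ls = true) :
    Nat.card K = N ∧ K = gn h.V I :=
  have a := gn_le hI
  have k := le_card_gn h hι hc
  ⟨le_antisymm hN (k.trans (card_le_of_le a)), (eq_of_le_of_card_ge a (hN.trans k)).symm⟩

end Cfsg.Lib.StdX
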