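import Cfsg.Agent.StdX.Tm

/-!
# Letters of the doubled word model
-/

set_option autoImplicit false

namespace Cfsg.Lib.StdX

open Subgroup Equiv Cfsg.Lib.Spor Cfsg.Lib.Spor.WM Cfsg.Lib.Known Cfsg.Lib.Known.PC
open Cfsg.Lib.Spor.Bulk (wv ltB lt_of_ltB gL)

variable {G : Type} [Group G] {n : ℕ} {ρ : G →* Perm (Fin n)} {σ : G →* G}

namespace Dbl

/-- the function of an outer letter -/
noncomputable def og (n : ℕ) (f f' : ℕ → ℕ) (x : ℕ) : ℕ :=
  Bool.rec (Nat.add n (f' x)) (f (Nat.sub x n)) (Nat.ble n x)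

theorem og_eq_1' : type_of% @og.eq_1 := @og.eq_1

theorem acts_og {f f' : ℕ → ℕ} {g : G} (a : Acts ρ f g) (b : Acts ρ f' (σ g)) :
    Acts (rho ρ σ) (og n f f') (io ρ σ g * so ρ σ) := fun p => by
  rw [og, brec_eq, map_mul, Perm.mul_apply]
  induction p using Fin.addCases with
  | left p => rw [so_l, io_r, if_neg (by simp)]; simpa [add_comm] using b p
  | right p => rw [so_r, io_l, if_pos (by simp)]; simpa using a p

/-- the image of the word `W` is the word `W'`; the letter `l + k` is the image of the letter `l` -/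
noncomputable def sigB (T : FT) (b m : ℕ) (base : List ℕ) (k : ℕ) (W W' : List ℕ) : Bool :=
  band (ltB k [W, W']) (WM.mapK (fun l => Nat.add l k) W fun U =>
    eqvF T b m base (pack b U) (pack b W'))

theorem sigB_eq_1' : type_of% @sigB.eq_1 := @sigB.eq_1

theorem sig_eq {T : FT} {b m k : ℕ} {base : List ℕ} (h : Good ρ T b m base) {g : ℕ → G}
    (hk : k + k ≤ m + 1) (h1 : ∀ l < k, Acts ρ (T.fn l) (g l))
    (h2 : ∀ l < k, Acts ρ (T.fn (l + k)) (σ (g l))) {W W' : List ℕ}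
    (hc : sigB T b m base k W W' = true) : σ (wv g W) = wv g W' := by
  rw [sigB, band_iff, WM.mapK_eq] at hc
  have a := lt_of_ltB hc.1 W (by simp)
  have a' := lt_of_ltB hc.1 W' (by simp)
  let u : ℕ → G := fun l => if l < k then g l else σ (g (l - k))
  have hu : ∀ l < k + k, Acts ρ (T.fn l) (u l) := fun l hl => by
    by_cases e : l < k
    · simpa only [u, if_pos e] using h1 l e
    · have := h2 (l - k) (by omega)
      rw [Nat.sub_add_cancel (not_lt.1 e)] at this
      simpa only [u, if_neg e] using this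
  have e1 : h.V (pack b (W.map fun l => Nat.add l k)) = _ := h.R_pack hk hu fun l hl => by
    obtain ⟨x, hx, rfl⟩ := List.mem_map.1 hl
    exact Nat.add_lt_add_right (a x hx) k
  have e2 : h.V (pack b W') = _ := h.R_pack hk hu fun l hl => (a' l hl).trans_le (Nat.le_add_right _ _)
  have e3 : ∀ X : List ℕ, wv u (X.map fun l => Nat.add l k) = σ (wv g X) := fun X => by
    induction X with
    | nil => simp
    | cons x X ih =>
      rw [List.map_cons, Bulk.wv_cons, Bulk.wv_cons, ih, map_mul]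
      simp [u]
  rw [← e3, ← e1, h.eq_of_eqvF hc.2, e2]
  exact Bulk.wv_congr fun l hl => if_pos (a' l hl)

theorem G0_le {g : ℕ → G} {Ls : List ℕ} (top : gL g Ls = ⊤) {K : Subgroup (Om ρ σ)}
    (h : ∀ l ∈ Ls, io ρ σ (g l) ∈ K) : G0 ρ σ ≤ K := by
  rintro _ ⟨x, rfl⟩
  exact (Bulk.gL_le (K := K.comap (io ρ σ)) h) (top ▸ mem_top x)

theorem eq_top (hσ : ∀ g, σ (σ g) = g) {K : Subgroup (Om ρ σ)} (h : G0 ρ σ ≤ K) (hs : so ρ σ ∈ K) :
    K = ⊤ := eq_top_iff.2 fun x _ => by
  rcases cases hσ x with ⟨g, rfl⟩ | ⟨g, rfl⟩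
  exacts [h (io_mem g), mul_mem (h (io_mem g)) hs]

theorem outer (hσ : ∀ g, σ (σ g) = g) (hi : Function.Injective ρ) {c : Model.OutCert} {x u y y' : G}
    (hs : Model.OutSpec c x u y y') (hk : c.k0 ≠ 1) {t : Om ρ σ} (ht : t ∉ G0 ρ σ)
    (e1 : t * io ρ σ x * t⁻¹ = io ρ σ x ^ c.k0) (e2 : t * io ρ σ u * t⁻¹ = io ρ σ u)
    (e3 : t * io ρ σ y * t⁻¹ = io ρ σ y') : ¬ ∃ c, ∀ g, σ g = c * g * c⁻¹ := fun ⟨d, e⟩ => by
  obtain ⟨h, rfl⟩ := (cases hσ t).resolve_left fun ⟨g, e⟩ => ht ⟨g, e.symm⟩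
  have k : ∀ g, io ρ σ h * so ρ σ * io ρ σ g * (io ρ σ h * so ρ σ)⁻¹ =
      io ρ σ (MulAut.conj (h * d) g) := fun g => by
    rw [MulAut.conj_apply, mul_inv_rev h, mul_assoc h, mul_assoc h, ← mul_assoc (d * g), ← e, map_mul,
      map_mul, map_inv, ← conj_io hσ]
    group
  rw [k] at e1 e2 e3
  exact hs.outer _ (io_inj hi (e1.trans (map_pow _ _ _).symm)) (io_inj hi e2) (io_inj hi e3)
    (fun a => absurd a hk) ⟨_, rfl⟩

/-- a subgroup not contained in the subgroup of index two -/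
theorem card_eq_two (hσ : ∀ g, σ (σ g) = g) {K : Subgroup (Om ρ σ)} {x : Om ρ σ}
    (hx : x ∈ K) (h0 : x ∉ G0 ρ σ) : Nat.card K = 2 * Nat.card ↥(G0 ρ σ ⊓ K) := by
  have h := relIndex_mul_relIndex ⊥ (G0 ρ σ ⊓ K) K bot_le inf_le_right
  rw [relIndex_bot_left, relIndex_bot_left, inf_relIndex_right] at h
  rw [← h, mul_comm]
  congr 1
  refine relIndex_eq_two_iff.2 ⟨x, hx, fun y _ => ?_⟩
  by_cases e : y ∈ G0 ρ σ
  · exact Or.inr ⟨e, fun k => h0 ((mul_mem_cancel_left e).1 k)⟩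
  · exact Or.inl ⟨idx hσ _ _ e h0, e⟩

end Dbl

variable {T : FT} {b m : ℕ} {base : List ℕ} (h : Good ρ T b m base) {ι : ℕ → ℕ}
  (hι : invB T b m base ι = true)
include hι

/-- the codes `I` commute with `cz`, the codes `cs` are the words `Ws` in them and form a chain -/
noncomputable def cenGenB (T : FT) (b m : ℕ) (base : List ℕ) (n : ℕ) (ι : ℕ → ℕ) (I : List ℕ) (cz : ℕ)
    (cs : List ℕ) (N : ℕ) (ls : List ILev) : Bool :=
  band (lall (fun c => (fops T b m base n ι).cj c cz cz) I)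
    (band (lall (fun c => nall (fun i => frc (Nat.land (Nat.shiftRight c (Nat.mul b i)) m) fun l =>
      bor (Nat.beq l 0) (lmem l I)) (len b c)) cs) ((fops T b m base n ι).build cs N ls))

omit hι in
theorem cenGenB_eq_1' : type_of% @cenGenB.eq_1 := @cenGenB.eq_1

omit hι in
theorem V_mem_of_letters {K : Subgroup G} {c : ℕ}
    (e : ∀ i < len b c, h.V (Nat.land (Nat.shiftRight c (Nat.mul b i)) m) ∈ K) : h.V c ∈ K := by
  have key : ∀ k c, (∀ i < k, h.V (Nat.land (Nat.shiftRight c (Nat.mul b i)) m) ∈ K) →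
      valK h.lt b k c ∈ K := by
    intro k
    induction k with
    | zero => exact fun _ _ => K.one_mem
    | succ k ih =>
      intro c hc
      refine K.mul_mem (ih _ fun i hi => ?_) ?_
      · have := hc (i + 1) (by omega)
        rwa [show Nat.shiftRight c (Nat.mul b (i + 1)) = Nat.shiftRight (c >>> b) (Nat.mul b i) from by
          change c >>> (b * (i + 1)) = (c >>> b) >>> (b * i)
          rw [← Nat.shiftRight_add]; congr 1; ring] at this
      · have := hc 0 (by omega)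
        rwa [h.land, Good.V, val_letter h.lt_zero h.pos (Nat.mod_lt _ (Nat.two_pow_pos _))] at this
  exact key _ c e

/-- the order and the generators of a centraliser -/
theorem cen_eq [Finite G] {I cs : List ℕ} {cz N : ℕ} {ls : List ILev}
    (hN : Nat.card (centralizer {h.V cz}) ≤ N) (hc : cenGenB T b m base n ι I cz cs N ls = true) :
    Nat.card (centralizer {h.V cz}) = N ∧ centralizer {h.V cz} = gn h.V I := by
  simp only [cenGenB, band_iff] at hc
  have a : gn h.V I ≤ centralizer {h.V cz} := gn_le fun c hI =>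
    let ⟨_, k, e⟩ := in_cen (h.hasF hι) (h.fm_in I) (cz := cz) rfl hc.1 c hI
    (show h.V c = _ from e) ▸ k
  have k : N ≤ Nat.card (gn h.V I) := (h.hasF hι).le_card (fun c hcs => ⟨_, V_mem_of_letters h fun i hi => by
    rcases bor_iff.1 ((frc_eq _ _).symm.trans (nall_iff.1 (lall_iff.1 hc.2.1 c hcs) i hi)) with e | e
    · rw [Nat.eq_of_beq_eq_true e, V_zero]; exact one_mem _
    · exact mem_gn _ (lmem_spec e), rfl⟩) hc.2.2
  exact ⟨le_antisymm hN (k.trans (card_le_of_le a)), (eq_of_le_of_card_ge a (hN.trans k)).symm⟩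

end Cfsg.Lib.StdX
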