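import Cfsg.Agent.StdX.SGen2

/-!
# Sylow 2-subgroups in a word model: lower bounds and generators
-/

set_option autoImplicit false

namespace Cfsg.Lib.StdX.SG

open Subgroup Cfsg.Lib.Spor Cfsg.Lib.Spor.WM Cfsg.Lib.Known Cfsg.Lib.Known.PC
open Cfsg.Lib.Spor.WF (sub sb sub_le wv_mem_sub)

variable {G : Type} [Group G] {n : ℕ} {ρ : G →* Equiv.Perm (Fin n)} {T : FT} {b m : ℕ} {base : List ℕ}
  (h : Good ρ T b m base)

theorem mem_sub {ws I : List ℕ} {W : List (List ℕ)}
    (hc : lall (fun l => lany (fun w => eqvF T b m base l (wc b ws w)) W) I = true) :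
    ∀ l ∈ I, h.V l ∈ sub (fun l => h.V (nth 0 ws l)) W := fun l hl => by
  obtain ⟨w, hw, e⟩ := lany_spec (lall_iff.1 hc l hl)
  rw [h.eq_of_eqvF e, V_wc]
  exact wv_mem_sub _ hw

theorem low_sb [Finite G] {ι : ℕ → ℕ} (hι : invB T b m base ι = true) {ws : List ℕ} {R W : List (List ℕ)}
    {M : ℕ} {ls : List ILev}
    (hc : (fops T b m base n ι).build ((W.map (sb R)).map (wc b ws)) M ls = true) :
    M ≤ Nat.card (sub (fun l => h.V (nth 0 ws l)) R) :=
  (low h hι hc).trans (card_le_of_le (sub_le fun w hw => by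
    obtain ⟨L, -, rfl⟩ := List.mem_map.1 hw
    exact sb_mem (fun _ => wv_mem_sub _) _))

end Cfsg.Lib.StdX.SG
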