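import Cfsg.Agent.StdX.OND2
import Cfsg.Agent.StdX.DK
import Cfsg.Agent.StdX.SGen3

/-! The Sylow 2-subgroup and the classes of involutions. -/

set_option autoImplicit false
set_option maxRecDepth 100000
set_option Elab.async false

namespace Cfsg.Lib.StdX

open Subgroup Cfsg.Lib.Spor Cfsg.Lib.Spor.WM Cfsg.Lib.Known Cfsg.Lib.Known.PC Cfsg.Lib.Gold
open Cfsg.Lib.Spor.ONP (base)
open Cfsg.Lib.Spor.WF (sub sb)
open Cfsg.Lib.Spor.Fm (pcT)
open Cfsg.Lib.StdM (Cl)

namespace ONS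

open ON SG

/-- the codes of the local letters -/
def ws : List ℕ := [0, 9, 13, 11, 3453771, 779, 14162907915, 3191563, 237614095521592075, 909, 10,
    4595163771167995559457288, 521247813295479993025, 29149513699289243902478, 81069604615716959163007175,
    3962300694308337707701006, 16196084189462282374, 17333554799402562504, 5838645136792511362,
    595123977240609308803, 3163036402381519, 255112140, 62616516747982, 4275876405228491, 971, 3149979668755405,
    202429796430693070, 3457998, 273374818902262476, 53754975019787, 3977995, 15287513931, 1043915924173, 49866,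
    49423466689355, 62342729356235, 255128398, 62159, 49423517008844, 4007389426152270, 2945740,
    273942032734532554, 15237694154, 256481922303193932, 1, 2, 3, 4, 5, 6, 7, 8]
theorem ws_eq_1' : type_of% @ws.eq_1 := @ws.eq_1
/-- equality of local words -/
noncomputable abbrev eO : List ℕ → List ℕ → Bool := eW gT 6 63 base ws
/-- the inner test -/
noncomputable abbrev iO : List ℕ → Bool := iW gT 6 63 122760 ws
/-- the local letters -/
noncomputable abbrev g (l : ℕ) : Om := gd.V (nth 0 ws l)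
/-- squares -/
def pP : List (List ℕ) := [[], [], [], [], [9], [7], [8], [], [], [10], []]
theorem pP_eq_1' : type_of% @pP.eq_1 := @pP.eq_1
/-- commutators -/
def pC : List (List (List ℕ)) := [[], [[]], [[], [9]], [[], [5], [4]], [[], [6, 9], [9, 10], [9, 10]], [[],
    [7], [6, 7], [7], [7, 9]], [[], [8], [], [7, 9], [8], []], [[], [], [8], [], [10], [], []], [[], [], [], [10],
    [], [], [], []], [[], [10], [10], [10], [], [], [], [], []], [[], [], [], [], [], [], [], [], [], []]]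
theorem pC_eq_1' : type_of% @pC.eq_1 := @pC.eq_1
/-- a certificate -/
def d0 : Dt := (.spl (.spl (.spl (.spl (.spl (.spl (.spl (.spl (.spl (.spl (.leaf 0 [] []) (.leaf 1 [] []))
    (.prune [])) (.spl (.merge [3] [] (.leaf 1 [11] [])) (.prune []))) (.merge [2] [] (.spl (.merge [2, 3, 2] []
    (.leaf 1 [12] [])) (.prune [])))) (.merge [3] [9] (.prune []))) (.merge [2] [7] (.prune []))) (.spl (.merge
    [1] [9] (.merge [5, 3] [] (.merge [5, 2, 1, 3, 1] [] (.prune [])))) (.merge [3, 1] [10] (.merge [3] [9, 10]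
    (.merge [3, 1, 2, 3] [] (.spl (.prune []) (.merge [1, 2] [] (.leaf 1 [13] [])))))))) (.merge [2] [] (.merge
    [1] [] (.spl (.merge [5] [] (.spl (.merge [2, 3, 2] [] (.merge [9] [] (.leaf 1 [14] []))) (.merge [2, 3, 2]
    [10] (.prune [])))) (.prune [8, 9]))))) (.spl (.merge [3, 2] [] (.spl (.merge [5, 2] [7] (.spl (.merge [5, 5]
    [] (.merge [1] [] (.merge [9] [] (.leaf 1 [15] [])))) (.prune []))) (.prune []))) (.prune [9, 10]))) (.spl
    (.spl (.spl (.merge [3, 1] [] (.merge [3, 2, 3, 1] [] (.merge [5] [] (.merge [2, 5, 2, 5] [] (.merge [2] [10]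
    (.merge [9] [] (.leaf 3 [] [(5, [3, 1], []), (6, [3, 2, 3, 1], []), (7, [5], []), (8, [2, 5, 2, 5], []), (9,
    [2], [10]), (10, [9], [])]))))))) (.merge [3] [10] (.prune [8, 10]))) (.merge [2] [9] (.prune [7]))) (.spl
    (.merge [3, 2] [5] (.spl (.merge [5] [] (.spl (.merge [5, 5] [] (.prune [10])) (.prune [9, 10]))) (.prune [7,
    8, 9, 10]))) (.prune [5, 5, 5, 6, 9, 10]))))
theorem d0_eq_1' : type_of% @d0.eq_1 := @d0.eq_1
/-- commutators -/
def dD : List (List ℕ × List ℕ × List ℕ) := [([10], [3], [9]), ([5, 5], [3], [5]), ([2, 3, 2, 3], [3], [2]),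
    ([5, 5], [2, 3, 2, 3], [3, 5]), ([2, 3, 2, 3], [3], [2]), ([3, 5, 2, 3, 5, 2], [2], [3, 5])]
theorem dD_eq_1' : type_of% @dD.eq_1 := @dD.eq_1
/-- the centraliser of the derived group -/
def dL : List (List ℕ) := [[], [10], [9], [9, 10], [8], [8, 10], [8, 9], [8, 9, 10]]
theorem dL_eq_1' : type_of% @dL.eq_1 := @dL.eq_1
/-- conjugates of the central involution -/
def dZ : List (List ℕ × List ℕ) := [([10], []), ([3], [14]), ([2], [15]), ([3, 5], [14, 1])]
theorem dZ_eq_1' : type_of% @dZ.eq_1 := @dZ.eq_1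
/-- involutions -/
def dI : List (List ℕ) := []
theorem dI_eq_1' : type_of% @dI.eq_1 := @dI.eq_1
/-- products of involutions -/
def dJ : List (List ℕ) := [[], [], [2], [1], [1, 2, 1, 2], [1, 3], [1, 3, 2, 1, 3, 2], [1, 3, 1, 3], [1, 3, 1,
    3, 2, 1, 3, 1, 3, 2], [1, 2, 1, 2, 1, 2, 1, 2], [0]]
theorem dJ_eq_1' : type_of% @dJ.eq_1 := @dJ.eq_1
/-- involutions commuting with the second involution -/
def dR : List (List ℕ) := [[10], [3], [2], [3, 5]]
theorem dR_eq_1' : type_of% @dR.eq_1 := @dR.eq_1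
/-- elements of the first centraliser -/
def dC : List (List ℕ) := [[20], [21], [22], [23], [24], [25], [26], [27], [28], [29], [30], [31], [32], [33],
    [34], [35], [36], [37], [38], [39], [40], [41], [42], [43]]
theorem dC_eq_1' : type_of% @dC.eq_1 := @dC.eq_1
/-- elements of the second centraliser -/
def dA : List (List ℕ) := [[16], [17], [18]]
theorem dA_eq_1' : type_of% @dA.eq_1 := @dA.eq_1
/-- the generators -/
def dW : List (List ℕ × List ℕ) := [([44], [0, 24, 1, 24, 2]), ([45], [3, 26, 4, 24, 5]), ([46], [6, 26, 7,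
    24, 8]), ([47], [9, 25, 10, 26, 11]), ([48], [12, 24, 13, 26, 14]), ([49], [15, 25, 16, 25, 17, 24, 18]),
    ([50], [19, 26, 20, 26, 21]), ([51], [22, 26, 20, 26, 23])]
theorem dW_eq_1' : type_of% @dW.eq_1 := @dW.eq_1
theorem c0 : SG.pcB eO 10 2 pP pC = true := by decide +kernel
theorem c1 : miB eO iO 10 10 1 [10] [1] = true := by decide +kernel
theorem t0 : d0.chk eO 10 (lfB eO 10 4 10 1) 1 [] = true := by decide +kernel
theorem c2 : Dt.chk eO 10 (lfB eO 10 4 10 1) d0 1 [] = true := t0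
theorem c3 : deB eO 10 dD [12] = true := by decide +kernel
theorem c4 : laB eO 10 8 dL = true := by decide +kernel
theorem c5 : geB eO 10 2 dI dZ dJ = true := by decide +kernel
theorem c6 : ryB eO 10 10 dR [1] [2,1,2,1,2,1,2] = true := by decide +kernel
theorem c7 : alB eO iO 10 (tr dD 3).1 dC dA dW = true := by decide +kernel
theorem hS : 2 ^ 10 ≤ Nat.card (pcT g 10 1) := low_pc gd hι (W := [[1], [10], [3], [2], [2, 10], [5, 5], [2,
    5, 2, 5, 10]]) (ls := [⟨113017, 0, 0, 6, [0, 1, 2, 3]⟩, ⟨8896, 0, 0, 1, [4]⟩, ⟨224257, 0, 0, 1, [5]⟩, ⟨96132,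
    0, 0, 3, [6]⟩]) (by decide +kernel)
theorem hR : 512 ≤ Nat.card (sub g dR) := low_sb gd hι (W := [[0], [1], [2], [3], [1, 2, 1], [1, 2, 1, 3, 2,
    3], [0, 1, 3, 1, 3]]) (ls := [⟨186790, 0, 0, 6, [0, 1, 2, 3]⟩, ⟨27839, 0, 0, 1, [4]⟩, ⟨8400, 0, 0, 3, [5]⟩,
    ⟨94758, 0, 0, 1, [6]⟩]) (by decide +kernel)
theorem hA : ∀ x, (∀ i, Commute x (Bulk.wv g (tr dD i).1)) → ∃ w ∈ dL, x = Bulk.wv g w := dcen_tr gd hι (cs :=
    [9, 11, 13, 15, 14, 49868, 45899, 221295564, 205304589, 2937546, 15237690316, 58217462817551, 66740825150413,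
    13139505934, 10, 4284606999491469]) card_cz_le (ls := [⟨141815, 0, 0, 8, [0, 1, 2, 3]⟩, ⟨56734, 0, 0, 2, [2,
    4, 5]⟩, ⟨22037, 56735, 0, 2, [6, 7, 8, 9]⟩, ⟨117519, 22038, 0, 2, [10, 11, 12, 13, 14]⟩, ⟨18532, 117520, 0, 0,
    []⟩, ⟨59732, 0, 0, 1, [15, 14]⟩, ⟨103716, 59733, 0, 0, []⟩, ⟨103277, 103717, 0, 0, []⟩, ⟨27524, 103278, 0, 0,
    []⟩, ⟨227366, 0, 0, 1, [14]⟩]) (U := [5]) (tp := [184526]) (by decide +kernel)
theorem G0_le {K : Subgroup Om} (h : ∀ l ∈ [1,2,3,4,5,6,7,8], gd.V l ∈ K) : G0 ≤ K :=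
  Dbl.G0_le ONP.top fun l hl => V_g ((by decide : ∀ l ∈ [1,2,3,4,5,6,7,8], l < 9) l hl) ▸ h l hl
theorem hW : G0 ≤ sub g (dW.map Prod.fst) := G0_le (mem_sub gd (by decide +kernel))
theorem hG : ¬ 2 ^ (9 + 1) ∣ Nat.card G0 := by rw [card_G0]; decide
theorem hy : ¬ 2 ^ (9 + 1) ∣ Nat.card ↥(G0 ⊓ C1 y) := by rw [card_c0]; decide
theorem cls : (∀ a ∈ G0, a * a = 1 → a = 1 ∨ Cl G0 (g 10) a ∨ Cl G0 (g 10) a) ∧
    (∀ x, x ∉ G0 → x * x = 1 → Cl G0 (g 1) x ∨ Cl G0 (g 1) x) ∧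
    ∀ Q ≤ ⊤ ⊓ C1 (g 1), IsPGroup 2 Q → Nat.card Q ≤ 2 ^ 4 :=
  classes (eW_iff gd hb ws) (iW_iff gd V_mem ws) index_G0 rfl (by decide) hG (pc_of (eW_iff gd hb ws) c0).1 hS c1 c2

end ONS

namespace ON

open ONS

theorem bas : ∃ T, Bas ⊤ G0 T z y 9 :=
  ⟨_, SG.bas (SG.eW_iff gd hb ws) (SG.iW_iff gd V_mem ws) index_G0 rfl (by decide) (by decide) hG simple aut
    (by decide) c0 hS c1 c2 c3 c4 c5 c6 c7 hA hR hy hW⟩

theorem ocl : ∀ x ∉ G0, x * x = 1 → Cl G0 so x := fun x h1 h2 => (cls.2.1 x h1 h2).elim id id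

theorem up : ∀ Q ≤ ⊤ ⊓ C1 so, IsPGroup 2 Q → Nat.card Q ≤ 2 ^ 4 := cls.2.2

end ON

end Cfsg.Lib.StdX
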