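import Cfsg.Agent.StdX.SuzD2
import Cfsg.Agent.StdX.SGen3

/-! The Sylow 2-subgroup and the classes of involutions. -/

set_option autoImplicit false
set_option maxRecDepth 100000
set_option Elab.async false

namespace Cfsg.Lib.StdX

open Subgroup Cfsg.Lib.Spor Cfsg.Lib.Spor.WM Cfsg.Lib.Known Cfsg.Lib.Known.PC Cfsg.Lib.Gold
open Cfsg.Lib.Spor.SuzP (base)
open Cfsg.Lib.Spor.WF (sub sb)
open Cfsg.Lib.Spor.Fm (pcT)
open Cfsg.Lib.StdM (Cl)

namespace SuzS

open Suz SG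

/-- the codes of the local letters -/
def ws : List ℕ := [0, 8, 15, 14, 1039, 11, 12, 54027, 4244492, 10, 3974090, 2654856, 3990478, 3453771, 9, 35,
    10942521224376906755, 1421717300628844843284, 2839835974783059387460, 146799896716831169759017, 99729,
    5072392, 5559631, 2192200, 2102082497134575785758, 5035280, 548740794150307534, 62169, 6354129, 3482837,
    5039624, 16, 4284951, 87191, 7409160447612772, 440003889585472772, 307684179583719270, 668542794397410708,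
    223155470, 25, 5067853, 12150420553, 5305867, 190395858, 3495378, 16497034513, 54287, 6652883, 5567188,
    190116950, 189850387, 50638, 4822361, 4285583, 391181579, 1, 2, 3, 4, 5, 6, 7]
theorem ws_eq_1' : type_of% @ws.eq_1 := @ws.eq_1
/-- equality of local words -/
noncomputable abbrev eO : List ℕ → List ℕ → Bool := eW gT 6 63 base ws
/-- the inner test -/
noncomputable abbrev iO : List ℕ → Bool := iW gT 6 63 1782 ws
/-- the local letters -/
noncomputable abbrev g (l : ℕ) : Om := gd.V (nth 0 ws l)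
/-- squares -/
def pP : List (List ℕ) := [[], [], [], [], [8, 10, 11], [], [], [], [], [], [14], [14], [], [], []]
theorem pP_eq_1' : type_of% @pP.eq_1 := @pP.eq_1
/-- commutators -/
def pC : List (List (List ℕ)) := [[], [[]], [[], [3, 5, 3, 4, 5, 6, 3]], [[], [11], [12]], [[], [7, 9, 8, 10,
    11, 12], [8, 11, 10], [5, 10, 5, 11, 12]], [[], [11, 14], [6, 8, 9, 10, 11], [10, 9, 12], [6, 7, 6, 12]], [[],
    [7, 9, 8, 10], [10, 14], [10, 12, 14], [9, 8, 9, 10, 12], []], [[], [13], [8, 11, 10, 12], [11, 12], [14],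
    [13], [13]], [[], [14], [12], [12], [12], [13], [], [13, 14]], [[], [11, 14], [10], [], [11, 13, 14], [], [],
    [], [13, 14]], [[], [11, 14], [14], [14], [12, 13, 14], [13], [14], [13, 14], [], [14]], [[], [14], [12],
    [14], [13, 14], [14], [13], [], [], [14], [14]], [[], [], [], [], [], [13, 14], [], [14], [], [14], [], []],
    [[], [], [14], [14], [14], [], [], [], [], [], [], [], []], [[], [], [], [], [], [], [], [], [], [], [], [],
    [], []]]
theorem pC_eq_1' : type_of% @pC.eq_1 := @pC.eq_1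
/-- a certificate -/
def d0 : Dt := (.spl (.spl (.spl (.spl (.spl (.spl (.spl (.spl (.leaf 0 [] []) (.leaf 1 [] [])) (.merge [3] []
    (.leaf 1 [16] []))) (.merge [5] [14] (.merge [9] [] (.leaf 1 [17] [])))) (.merge [2] [] (.merge [6] [] (.prune
    [])))) (.merge [1] [14] (.merge [5, 4] [] (.merge [5] [] (.prune []))))) (.merge [2] [] (.merge [1] [14] (.spl
    (.merge [1, 6, 1] [] (.merge [1, 9, 1] [] (.leaf 2 [] []))) (.merge [5] [14] (.prune [])))))) (.spl (.spl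
    (.spl (.merge [3] [] (.merge [5] [] (.merge [1] [] (.leaf 1 [18] [])))) (.merge [3] [14] (.merge [9] []
    (.prune [])))) (.merge [1] [] (.merge [3] [14] (.merge [9] [] (.prune []))))) (.merge [3, 2] [] (.merge [1] []
    (.merge [3] [14] (.prune [14])))))) (.merge [3, 2] [10, 12] (.spl (.spl (.merge [3] [12] (.spl (.merge [1] []
    (.merge [4] [] (.leaf 1 [19] []))) (.merge [1] [] (.prune [])))) (.merge [6, 1] [] (.merge [6, 1, 3] []
    (.prune [])))) (.spl (.merge [1, 5] [] (.merge [1, 5, 3] [] (.merge [5] [] (.merge [1, 9, 1] [] (.leaf 2 [20]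
    []))))) (.merge [3] [12] (.spl (.prune [14]) (.prune [14])))))))
theorem d0_eq_1' : type_of% @d0.eq_1 := @d0.eq_1
/-- a certificate -/
def d1 : Dt := (.merge [1, 2] [11, 9] (.merge [2, 4] [] (.spl (.merge [2] [14] (.spl (.merge [3, 2] [] (.merge
    [1, 9, 1] [] (.merge [3, 5, 3] [] (.leaf 2 [21] [])))) (.spl (.prune [14]) (.prune [14])))) (.merge [3] [12,
    14] (.spl (.spl (.merge [7] [] (.merge [2] [] (.leaf 2 [22] []))) (.merge [5] [14] (.prune []))) (.merge [2]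
    [14] (.prune [])))))))
theorem d1_eq_1' : type_of% @d1.eq_1 := @d1.eq_1
/-- a certificate -/
def d2 : Dt := (.merge [2, 1, 5] [7] (.merge [4, 6] [12] (.spl (.merge [3] [10, 12, 14] (.spl (.merge [1] [14]
    (.spl (.merge [1, 6, 1] [] (.merge [1, 9, 1] [] (.leaf 2 [23] []))) (.prune [14]))) (.spl (.spl (.prune [14])
    (.merge [2, 9, 2] [] (.merge [5] [] (.leaf 1 [24] [])))) (.spl (.prune []) (.merge [6] [14] (.prune []))))))
    (.merge [3, 9] [10] (.spl (.merge [1] [] (.spl (.prune []) (.merge [9] [] (.prune [])))) (.spl (.spl (.merge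
    [9] [] (.prune [])) (.prune [])) (.spl (.merge [9] [14] (.merge [5] [] (.leaf 2 [25] []))) (.prune
    [14]))))))))
theorem d2_eq_1' : type_of% @d2.eq_1 := @d2.eq_1
/-- a certificate -/
def d3 : Dt := (.spl (.spl (.merge [9, 1, 6] [9] (.prune [10, 11])) (.merge [5, 3] [] (.merge [2, 9] [] (.spl
    (.merge [1, 6, 2] [] (.prune [12, 13])) (.spl (.merge [9] [14] (.prune [13, 14])) (.merge [9] [14] (.merge [9,
    1] [13] (.spl (.merge [9, 2, 6] [] (.leaf 1 [26] [])) (.prune []))))))))) (.merge [2] [9, 13] (.prune [9, 8,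
    9, 10, 11, 12])))
theorem d3_eq_1' : type_of% @d3.eq_1 := @d3.eq_1
/-- a certificate -/
def d4 : Dt := (.spl (.spl (.spl (.spl (.spl (.merge [5, 6] [] (.merge [2, 6] [] (.merge [1] [] (.merge [2] []
    (.spl (.merge [1, 9, 1] [] (.leaf 2 [27] [])) (.prune [])))))) (.merge [5, 6] [14] (.merge [3, 6] [] (.merge
    [1] [14] (.prune []))))) (.merge [1, 6, 2] [] (.merge [5, 6] [] (.merge [6] [12] (.prune [12, 14]))))) (.merge
    [1, 9, 2] [9, 14] (.merge [1, 2, 1, 3] [14] (.merge [5, 6] [] (.prune [12]))))) (.merge [2, 3, 1] [7, 9, 14]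
    (.merge [4, 3] [9] (.spl (.prune [10, 12]) (.prune [10, 14]))))) (.spl (.spl (.merge [1, 6, 3] [9, 14] (.prune
    [13])) (.merge [1, 5, 9] [9, 10] (.merge [6] [12] (.spl (.spl (.merge [9] [] (.prune [13])) (.merge [9] []
    (.merge [6, 1, 2] [] (.merge [1, 7] [] (.merge [1, 2, 6] [] (.leaf 2 [28] [])))))) (.merge [1, 2, 6] []
    (.prune [12, 13])))))) (.merge [2, 1] [9] (.prune [8, 9, 10, 11, 12]))))
theorem d4_eq_1' : type_of% @d4.eq_1 := @d4.eq_1
/-- a certificate -/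
def d5 : Dt := (.merge [1, 9] [5, 4, 5, 6, 9] (.spl (.spl (.merge [4, 5] [9, 13] (.spl (.merge [4] [10, 11]
    (.spl (.merge [6] [] (.spl (.merge [3] [] (.spl (.merge [6, 9] [] (.leaf 2 [29] [])) (.prune []))) (.prune
    [14]))) (.prune [14]))) (.prune [10, 11, 12]))) (.prune [8, 9, 11, 10])) (.spl (.merge [5] [7, 9, 13, 14]
    (.spl (.merge [6] [] (.spl (.merge [9] [11, 12] (.spl (.merge [1, 6, 1] [] (.merge [1, 2, 9, 1] [] (.merge [9,
    2, 6] [] (.leaf 2 [30] [])))) (.prune [13]))) (.prune [11, 12]))) (.prune [11, 10, 12]))) (.prune [7, 9, 13,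
    14]))))
theorem d5_eq_1' : type_of% @d5.eq_1 := @d5.eq_1
/-- a certificate -/
def d6 : Dt := (.spl (.merge [2, 4] [4, 6] (.spl (.spl (.spl (.merge [6] [8, 9, 10] (.spl (.spl (.spl (.merge
    [9] [] (.merge [2, 1, 2] [14] (.merge [7] [] (.merge [3, 9] [] (.leaf 3 [] []))))) (.prune [14])) (.spl
    (.prune []) (.merge [3] [] (.spl (.merge [3, 5] [] (.merge [3, 9] [] (.leaf 4 [31] []))) (.merge [6, 1, 6]
    [14] (.prune [])))))) (.spl (.spl (.merge [5] [13] (.merge [3, 5] [] (.merge [6, 1, 6] [] (.prune []))))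
    (.prune [])) (.spl (.prune [13]) (.merge [5] [] (.merge [5, 3] [14] (.prune []))))))) (.prune [8, 9, 10]))
    (.spl (.merge [2, 1, 2, 3] [] (.merge [4, 3] [] (.merge [1, 3] [10, 12] (.spl (.prune []) (.merge [9] [14]
    (.spl (.prune [14]) (.merge [7] [] (.merge [5, 9] [] (.leaf 3 [32] []))))))))) (.prune [9, 8, 11, 10]))) (.spl
    (.spl (.prune [11, 9, 12]) (.merge [1, 5] [14] (.spl (.merge [5, 6] [] (.spl (.merge [1] [12, 13] (.merge [6,
    1, 6] [] (.spl (.prune []) (.merge [1, 5, 3, 5] [] (.leaf 4 [33] []))))) (.prune [12, 13, 14]))) (.merge [5,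
    6] [14] (.spl (.merge [1, 3, 9] [] (.prune [])) (.prune [13])))))) (.spl (.merge [6, 3] [14] (.merge [6, 1]
    [10, 14] (.prune [14]))) (.prune [11, 12, 14]))))) (.prune [5, 9, 4, 5, 6, 10]))
theorem d6_eq_1' : type_of% @d6.eq_1 := @d6.eq_1
/-- commutators -/
def dD : List (List ℕ × List ℕ × List ℕ) := [([14], [2], [6, 9]), ([2, 3, 2, 3], [3], [2]), ([9], [3], [5,
    6]), ([13], [9], [2, 5, 9, 2]), ([6, 9], [3, 2, 3], [4, 5]), ([2, 9, 2], [5, 2], [6, 3]), ([7], [5, 3], [4,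
    6])]
theorem dD_eq_1' : type_of% @dD.eq_1 := @dD.eq_1
/-- the centraliser of the derived group -/
def dL : List (List ℕ) := [[], [14], [13], [13, 14]]
theorem dL_eq_1' : type_of% @dL.eq_1 := @dL.eq_1
/-- conjugates of the central involution -/
def dZ : List (List ℕ × List ℕ) := [([14], []), ([7], [19]), ([5, 9], [24, 5, 3]), ([8], [18]), ([2, 3, 2, 3],
    [17]), ([3, 5, 3, 9], [24, 5]), ([3, 7, 3], [19, 3]), ([2, 7, 2], [19, 2]), ([4, 2, 6, 2, 9], [26]), ([2, 5,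
    9, 2], [24, 2, 3, 6])]
theorem dZ_eq_1' : type_of% @dZ.eq_1 := @dZ.eq_1
/-- involutions -/
def dI : List (List ℕ) := [[3], [2]]
theorem dI_eq_1' : type_of% @dI.eq_1 := @dI.eq_1
/-- products of involutions -/
def dJ : List (List ℕ) := [[], [], [1], [0], [2, 9, 8], [3, 4, 5, 7, 6], [1, 7, 9, 5], [1], [3], [2, 3, 4, 5,
    7, 6], [3, 6, 7], [1, 6, 4], [4], [1, 2, 1, 2], [0]]
theorem dJ_eq_1' : type_of% @dJ.eq_1 := @dJ.eq_1
/-- involutions commuting with the second involution -/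
def dR : List (List ℕ) := [[14], [9], [5], [6], [3], [7]]
theorem dR_eq_1' : type_of% @dR.eq_1 := @dR.eq_1
/-- elements of the first centraliser -/
def dC : List (List ℕ) := [[38], [39], [40], [41], [42], [43], [44], [45], [46], [47], [48], [49], [50], [51],
    [52], [53], [54]]
theorem dC_eq_1' : type_of% @dC.eq_1 := @dC.eq_1
/-- elements of the second centraliser -/
def dA : List (List ℕ) := [[34], [35], [36], [37]]
theorem dA_eq_1' : type_of% @dA.eq_1 := @dA.eq_1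
/-- the generators -/
def dW : List (List ℕ × List ℕ) := [([55], [0, 17, 1, 18, 2]), ([56], [3, 17, 1, 18, 4]), ([57], [5, 19, 1,
    18, 6]), ([58], [7, 17, 8, 20, 9]), ([59], [10, 17, 8, 20, 11]), ([60], [12, 17, 13, 17, 14]), ([61], [15, 19,
    1, 18, 16])]
theorem dW_eq_1' : type_of% @dW.eq_1 := @dW.eq_1
theorem c0 : SG.pcB eO 14 4 pP pC = true := by decide +kernel
theorem c1 : miB eO iO 14 9 15 [9] [1,4] = true := by decide +kernel
theorem t0 : d0.chk eO 14 (lfB eO 14 14 9 15) 7 [] = true := by decide +kernel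
theorem t1 : d1.chk eO 14 (lfB eO 14 14 9 15) 7 [6] = true := by decide +kernel
theorem t2 : d2.chk eO 14 (lfB eO 14 14 9 15) 6 [5] = true := by decide +kernel
theorem t3 : d3.chk eO 14 (lfB eO 14 14 9 15) 5 [4] = true := by decide +kernel
theorem t4 : d4.chk eO 14 (lfB eO 14 14 9 15) 4 [3] = true := by decide +kernel
theorem t5 : d5.chk eO 14 (lfB eO 14 14 9 15) 3 [2] = true := by decide +kernel
theorem t6 : d6.chk eO 14 (lfB eO 14 14 9 15) 2 [1] = true := by decide +kernel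
theorem c2 : Dt.chk eO 14 (lfB eO 14 14 9 15) (.spl (.spl (.spl (.spl (.spl (.spl d0 d1) d2) d3) d4) d5) d6) 1
    [] = true := (Dt.chk_spl _ _ rfl (Dt.chk_spl _ _ rfl (Dt.chk_spl _ _ rfl (Dt.chk_spl _ _ rfl (Dt.chk_spl _ _
    rfl (Dt.chk_spl _ _ rfl t0 t1) t2) t3) t4) t5) t6)
theorem c3 : deB eO 14 dD [17] = true := by decide +kernel
theorem c4 : laB eO 14 13 dL = true := by decide +kernel
theorem c5 : geB eO 14 4 dI dZ dJ = true := by decide +kernel
theorem c6 : ryB eO 14 9 dR [4] [2,3] = true := by decide +kernel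
theorem c7 : alB eO iO 14 (tr dD 3).1 dC dA dW = true := by decide +kernel
theorem hS : 2 ^ 14 ≤ Nat.card (pcT g 14 1) := low_pc gd hι (W := [[1], [14], [9], [3], [2], [3, 2, 6], [4,
    2], [5, 9, 14], [1, 6, 1, 2, 3], [1, 5, 1, 6, 9], [13, 14], [2, 3, 5, 3, 9, 2]]) (ls := [⟨1696, 0, 0, 5, [0,
    1, 2, 3, 4]⟩, ⟨108, 0, 0, 2, [5, 6]⟩, ⟨718, 0, 0, 2, [7, 8]⟩, ⟨295, 0, 0, 1, [9]⟩, ⟨430, 0, 0, 2, [10, 11]⟩])
    (by decide +kernel)
theorem hR : 512 ≤ Nat.card (sub g dR) := low_sb gd hι (W := [[0], [1], [3], [4], [5], [1, 2], [4, 2, 4, 5,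
    2]]) (ls := [⟨3321, 0, 0, 5, [0, 1, 2, 3, 4]⟩, ⟨1661, 0, 0, 1, [5]⟩, ⟨593, 0, 0, 3, [6]⟩]) (by decide +kernel)
theorem hA : ∀ x, (∀ i, Commute x (Bulk.wv g (tr dD i).1)) → ∃ w ∈ dL, x = Bulk.wv g w := dcen_tr gd hι (cs :=
    [8, 11, 13, 17, 12, 14, 15, 1039, 70734, 3453771, 3986379, 4248589, 5866197, 224183755, 5813781, 9,
    207401815]) cz_le (ls := [⟨570, 0, 0, 7, [0, 1, 2, 3]⟩, ⟨630, 571, 0, 0, []⟩, ⟨1454, 0, 0, 4, [4, 5, 6, 3]⟩,
    ⟨1742, 1455, 0, 3, [7, 8]⟩, ⟨2155, 0, 0, 2, [9, 10, 11]⟩, ⟨3405, 2156, 0, 2, [12, 13, 14]⟩, ⟨3236, 0, 0, 1,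
    [15, 16]⟩, ⟨862, 0, 0, 1, [15]⟩]) (U := [2, 5, 6]) (tp := [917]) (by decide +kernel)
theorem hW : G0 ≤ sub g (dW.map Prod.fst) := G0_le (mem_sub gd (by decide +kernel))
theorem hG : ¬ 2 ^ (13 + 1) ∣ Nat.card G0 := by rw [card_G0]; decide
theorem hy : ¬ 2 ^ (9 + 1) ∣ Nat.card ↥(G0 ⊓ C1 y) := by rw [card_c0y]; decide
theorem cls : (∀ a ∈ G0, a * a = 1 → a = 1 ∨ Cl G0 (g 14) a ∨ Cl G0 (g 9) a) ∧
    (∀ x, x ∉ G0 → x * x = 1 → Cl G0 (g 1) x ∨ Cl G0 (g 15) x) ∧
    ∀ Q ≤ ⊤ ⊓ C1 (g 1), IsPGroup 2 Q → Nat.card Q ≤ 2 ^ 14 :=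
  classes (eW_iff gd hb ws) (iW_iff gd V_mem ws) index rfl (by decide) hG (pc_of (eW_iff gd hb ws) c0).1 hS c1 c2

end SuzS

namespace Suz

open SuzS

theorem bas : ∃ T, Bas ⊤ G0 T z y 13 :=
  ⟨_, SG.bas (SG.eW_iff gd hb ws) (SG.iW_iff gd V_mem ws) index rfl (by decide) (by decide) hG simple aut
    (by decide) c0 hS c1 c2 c3 c4 c5 c6 c7 hA hR hy hW⟩

theorem ocl : ∀ x ∉ G0, x * x = 1 → Cl G0 so x ∨ Cl G0 sp x := cls.2.1

end Suz

end Cfsg.Lib.StdX
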