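import Cfsg.Agent.StdX.Defs2

/-!
# Standard subgroups with two classes of involutions: the centre of `D` of order four
-/

set_option autoImplicit false

namespace Cfsg.Lib.StdX

open Subgroup Cfsg.Lib.Gold Cfsg.Lib.Trans Cfsg.Lib.StdSz Cfsg.Lib.StdW
open Cfsg.Lib.StdM (Cl)
open scoped commutatorElement

variable {Ω : Type*} [Group Ω]

/-- facts on the derived group `D` of the centraliser of `z` -/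
structure VG (Γ Γ0 D V : Subgroup Ω) (z γ m k : Ω) : Prop where
  D0 : D ≤ Γ0 ⊓ C1 z
  perf : D ≤ ⁅D, D⁆
  der : ⁅Γ ⊓ C1 z, Γ ⊓ C1 z⁆ ≤ D
  aut : ∀ φ : MulAut D, ∃ g ∈ Γ ⊓ C1 z, ∀ x : D, (φ x : Ω) = g * x * g⁻¹
  γ0 : γ ∈ Γ ⊓ C1 z
  γ1 : γ ∉ Γ0
  VD : V ≤ D
  zV : z ∈ V
  cV : Γ ⊓ Cs V ≤ Γ0
  m0 : m ∈ Γ0 ⊓ Ns V
  k0 : k ∈ Γ0 ⊓ Ns (cj γ V)
  mz : k * z * k⁻¹ = z * (γ * (m * z * m⁻¹) * γ⁻¹)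

theorem VF.vg {Γ Γ0 D V : Subgroup Ω} {z γ m k : Ω} (h : VF Γ Γ0 D V z γ m k) :
    VG Γ Γ0 D V z γ m k := { h with }

/-- facts for `D` of index two in the centraliser of `z`, with centraliser of order four -/
structure Hd (Γ Γ0 D R : Subgroup Ω) (z w α h c : Ω) : Prop where
  wD : w ∈ D
  w2 : w * w = z
  wc : w ∈ Cs D
  cD : Γ ⊓ Cs D ≤ zpowers w
  α0 : α ∈ Γ0 ⊓ C1 z
  α2 : α * α = 1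
  αw : α * w * α⁻¹ = w⁻¹
  gen : Γ0 ⊓ C1 z ≤ D ⊔ zpowers α
  RD : R ≤ D
  h0 : h ∈ Γ0 ⊓ Cs R
  hz : h * z * h⁻¹ = α
  hα : h * α * h⁻¹ = z * α
  c0 : c ∈ Γ0 ⊓ C1 z ⊓ Ns R
  cα : c * (α * w) * c⁻¹ = α
  nf : ∀ e ∈ Γ ⊓ C1 z ⊓ C1 α, ∃ r ∈ R, e * r * e⁻¹ ≠ c * r * c⁻¹

/-- the alternative on `D` -/
def Fn (Γ Γ0 D : Subgroup Ω) (z : Ω) : Prop :=
  Γ0 ⊓ C1 z ≤ D ∨ ∃ R w α h c, Hd Γ Γ0 D R z w α h c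

/-- all facts on the model -/
def Mod3 (Γ Γ0 : Subgroup Ω) : Prop :=
  ∃ (T : Subgroup Ω) (z y : Ω) (n : ℕ), Bas Γ Γ0 T z y n ∧ YD2 Γ Γ0 z y ∧
    (∃ σ σ' l u, Out Γ Γ0 σ σ' n l u) ∧ (∃ D V γ m k, VG Γ Γ0 D V z γ m k ∧ Fn Γ Γ0 D z) ∧
      Clq Γ Γ0 z

end Cfsg.Lib.StdX
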