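import Cfsg.Agent.StdX.Tm
import Cfsg.Agent.StdX.Defs3

/-!
# Automorphisms of a subgroup of a word model, generator by generator
-/

set_option autoImplicit false

namespace Cfsg.Lib.StdX

open Subgroup Equiv Cfsg.Lib.Spor Cfsg.Lib.Spor.WM Cfsg.Lib.Known Cfsg.Lib.Known.PC
open Cfsg.Lib.Gold Cfsg.Lib.Trans
open scoped commutatorElement

section Abstract

variable {G : Type*} [Group G]

theorem Tm.val_map {A : Type*} [Group A] (f : A →* G) (g : ℕ → A) (t : Tm) :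
    f (t.val g) = t.val fun i => f (g i) := by
  induction t with
  | c i => rfl
  | one => exact map_one f
  | mul x y hx hy => exact (map_mul f _ _).trans (congrArg₂ _ hx hy)
  | inv x hx => exact (map_inv f _).trans (congrArg _ hx)
  | pw x k hx => exact (map_pow f _ _).trans (congrArg (· ^ k) hx)
  | cm x y hx hy => exact (map_commutatorElement f _ _).trans (congrArg₂ _ hx hy)
  | cj x y hx hy =>
    change f (x.val g * y.val g * (x.val g)⁻¹) = x.val _ * y.val _ * (x.val _)⁻¹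
    rw [map_mul, map_mul, map_inv, hx, hy]

/-- shift the atoms -/
noncomputable def Tm.sh (t : Tm) : Tm :=
  Tm.rec (fun i => .c (i + 1)) .one (fun _ _ a b => .mul a b) (fun _ a => .inv a) (fun _ k a => .pw a k)
    (fun _ _ a b => .cm a b) (fun _ _ a b => .cj a b) t

theorem Tm.sh_eq_1' : type_of% @Tm.sh.eq_1 := @Tm.sh.eq_1

theorem Tm.val_sh (g : ℕ → G) (t : Tm) : t.sh.val g = t.val fun i => g (i + 1) := by
  induction t with
  | c i => rfl
  | one => rfl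
  | mul x y hx hy => exact congrArg₂ (· * ·) hx hy
  | inv x hx => exact congrArg (·⁻¹) hx
  | pw x k hx => exact congrArg (· ^ k) hx
  | cm x y hx hy => exact congrArg₂ (⁅·, ·⁆) hx hy
  | cj x y hx hy => exact congrArg₂ (fun a b => a * b * a⁻¹) hx hy

/-- elements of prime order `p` are conjugate up to powers if `p ^ 2` does not divide the order -/
theorem conj_pow_of_sylow [Finite G] {p : ℕ} (hp : p.Prime) (hG : ¬ p ^ 2 ∣ Nat.card G) {r s : G}
    (r1 : r ≠ 1) (rp : r ^ p = 1) (s1 : s ≠ 1) (sp : s ^ p = 1) :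
    ∃ g i, 0 < i ∧ i < p ∧ s = g * r ^ i * g⁻¹ := by
  classical
  have := Fact.mk hp
  have key : ∀ {x : G}, x ≠ 1 → x ^ p = 1 →
      Nat.card (zpowers x) = p ^ (Nat.card G).factorization p := fun {x} x1 xp => by
    have ho : orderOf x = p := orderOf_eq_prime xp x1
    have h1 : p ^ 1 ∣ Nat.card G := by rw [pow_one, ← ho]; exact orderOf_dvd_natCard x
    rw [hp.pow_dvd_iff_le_factorization Nat.card_pos.ne'] at h1 hG
    rw [Nat.card_zpowers, ho, show (Nat.card G).factorization p = 1 by omega, pow_one]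
  obtain ⟨g, hg⟩ := MulAction.exists_smul_eq G (Sylow.ofCard _ (key r1 rp)) (Sylow.ofCard _ (key s1 sp))
  have hs : s ∈ ((g • Sylow.ofCard _ (key r1 rp) : Sylow p G) : Subgroup G) := by
    rw [hg]; exact mem_zpowers s
  rw [Sylow.coe_subgroup_smul, mem_pointwise_smul_iff_inv_smul_mem] at hs
  have hs' : g⁻¹ * s * g ∈ zpowers r := by simpa using hs
  obtain ⟨i, hi, e⟩ := (mem_zpowers_iff_mem_range_orderOf.trans Finset.mem_image).1 hs'
  rw [Finset.mem_range, orderOf_eq_prime rp r1] at hi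
  refine ⟨g, i, Nat.pos_of_ne_zero ?_, hi, by rw [e]; group⟩
  rintro rfl
  exact s1 (by rw [← mul_inv_cancel_right s g, ← mul_inv_cancel_left g (s * g), ← mul_assoc g⁻¹, ← e]; simp)

/-- embeddings of `D` in `H ⊓ K` agree on the elements `ys` with a conjugation by `K` -/
def Rig (V : ℕ → G) (H K D : Subgroup G) (ys : List ℕ) : Prop :=
  ∀ ψ : D →* G, Function.Injective ψ → (∀ x, ψ x ∈ H ⊓ K) →
    ∃ g ∈ K, ∀ x : D, (∃ c ∈ ys, V c = x) → ψ x = g * x * g⁻¹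

theorem Rig_eq_1' : type_of% @Rig.eq_1 := @Rig.eq_1

theorem Rig.aut {V : ℕ → G} {H K : Subgroup G} {xs : List ℕ} (h : Rig V H K (gn V xs) xs)
    (hD : gn V xs ≤ H ⊓ K) (φ : MulAut (gn V xs)) :
    ∃ g ∈ ⊤ ⊓ K, ∀ x : gn V xs, (φ x : G) = g * x * g⁻¹ := by
  obtain ⟨g, hg, e⟩ := h ((gn V xs).subtype.comp φ.toMonoidHom)
    (Subtype.val_injective.comp φ.injective) fun x => hD (φ x).2
  refine ⟨g, ⟨trivial, hg⟩, fun ⟨x, hx⟩ => ?_⟩
  induction hx using closure_induction with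
  | mem x hx => exact e ⟨x, subset_closure hx⟩ hx
  | one => exact (congrArg Subtype.val (map_one φ)).trans (by simp)
  | mul x y hx hy a b =>
    refine (congrArg Subtype.val (map_mul φ ⟨x, hx⟩ ⟨y, hy⟩)).trans ?_
    rw [coe_mul, a, b]; simp [mul_assoc]
  | inv x hx a =>
    refine (congrArg Subtype.val (map_inv φ ⟨x, hx⟩)).trans ?_
    rw [coe_inv, a]; simp [mul_assoc]

theorem Rig.syl [Finite G] {V : ℕ → G} {H K D : Subgroup G} (hD : D ≤ K) {p : ℕ} (hp : p.Prime)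
    (hK : ¬ p ^ 2 ∣ Nat.card K) {r : ℕ} (rD : V r ∈ D) (r1 : V r ≠ 1) (rp : V r ^ p = 1)
    (hq : ∀ i, 0 < i → i < p → ∃ q ∈ K, q * V r = V r ^ i * q) : Rig V H K D [r] := fun ψ hi hψ => by
  obtain ⟨g, i, i0, ip, e⟩ := conj_pow_of_sylow hp hK (r := ⟨V r, hD rD⟩) (s := ⟨ψ ⟨V r, rD⟩, (hψ _).2⟩)
    (fun e => r1 (congrArg Subtype.val e)) (Subtype.ext rp)
    (fun e => r1 (congrArg Subtype.val (hi ((congrArg Subtype.val e).trans (map_one ψ).symm))))
    (Subtype.ext ((map_pow ψ _ _).symm.trans ((congrArg ψ (Subtype.ext rp)).trans (map_one ψ))))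
  obtain ⟨q, qK, k⟩ := hq i i0 ip
  refine ⟨g * q, K.mul_mem g.2 qK, fun ⟨x, hx⟩ ⟨c, hc, a⟩ => ?_⟩
  obtain rfl := List.mem_singleton.1 hc
  obtain rfl : V c = x := a
  have e' : ψ ⟨V c, hx⟩ = g * V c ^ i * (g : G)⁻¹ := congrArg Subtype.val e
  rw [e', ← mul_inv_cancel_right (V c ^ i) q, ← k]; group

theorem Rig.step {V : ℕ → G} (V0 : V 0 = 1) {H K D : Subgroup G} [H.Normal] {ys : List ℕ} {x : ℕ}
    (h : Rig V H K D ys) (hD : ∀ c ∈ x :: ys, V c ∈ D)
    (hs : ∀ e : ℕ → G, e 0 ∈ H ⊓ K → (∀ j, e (j + 1) = V (nth 0 ys j)) →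
      (∀ t : Tm, (t.val fun i => V (nth 0 (x :: ys) i)) = 1 ↔ t.val e = 1) →
      ∃ q ∈ K, (∀ c ∈ ys, q * V c = V c * q) ∧ e 0 * q = q * V x) : Rig V H K D (x :: ys) :=
  fun ψ hi hψ => by
  obtain ⟨g, gK, e⟩ := h ψ hi hψ
  have hn : ∀ {l : List ℕ} (i : ℕ), nth 0 l i = 0 ∨ nth 0 l i ∈ l := fun {l} i => by
    rw [nth_eq, List.getD_eq_getElem?_getD]
    cases e : l[i]? with
    | none => exact Or.inl rfl
    | some c => exact Or.inr (List.mem_of_getElem? e)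
  have hm : ∀ i, V (nth 0 (x :: ys) i) ∈ D := fun i =>
    (hn i).elim (fun a => by rw [a, V0]; exact D.one_mem) (hD _)
  let f : D →* G := (MulAut.conj g⁻¹).toMonoidHom.comp ψ
  have fe : ∀ y, f y = g⁻¹ * ψ y * g := fun y => by simp [f]
  have fi : Function.Injective f := (MulAut.conj g⁻¹).injective.comp hi
  obtain ⟨q, qK, q1, q2⟩ := hs (fun i => f ⟨_, hm i⟩) (by
    rw [fe]
    exact ⟨Normal.conj_mem' inferInstance _ (hψ _).1 g,
      K.mul_mem (K.mul_mem (K.inv_mem gK) (hψ _).2) gK⟩) (fun j => by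
    have hj : V (nth 0 ys j) ∈ D := hm (j + 1)
    change f ⟨_, hj⟩ = _
    rcases hn (l := ys) j with a | a
    · rw [show (⟨_, hj⟩ : D) = 1 from Subtype.ext ((congrArg V a).trans V0), map_one, a, V0]
    · rw [fe, e _ ⟨_, a, rfl⟩]; group) fun t => by
    rw [← Tm.val_map f, map_eq_one_iff f fi]
    exact (show _ = t.val fun i => V (nth 0 (x :: ys) i) from
      Tm.val_map D.subtype (fun i => ⟨_, hm i⟩) t) ▸ OneMemClass.coe_eq_one
  refine ⟨g * q, K.mul_mem gK qK, fun ⟨y, hy⟩ ⟨c, hc, a⟩ => ?_⟩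
  obtain rfl : V c = y := a
  rcases List.mem_cons.1 hc with rfl | hc
  · have : g⁻¹ * ψ ⟨V c, hy⟩ * g * q = q * V c := (fe _) ▸ q2
    rw [mul_assoc g, ← this]; group
  · rw [e _ ⟨c, hc, rfl⟩, mul_assoc g q, q1 c hc]; group

theorem mem_Ns_gn [Finite G] {V : ℕ → G} {vs : List ℕ} {m : G}
    (h : ∀ c ∈ vs, m * V c * m⁻¹ ∈ gn V vs) : m ∈ Ns (gn V vs) :=
  mem_normalizer_fintype fun _ hx =>
    gn_le (K := (gn V vs).comap (MulAut.conj m).toMonoidHom) h hx

theorem der_of_index {H : Subgroup G} (h : H.index = 2) (K : Subgroup G) : ⁅K, K⁆ ≤ H ⊓ K :=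
  commutator_le.2 fun a ha b hb => mem_inf.2 ⟨by
    simp only [commutatorElement_def, mul_mem_iff_of_index_two h, inv_mem_iff]
    tauto, by
    rw [commutatorElement_def]
    exact K.mul_mem (K.mul_mem (K.mul_mem ha hb) (K.inv_mem ha)) (K.inv_mem hb)⟩

theorem der_of_gn {V : ℕ → G} {ks : List ℕ} {D : Subgroup G} (h1 : ∀ c ∈ ks, V c ∈ Ns D)
    (h2 : ∀ c ∈ ks, ∀ c' ∈ ks, ⁅V c, V c'⁆ ∈ D) : ⁅gn V ks, gn V ks⁆ ≤ D := by
  have hN : gn V ks ≤ Ns D := gn_le h1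
  have cj : ∀ {g d : G}, g ∈ gn V ks → d ∈ D → g * d * g⁻¹ ∈ D := fun hg hd =>
    (mem_normalizer_iff.1 (hN hg) _).1 hd
  refine commutator_le.2 fun a ha b hb => ?_
  induction ha, hb using closure_induction₂ with
  | mem x y hx hy =>
    obtain ⟨c, hc, rfl⟩ := hx
    obtain ⟨c', hc', rfl⟩ := hy
    exact h2 c hc c' hc'
  | one_left => simp
  | one_right => simp
  | mul_left x y z hx hy hz a b =>
    rw [show ⁅x * y, z⁆ = x * ⁅y, z⁆ * x⁻¹ * ⁅x, z⁆ by simp only [commutatorElement_def]; group]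
    exact D.mul_mem (cj hx b) a
  | mul_right y z x hy hz hx a b =>
    rw [show ⁅x, y * z⁆ = ⁅x, y⁆ * (y * ⁅x, z⁆ * y⁻¹) by simp only [commutatorElement_def]; group]
    exact D.mul_mem a (cj hy b)
  | inv_left x y hx hy a =>
    rw [show ⁅x⁻¹, y⁆ = x⁻¹ * ⁅x, y⁆⁻¹ * x⁻¹⁻¹ by simp only [commutatorElement_def]; group]
    exact cj (inv_mem hx) (D.inv_mem a)
  | inv_right x y hx hy a =>
    rw [show ⁅x, y⁻¹⁆ = y⁻¹ * ⁅x, y⁆⁻¹ * y⁻¹⁻¹ by simp only [commutatorElement_def]; group]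
    exact cj (inv_mem hy) (D.inv_mem a)

end Abstract

theorem fst_zip {l : List ℕ} {L : List (List ℕ)} (e : l.length ≤ L.length) :
    (l.zip L).map Prod.fst = l := List.map_fst_zip e

/-- the data of one step: `x a = b x`, relations, non-relations, conjugating elements, chain -/
structure Stp where
  a : Tm
  b : Tm
  R : List Tm
  S : List Tm
  C : List ℕ
  cs : List ℕ
  ls : List ILev

section Checks

variable (T : FT) (b m : ℕ) (base : List ℕ) (ι : ℕ → ℕ)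

/-- all of `cs` commute with `c` -/
noncomputable def comB (c : ℕ) (cs : List ℕ) : Bool :=
  frc c fun c => lall (fun q => eqvF T b m base (mulF b q c) (mulF b c q)) cs

theorem comB_eq_1' : type_of% @comB.eq_1 := @comB.eq_1

/-- all of `cs` are inner -/
noncomputable def innB (n0 : ℕ) (cs : List ℕ) : Bool := lall (fun c => Nat.blt (appF T b m c 0) n0) cs

theorem innB_eq_1' : type_of% @innB.eq_1 := @innB.eq_1

/-- the listed elements are the listed words in `xs` -/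
noncomputable def memB (xs : List ℕ) (L : List (ℕ × List ℕ)) : Bool :=
  lall (fun p => eqvF T b m base p.1 (wdC ι b m xs p.2)) L

theorem memB_eq_1' : type_of% @memB.eq_1 := @memB.eq_1

/-- the conjugates of `vs` under `g` are the listed words in `vs` -/
noncomputable def nrmB (g : ℕ) (vs : List ℕ) (L : List (List ℕ)) : Bool :=
  nall (fun i => eqvF T b m base (mulF b g (nth 0 vs i)) (mulF b (wdC ι b m vs (nth [] L i)) g)) (llen vs)

theorem nrmB_eq_1' : type_of% @nrmB.eq_1 := @nrmB.eq_1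

/-- the elements `xs` are words in commutators of words in `xs` -/
noncomputable def perfB (xs : List ℕ) (P : List (List ℕ × List ℕ)) (L : List (List ℕ)) : Bool :=
  WM.mapK (fun i => frc (wdC ι b m xs (nth ([], []) P i).1) fun x =>
      frc (wdC ι b m xs (nth ([], []) P i).2) fun y =>
        mulF b (mulF b (mulF b x y) (invF ι b m x)) (invF ι b m y)) (List.range (llen P)) fun cs =>
    nall (fun i => eqvF T b m base (nth 0 xs i) (wdC ι b m cs (nth [] L i))) (llen xs)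

theorem perfB_eq_1' : type_of% @perfB.eq_1 := @perfB.eq_1

/-- the first step -/
noncomputable def sylB (cz r p : ℕ) (Q : List ℕ) : Bool :=
  band (band (bnot (eqvF T b m base r 0)) (eqvF T b m base (pwC b r p) 0)) (band (comB T b m base cz Q)
    (nall (fun i => bor (Nat.beq i 0) (frc (nth 0 Q i) fun q =>
      eqvF T b m base (mulF b q r) (mulF b (pwC b r i) q))) p))

theorem sylB_eq_1' : type_of% @sylB.eq_1 := @sylB.eq_1

/-- the test at a leaf -/
noncomputable def leafB (n0 : ℕ) (ys : List ℕ) (x ca cb : ℕ) (s : Stp) (c : ℕ) : Bool :=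
  bor (bor (Nat.ble n0 (appF T b m c 0)) (bnot (eqvF T b m base (mulF b c ca) (mulF b cb c))))
    (bor (lany (fun t => bnot (eqvF T b m base (t.code ι b m (nth 0 (c :: ys))) 0)) s.R)
      (bor (lany (fun t => eqvF T b m base (t.code ι b m (nth 0 (c :: ys))) 0) s.S)
        (lany (fun q => eqvF T b m base (mulF b c q) (mulF b q x)) s.C)))

theorem leafB_eq_1' : type_of% @leafB.eq_1 := @leafB.eq_1

/-- a further step; in the relations the atom `0` is the new element, the atom `i + 1` the `i`-th old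
one; in `a`, `b` the atom `i` is the `i`-th old element -/
noncomputable def stepB (n n0 cz N : ℕ) (ys : List ℕ) (x : ℕ) (s : Stp) : Bool :=
  frc (s.a.code ι b m (nth 0 ys)) fun ca => frc (s.b.code ι b m (nth 0 ys)) fun cb =>
    band (band (band (eqvF T b m base (mulF b x ca) (mulF b cb x))
      (band (lall (fun t => eqvF T b m base (t.code ι b m (nth 0 (x :: ys))) 0) s.R)
        (lall (fun t => bnot (eqvF T b m base (t.code ι b m (nth 0 (x :: ys))) 0)) s.S)))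
      (band (comB T b m base cz (ca :: cb :: (s.cs ++ s.C))) (lall (fun y => comB T b m base y s.C) ys)))
      (conjAllB (fops T b m base n ι) s.cs N s.ls ca cb (leafB T b m base ι n0 ys x ca cb s))

theorem stepB_eq_1' : type_of% @stepB.eq_1 := @stepB.eq_1

/-- the centraliser of `vs` is inner; `L` is a word in `vs` -/
noncomputable def cvB (n n0 cz N : ℕ) (vs L cs : List ℕ) (ls : List ILev) : Bool :=
  frc (wdC ι b m vs L) fun cx => cenAllB (fops T b m base n ι) cs N ls cz cx fun c =>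
    bor (Nat.blt (appF T b m c 0) n0) (lany (fun u => bnot (eqvF T b m base (mulF b c u) (mulF b u c))) vs)

theorem cvB_eq_1' : type_of% @cvB.eq_1 := @cvB.eq_1

/-- the facts on `γ`, `p` and `q` -/
noncomputable def mzB (n0 cz γ p q : ℕ) (vs Lz : List ℕ) (Lp Lq : List (List ℕ)) : Bool :=
  band (band (band (comB T b m base cz [γ]) (Nat.ble n0 (appF T b m γ 0))) (memB T b m base ι vs [(cz, Lz)]))
    (band (band (innB T b m n0 [p, q]) (band (nrmB T b m base ι p vs Lp) (nrmB T b m base ι q vs Lq)))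
      (eqvF T b m base ((Tm.cj (.cj (.c 1) (.c 3)) (.c 0)).code ι b m (nth 0 [cz, γ, p, q]))
        ((Tm.mul (.c 0) (.cj (.c 1) (.cj (.c 2) (.c 0)))).code ι b m (nth 0 [cz, γ, p, q]))))

theorem mzB_eq_1' : type_of% @mzB.eq_1 := @mzB.eq_1

end Checks

variable {G : Type} [Group G] {n : ℕ} {ρ : G →* Perm (Fin n)} {T : FT} {b m : ℕ} {base : List ℕ}
  (h : Good ρ T b m base)

theorem of_comB {c : ℕ} {cs : List ℕ} (e : comB T b m base c cs = true) :
    ∀ q ∈ cs, h.V q * h.V c = h.V c * h.V q := fun q hq => by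
  have := h.eq_of_eqvF (lall_iff.1 ((frc_eq _ _).symm.trans e) q hq)
  rwa [V_mulF, V_mulF] at this

theorem C1_of_comB {c : ℕ} {cs : List ℕ} (e : comB T b m base c cs = true) :
    ∀ q ∈ cs, h.V q ∈ C1 (h.V c) := fun q hq => mem_centralizer_singleton_iff.2 (of_comB h e q hq)

theorem of_innB {H : Subgroup G} {n0 : ℕ} (hH : ∀ c, h.V c ∈ H ↔ appF T b m c 0 < n0) {cs : List ℕ}
    (e : innB T b m n0 cs = true) : ∀ c ∈ cs, h.V c ∈ H := fun c hc =>
  (hH c).2 (Nat.blt_eq.mp (lall_iff.1 e c hc))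

theorem gn_le_inf {H : Subgroup G} {n0 : ℕ} (hH : ∀ c, h.V c ∈ H ↔ appF T b m c 0 < n0) {cz : ℕ}
    {cs : List ℕ} (e : band (innB T b m n0 cs) (comB T b m base cz cs) = true) :
    gn h.V cs ≤ H ⊓ C1 (h.V cz) :=
  gn_le fun c hc => ⟨of_innB h hH (band_iff.1 e).1 c hc, C1_of_comB h (band_iff.1 e).2 c hc⟩

theorem exists_nth {l : List ℕ} {c : ℕ} (hc : c ∈ l) : ∃ i < llen l, nth 0 l i = c := by
  obtain ⟨i, hi, rfl⟩ := List.getElem_of_mem hc
  exact ⟨i, by rwa [llen_eq], by rw [nth_eq, List.getD_eq_getElem _ _ hi]⟩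

variable {ι : ℕ → ℕ} (hι : invB T b m base ι = true)
include hι

theorem wdC_gn (xs L : List ℕ) : h.V (wdC ι b m xs L) ∈ gn h.V xs :=
  wdC_mem h hι (fun _ hc => mem_gn _ hc) L

theorem of_memB {xs : List ℕ} {L : List (ℕ × List ℕ)} (e : memB T b m base ι xs L = true) :
    ∀ c ∈ L.map Prod.fst, h.V c ∈ gn h.V xs := fun c hc => by
  obtain ⟨p, hp, rfl⟩ := List.mem_map.1 hc
  exact h.eq_of_eqvF (lall_iff.1 e p hp) ▸ wdC_gn h hι xs _

theorem of_nrmB [Finite G] {g : ℕ} {vs : List ℕ} {L : List (List ℕ)}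
    (e : nrmB T b m base ι g vs L = true) : h.V g ∈ Ns (gn h.V vs) := mem_Ns_gn fun c hc => by
  obtain ⟨i, hi, rfl⟩ := exists_nth hc
  have := h.eq_of_eqvF (nall_iff.1 e i hi)
  rw [V_mulF, V_mulF] at this
  rw [this, mul_inv_cancel_right]
  exact wdC_gn h hι vs _

theorem of_perfB {xs : List ℕ} {P : List (List ℕ × List ℕ)} {L : List (List ℕ)}
    (e : perfB T b m base ι xs P L = true) : gn h.V xs ≤ ⁅gn h.V xs, gn h.V xs⁆ := gn_le fun c hc => by
  obtain ⟨i, hi, rfl⟩ := exists_nth hc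
  rw [perfB, WM.mapK_eq] at e
  rw [h.eq_of_eqvF (nall_iff.1 e i hi)]
  refine wdC_mem h hι (fun c hc => ?_) _
  obtain ⟨j, -, rfl⟩ := List.mem_map.1 hc
  rw [frc_eq, frc_eq, V_mulF, V_mulF, V_mulF, h.V_invF hι, h.V_invF hι]
  exact commutator_mem_commutator (wdC_gn h hι xs _) (wdC_gn h hι xs _)

/-- generation from a chain -/
theorem le_of_build [Finite G] {K D : Subgroup G} {cs : List ℕ} (h1 : ∀ c ∈ cs, h.V c ∈ K)
    (h2 : ∀ c ∈ cs, h.V c ∈ D) {N : ℕ} (hN : Nat.card K ≤ N) {ls : List ILev}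
    (e : (fops T b m base n ι).build cs N ls = true) : K ≤ D := by
  have h' := (h.hasF hι).comap K.subtype Subtype.val_injective
  rw [h'.eq] at e
  exact subgroupOf_eq_top.1 (Model.exact_of_build h'.inv (K := D.subgroupOf K)
    (fun c hc => ⟨⟨_, h1 c hc⟩, h2 c hc, rfl⟩) hN e).1

variable (hb : ∀ p ∈ base, p < n)
include hb

omit hι in
theorem Rig.of_sylB [Finite G] {H D : Subgroup G} {cz r p : ℕ} (hD : D ≤ C1 (h.V cz)) (hp : p.Prime)
    (hK : ¬ p ^ 2 ∣ Nat.card (C1 (h.V cz))) (rD : h.V r ∈ D) {Q : List ℕ}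
    (e : sylB T b m base cz r p Q = true) : Rig h.V H (C1 (h.V cz)) D [r] := by
  simp only [sylB, band_iff, nall_iff, bor_iff, frc_eq, Nat.beq_eq] at e
  obtain ⟨⟨e1, e2⟩, e3, e4⟩ := e
  refine Rig.syl hD hp hK rD (V_zero h ▸ ne_of_eqvF h hb e1)
    ((V_pwC h _ _).symm.trans ((h.eq_of_eqvF e2).trans (V_zero h))) fun i i0 ip => ⟨h.V (nth 0 Q i), ?_, ?_⟩
  · rw [nth_eq, List.getD_eq_getElem?_getD]
    cases e : Q[i]? with
    | none => exact (V_zero h).symm ▸ one_mem _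
    | some c => exact C1_of_comB h e3 c (List.mem_of_getElem? e)
  · have := h.eq_of_eqvF ((e4 i ip).resolve_left i0.ne')
    rwa [V_mulF, V_mulF, V_pwC] at this

theorem Rig.of_stepB [Finite G] {H D : Subgroup G} [H.Normal] {n0 : ℕ}
    (hH : ∀ c, h.V c ∈ H ↔ appF T b m c 0 < n0) {cz N : ℕ} (hN : Nat.card (C1 (h.V cz)) ≤ N)
    {ys : List ℕ} {x : ℕ} (k : Rig h.V H (C1 (h.V cz)) D ys) (hD : ∀ c ∈ x :: ys, h.V c ∈ D) (s : Stp)
    (e : stepB T b m base ι n n0 cz N ys x s = true) : Rig h.V H (C1 (h.V cz)) D (x :: ys) := by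
  rw [stepB, frc_eq, frc_eq] at e
  simp only [band_iff] at e
  obtain ⟨⟨⟨e1, e2, e3⟩, e4, e5⟩, e6⟩ := e
  have k4 := C1_of_comB h e4
  simp only [List.forall_mem_cons, List.forall_mem_append] at k4
  refine Rig.step (V_zero h) k hD fun g hg g1 ht => ?_
  have cd : ∀ {c : ℕ} {d : ℕ → G}, h.V c = d 0 → (∀ j, d (j + 1) = h.V (nth 0 ys j)) → ∀ t : Tm,
      h.V (t.code ι b m (nth 0 (c :: ys))) = t.val d := fun a1 a2 => Tm.V_code h hι fun i => by
    cases i with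
    | zero => exact a1
    | succ j => exact (a2 j).symm
  have cx := Tm.V_code h hι (e := nth 0 (x :: ys)) fun _ => rfl
  have cy := Tm.V_code h hι (e := nth 0 ys) fun _ => rfl
  have a1 := h.eq_of_eqvF e1
  rw [V_mulF, V_mulF] at a1
  have a2 : g 0 * h.V (s.a.code ι b m (nth 0 ys)) = h.V (s.b.code ι b m (nth 0 ys)) * g 0 := by
    have := (ht (.mul (.mul (.c 0) s.a.sh) (.inv (.mul s.b.sh (.c 0))))).1 (by
      change h.V x * s.a.sh.val _ * (s.b.sh.val _ * h.V x)⁻¹ = 1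
      rw [Tm.val_sh, Tm.val_sh, mul_inv_eq_one]
      exact (cy s.a) ▸ (cy s.b) ▸ a1)
    change g 0 * s.a.sh.val _ * (s.b.sh.val _ * g 0)⁻¹ = 1 at this
    rw [Tm.val_sh, Tm.val_sh, mul_inv_eq_one, funext g1] at this
    rw [cy, cy, this]
  obtain ⟨c, a3, a4⟩ := conjAll (h.hasF hι) (fun c hc => ⟨_, k4.2.2.1 c hc, rfl⟩) hN rfl rfl k4.1
    k4.2.1 e6 _ hg.2 a2
  replace a3 : h.V c = g 0 := a3
  simp only [leafB, bor_iff] at a4
  rcases a4 with (a | a) | a | a | a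
  · exact absurd ((hH c).1 (a3 ▸ hg.1)) (not_lt.2 (Nat.le_of_ble_eq_true a))
  · exact absurd (by rw [V_mulF, V_mulF, a3, a2]) (ne_of_eqvF h hb a)
  · obtain ⟨t, t1, t2⟩ := lany_spec a
    refine absurd ?_ (ne_of_eqvF h hb t2)
    rw [cd a3 g1, V_zero, ← ht, ← cx, h.eq_of_eqvF (lall_iff.1 e2 t t1), V_zero]
  · obtain ⟨t, t1, t2⟩ := lany_spec a
    refine absurd ?_ (ne_of_eqvF h hb (lall_iff.1 e3 t t1))
    rw [cx, V_zero, ht, ← cd a3 g1, h.eq_of_eqvF t2, V_zero]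
  · obtain ⟨q, q1, q2⟩ := lany_spec a
    have := h.eq_of_eqvF q2
    rw [V_mulF, V_mulF, a3] at this
    exact ⟨_, k4.2.2.2 q q1, fun y hy => of_comB h (lall_iff.1 e5 y hy) q q1, this⟩

theorem of_cvB [Finite G] {H : Subgroup G} {n0 : ℕ} (hH : ∀ c, h.V c ∈ H ↔ appF T b m c 0 < n0)
    {cz N : ℕ} (hN : Nat.card (C1 (h.V cz)) ≤ N) {vs : List ℕ} (zV : h.V cz ∈ gn h.V vs) {L cs : List ℕ}
    {ls : List ILev} (e : cvB T b m base ι n n0 cz N vs L cs ls = true) : ⊤ ⊓ Cs (gn h.V vs) ≤ H :=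
  fun d hd => by
  have k : ∀ u ∈ gn h.V vs, Commute d u := fun u hu => (mem_centralizer_iff.1 hd.2 u hu).symm
  obtain ⟨c, rfl, a⟩ := cenAll (h.hasF hι) (h.fm_in cs) rfl rfl hN ((frc_eq _ _).symm.trans e) d
    (k _ zV) (k _ (wdC_gn h hι vs L))
  refine (hH c).2 (Nat.blt_eq.mp ((bor_iff.1 a).resolve_right fun a => ?_))
  obtain ⟨u, u1, u2⟩ := lany_spec a
  exact ne_of_eqvF h hb u2 (by rw [V_mulF, V_mulF]; exact k _ (mem_gn _ u1))

/-- all facts on `D` -/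
theorem vg_of [Finite G] {H : Subgroup G} [hn : H.Normal] {n0 : ℕ}
    (hH : ∀ c, h.V c ∈ H ↔ appF T b m c 0 < n0) {cz N : ℕ} (hN : Nat.card (C1 (h.V cz)) ≤ N)
    {xs vs : List ℕ} (D0 : gn h.V xs ≤ H ⊓ C1 (h.V cz))
    (der : ⁅⊤ ⊓ C1 (h.V cz), ⊤ ⊓ C1 (h.V cz)⁆ ≤ gn h.V xs) (VD : gn h.V vs ≤ gn h.V xs)
    (rig : Rig h.V H (C1 (h.V cz)) (gn h.V xs) xs) {P : List (List ℕ × List ℕ)} {L : List (List ℕ)}
    (e1 : perfB T b m base ι xs P L = true) {γ p q : ℕ} {Lz : List ℕ} {Lp Lq : List (List ℕ)}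
    (e2 : mzB T b m base ι n0 cz γ p q vs Lz Lp Lq = true) {Lx cs : List ℕ} {ls : List ILev}
    (e3 : cvB T b m base ι n n0 cz N vs Lx cs ls = true) :
    VG ⊤ H (gn h.V xs) (gn h.V vs) (h.V cz) (h.V γ) (h.V p) (h.V γ * h.V q * (h.V γ)⁻¹) := by
  simp only [mzB, band_iff] at e2
  obtain ⟨⟨⟨a1, a2⟩, a3⟩, ⟨a4, a5, a6⟩, a7⟩ := e2
  have zV := of_memB h hι a3 cz List.mem_cons_self
  have i1 := of_innB h hH a4
  have k := h.eq_of_eqvF a7
  rw [Tm.V_code h hι fun _ => rfl, Tm.V_code h hι fun _ => rfl] at k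
  exact ⟨D0, of_perfB h hι e1, der, rig.aut D0, ⟨trivial, C1_of_comB h a1 γ List.mem_cons_self⟩,
    fun a => absurd ((hH γ).1 a) (not_lt.2 (Nat.le_of_ble_eq_true a2)), VD, zV,
    of_cvB h hι hb hH hN zV e3, ⟨i1 p (by simp), of_nrmB h hι a5⟩,
    mem_inf.2 ⟨hn.conj_mem _ (i1 q (by simp)) _, by
      rw [Ns, ← cj_normalizer, conj_mem_cj]; exact of_nrmB h hι a6⟩, k⟩

/-- the case `D = H ⊓ C(z)` -/
theorem vf_of [Finite G] {H : Subgroup G} (hi : H.index = 2) {n0 : ℕ}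
    (hH : ∀ c, h.V c ∈ H ↔ appF T b m c 0 < n0) {cz N : ℕ} (hN : Nat.card (C1 (h.V cz)) ≤ N)
    {xs vs : List ℕ} (D0 : gn h.V xs ≤ H ⊓ C1 (h.V cz)) (D1 : H ⊓ C1 (h.V cz) ≤ gn h.V xs)
    (rig : Rig h.V H (C1 (h.V cz)) (gn h.V xs) xs) {P : List (List ℕ × List ℕ)} {L : List (List ℕ)}
    (e0 : band (innB T b m n0 vs) (comB T b m base cz vs) = true)
    (e1 : perfB T b m base ι xs P L = true) {γ p q : ℕ} {Lz : List ℕ} {Lp Lq : List (List ℕ)}
    (e2 : mzB T b m base ι n0 cz γ p q vs Lz Lp Lq = true) {Lx cs : List ℕ} {ls : List ILev}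
    (e3 : cvB T b m base ι n n0 cz N vs Lx cs ls = true) :
    ∃ D V γ m k, VG ⊤ H D V (h.V cz) γ m k ∧ Fn ⊤ H D (h.V cz) :=
  have := normal_of_index_eq_two hi
  ⟨_, _, _, _, _, vg_of h hι hb hH hN D0 (by rw [top_inf_eq]; exact (der_of_index hi _).trans D1)
    ((gn_le_inf h hH e0).trans D1) rig e1 e2 e3, Or.inl D1⟩

end Cfsg.Lib.StdX
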