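import Cfsg.Agent.StdX.SuzDT
import Cfsg.Agent.StdX.DK
import Cfsg.Agent.Spor.SuzOut

/-! The doubled word model of the automorphism group of the group of degree 1782. -/

set_option autoImplicit false
set_option maxRecDepth 100000

namespace Cfsg.Lib.StdX.Suz

open Subgroup Cfsg.Lib.Spor Cfsg.Lib.Spor.WM Cfsg.Lib.Known Cfsg.Lib.Known.PC
open Cfsg.Lib.Spor.Bulk (wv ltB lt_of_ltB getN)
open Cfsg.Lib.Spor.SuzP (ρ g0 lk base t1 t2 t3 t4 t5 t6 t7 t1_g t2_g t3_g t4_g t5_g t6_g t7_g)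

/-- the generators and their images -/
noncomputable def sT : FT := (.node (nat_lit 8) (.node (nat_lit 4) (.node (nat_lit 2) (.node (nat_lit 1) (.leaf id) (.leaf (lk t1))) (.node
    (nat_lit 3) (.leaf (lk t2)) (.leaf (lk t3)))) (.node (nat_lit 6) (.node (nat_lit 5) (.leaf (lk t4)) (.leaf (lk
    t5))) (.node (nat_lit 7) (.leaf (lk t6)) (.leaf (lk t7))))) (.node (nat_lit 12) (.node (nat_lit 10) (.node
    (nat_lit 9) (.leaf id) (.leaf (lk s1))) (.node (nat_lit 11) (.leaf (lk s2)) (.leaf (lk s3)))) (.node (nat_lit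
    14) (.node (nat_lit 13) (.leaf (lk s4)) (.leaf (lk s5))) (.node (nat_lit 15) (.leaf (lk s6)) (.node (nat_lit
    16) (.leaf (lk s7)) (.leaf id))))))
theorem sd : Good ρ sT 4 15 base :=
  ⟨(.node (.node (.node (.node (.leaf (acts_id ρ)) (.leaf t1_g)) (.node (.leaf t2_g) (.leaf t3_g))) (.node (.node
    (.leaf t4_g) (.leaf t5_g)) (.node (.leaf t6_g) (.leaf t7_g)))) (.node (.node (.node (.leaf (acts_id ρ)) (.leaf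
    s1_ok)) (.node (.leaf s2_ok) (.leaf s3_ok))) (.node (.node (.leaf s4_ok) (.leaf s5_ok)) (.node (.leaf s6_ok)
    (.node (.leaf s7_ok) (.leaf (acts_id ρ))))))), acts_id ρ, by decide, rfl, SuzP.isBase⟩
theorem sι : invB sT 4 15 base id = true := by decide +kernel
theorem sd_g : ∀ l < 8, Acts ρ (sT.fn l) (g0 l) := fun l hl => by
  interval_cases l
  exacts [SuzP.sat.zero ▸ acts_id ρ, t1_g, t2_g, t3_g, t4_g, t5_g, t6_g, t7_g]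
/-- the words of the images of the generators -/
def Ws : List (List ℕ) := [[],
  [3,2,1,5,4,3,2,1,2,4,3,4,5,4,3,4,6,7,2,1,2,3,4,5,4,1,2,3],
  [2,3,5,4,3,2,6,2,3,4,3,2,5,4,7,2,1,3,2,4,3,5,4,3,7,2,3,6,2,7,3,4,5,2,3],
  [3,2,1,5,4,3,2,7,6,4,3,2,1,2,5,4,3,2,6,2,1,2,3,4,3,5,7,4,2,3,4,5,1,2,3],
  [4,3,4,3,2,1,2,3,4,5,6,2,3,4,3,4,5,1,6,2,1,2,3,2,4,5,6,7,2,1,3,4,6,2,7,6,3,2,7,3,4,5,3,4,1],
  [1,2,3,2,1,2,5,4,3,4,3,5,7,2,6,7,2,1,2,3,2,4,3,4,5,7,2,1,3,4,6,2,7,6,3,2,7,1,2,3,4,5],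
  [2,1,4,3,4,7,2,3,4,6,2,7,2,2,1,3,2,5,4,3,4,3,5,7,2,3,4,3,6,7,2,6,5,4,3,4,5,3],
  [1,2,3,2,5,4,3,2,6,2,1,4,3,2,5,4,3,4,5,7,2,1,3,2,4,6,2,3,4,5,2,3,2,1]]
theorem Ws_eq_1' : type_of% @Ws.eq_1 := @Ws.eq_1
theorem ex_σ : ∃ σ : Cfsg.Spor.Suz →* Cfsg.Spor.Suz, (∀ l < 8, σ (g0 l) = wv g0 (Ws.getD l [])) ∧ ∀ x, σ (σ x) = x :=
  exists_invo (sd.hasF sι) SuzP.pres (gs := [0, 1, 2, 3, 4, 5, 6, 7]) (fun l hl => by
    have : nth (fops sT 4 15 base 1782 id).one [0, 1, 2, 3, 4, 5, 6, 7] l = l := by interval_cases l <;> rfl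
    rw [this]; exact sd.fm_R (sd.R_letter (by omega) (sd_g l hl))) le_rfl Ws (by decide +kernel)
/-- the outer automorphism of order two -/
noncomputable def σ : Cfsg.Spor.Suz →* Cfsg.Spor.Suz := ex_σ.choose
theorem σ_eq_1' : type_of% @σ.eq_1 := @σ.eq_1
theorem σ_g : ∀ l < 8, σ (g0 l) = wv g0 (Ws.getD l []) := ex_σ.choose_spec.1
theorem hσ : ∀ x, σ (σ x) = x := ex_σ.choose_spec.2
theorem sd_s : ∀ l < 8, Acts ρ (sT.fn (l + 8)) (σ (g0 l)) := fun l hl => by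
  rw [σ_g l hl]
  interval_cases l
  exacts [acts_id ρ, s1_ok, s2_ok, s3_ok, s4_ok, s5_ok, s6_ok, s7_ok]
theorem sig {W W' : List ℕ} (hc : Dbl.sigB sT 4 15 base 8 W W' = true) : σ (wv g0 W) = wv g0 W' :=
  Dbl.sig_eq sd le_rfl sd_g sd_s hc
/-- the automorphism group -/
abbrev Om : Type := Dbl.Om ρ σ
/-- the simple group -/
noncomputable abbrev G0 : Subgroup Om := Dbl.G0 ρ σ
instance finite : Finite Om := inferInstance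
theorem dl {f f' : ℕ → ℕ} {W W' : List ℕ} (a : Acts ρ f (wv g0 W)) (a' : Acts ρ f' (wv g0 W'))
    (hc : Dbl.sigB sT 4 15 base 8 W W' = true) :
    Acts (Dbl.rho ρ σ) (Dbl.df 1782 f f') (Dbl.io ρ σ (wv g0 W)) := Dbl.acts_io a (sig hc ▸ a')
theorem ol {f f' : ℕ → ℕ} {W W' : List ℕ} (a : Acts ρ f (wv g0 W)) (a' : Acts ρ f' (wv g0 W'))
    (hc : Dbl.sigB sT 4 15 base 8 W W' = true) :
    Acts (Dbl.rho ρ σ) (Dbl.og 1782 f f') (Dbl.io ρ σ (wv g0 W) * Dbl.so ρ σ) := Dbl.acts_og a (sig hc ▸ a')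
theorem L1 : Acts (Dbl.rho ρ σ) (Dbl.df (nat_lit 1782) (lk t1) (lk s1)) (Dbl.io ρ σ (g0 1)) :=
  Dbl.acts_io t1_g (sd_s 1 (by decide))
theorem L2 : Acts (Dbl.rho ρ σ) (Dbl.df (nat_lit 1782) (lk t2) (lk s2)) (Dbl.io ρ σ (g0 2)) :=
  Dbl.acts_io t2_g (sd_s 2 (by decide))
theorem L3 : Acts (Dbl.rho ρ σ) (Dbl.df (nat_lit 1782) (lk t3) (lk s3)) (Dbl.io ρ σ (g0 3)) :=
  Dbl.acts_io t3_g (sd_s 3 (by decide))
theorem L4 : Acts (Dbl.rho ρ σ) (Dbl.df (nat_lit 1782) (lk t4) (lk s4)) (Dbl.io ρ σ (g0 4)) :=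
  Dbl.acts_io t4_g (sd_s 4 (by decide))
theorem L5 : Acts (Dbl.rho ρ σ) (Dbl.df (nat_lit 1782) (lk t5) (lk s5)) (Dbl.io ρ σ (g0 5)) :=
  Dbl.acts_io t5_g (sd_s 5 (by decide))
theorem L6 : Acts (Dbl.rho ρ σ) (Dbl.df (nat_lit 1782) (lk t6) (lk s6)) (Dbl.io ρ σ (g0 6)) :=
  Dbl.acts_io t6_g (sd_s 6 (by decide))
theorem L7 : Acts (Dbl.rho ρ σ) (Dbl.df (nat_lit 1782) (lk t7) (lk s7)) (Dbl.io ρ σ (g0 7)) :=
  Dbl.acts_io t7_g (sd_s 7 (by decide))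
theorem L9 : Acts (Dbl.rho ρ σ) (Dbl.df (nat_lit 1782) (lk f9) (lk f9))
    (Dbl.io ρ σ (wv g0 [2,1,2,5,4,3,2,4,3,5,4,3,2,2,4,5,4,6,7,2,1,3,4,5,6,2,3,4,7,6,2,3,1,2,7,4,3,1,2,6])) :=
  dl f9_ok f9_ok (by decide +kernel)
theorem L10 : Acts (Dbl.rho ρ σ) (Dbl.df (nat_lit 1782) (lk f10) (lk h10))
    (Dbl.io ρ σ (wv g0 [2,1,2,3,4,7,2,1,3,2,4,3,7,5,4,3,2,4,5,6,7,2,3,4,3,2,5,4,3,2,1,2,6,5,4,1,2,3,4,3])) :=
  dl f10_ok h10_ok (by decide +kernel)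
theorem L11 : Acts (Dbl.rho ρ σ) (Dbl.df (nat_lit 1782) (lk f11) (lk h11))
    (Dbl.io ρ σ (wv g0 [5,7,6,2,3,4,7,2,3,6,1,2,1,4,3,2,4,5,4,3,2,4,3,6,2,3,4,5,7,4,3,4,2,3,4,5,2,3])) :=
  dl f11_ok h11_ok (by decide +kernel)
theorem L12 : Acts (Dbl.rho ρ σ) (Dbl.df (nat_lit 1782) (lk f12) (lk h12))
    (Dbl.io ρ σ (wv g0 [2,1,3,2,4,6,2,3,7,2,3,4,6,2,5,4,3,2,4,3,2,4,3,2,5,4,3,4,7,2,1,3,2,7,5,4,2,3,4])) :=
  dl f12_ok h12_ok (by decide +kernel)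
theorem L13 : Acts (Dbl.rho ρ σ) (Dbl.df (nat_lit 1782) (lk f13) (lk h13))
    (Dbl.io ρ σ (wv g0 [2,4,3,2,4,5,4,3,4,3,2,1,2,6,2,7,2,3,4,5,3,4,2,3,4,2])) :=
  dl f13_ok h13_ok (by decide +kernel)
theorem L14 : Acts (Dbl.rho ρ σ) (Dbl.df (nat_lit 1782) (lk f14) (lk h14))
    (Dbl.io ρ σ (wv g0 [6,2,1,7,2,1,3,2,4,3,5,6,7,2,1,3,4,3,2,6,7,3,2,6,3,4,3,2])) :=
  dl f14_ok h14_ok (by decide +kernel)
theorem L15 : Acts (Dbl.rho ρ σ) (Dbl.df (nat_lit 1782) (lk f15) (lk h15))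
    (Dbl.io ρ σ (wv g0 [2,6,2,7,2,1,3,4,5,1,2,5,6,2,1,2,3,2,1,4,3,2,5,4,3,7,2,6,4,1,2,3,4,3,2,7])) :=
  dl f15_ok h15_ok (by decide +kernel)
theorem L16 : Acts (Dbl.rho ρ σ) (Dbl.df (nat_lit 1782) (lk f16) (lk h16))
    (Dbl.io ρ σ (wv g0 [1,3,2,5,6,2,1,3,2,4,3,4,5,4,3,4,7,2,6,3,2,7,2,3])) :=
  dl f16_ok h16_ok (by decide +kernel)
theorem L17 : Acts (Dbl.rho ρ σ) (Dbl.df (nat_lit 1782) (lk f17) (lk h17))
    (Dbl.io ρ σ (wv g0 [1,4,3,4,5,7,2,3,4,3,5,6,2,5,4,3,6,2,7,2,3,4,3,2,1,4,5,7,2,3,4,3,2,6,7,4,3])) :=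
  dl f17_ok h17_ok (by decide +kernel)
theorem L18 : Acts (Dbl.rho ρ σ) (Dbl.df (nat_lit 1782) (lk f18) (lk h18))
    (Dbl.io ρ σ (wv g0 [3,4,7,6,2,3,4,3,2,7,5,4,1,2,3,4,3,2,7,2,6,3,4,5,2,6,5,3,4,3,2,7,5,4,3,4,1])) :=
  dl f18_ok h18_ok (by decide +kernel)
theorem L19 : Acts (Dbl.rho ρ σ) (Dbl.df (nat_lit 1782) (lk f19) (lk h19))
    (Dbl.io ρ σ (wv g0 [3,4,5,4,3,4,6,2,1,2,3,2,7,2,6,2,7,2,1,2,3,2,4,5,4,3,2,1,2,4,3,2,4,5,6,3,4,3,2,7,6,4,2,3])) :=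
  dl f19_ok h19_ok (by decide +kernel)
theorem L20 : Acts (Dbl.rho ρ σ) (Dbl.df (nat_lit 1782) (lk f20) (lk h20))
    (Dbl.io ρ σ (wv g0 [3,2,4,6,7,2,3,4,3,6,5,4,2,3,4,2,1,2,3,4,5,4,2,3,2,1,2,7,2,6,2,7,2,3,2,1,2,6,4,3,4,5,4,3])) :=
  dl f20_ok h20_ok (by decide +kernel)
theorem L21 : Acts (Dbl.rho ρ σ) (Dbl.df (nat_lit 1782) (lk f21) (lk h21))
    (Dbl.io ρ σ (wv g0 [1,2,4,3,2,4,6,2,3,4,3,2,3,4,5,4,3,2,7,2,1,3,2,4,3,4,3,7,2,6,3,2,7,5,4,2,3])) :=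
  dl f21_ok h21_ok (by decide +kernel)
theorem L22 : Acts (Dbl.rho ρ σ) (Dbl.df (nat_lit 1782) (lk f22) (lk h22))
    (Dbl.io ρ σ (wv g0 [3,2,4,5,7,2,3,6,2,7,3,4,3,4,2,3,1,2,7,2,3,4,5,4,3,2,3,4,3,2,6,4,2,3,4,2,1])) :=
  dl f22_ok h22_ok (by decide +kernel)
theorem L23 : Acts (Dbl.rho ρ σ) (Dbl.df (nat_lit 1782) (lk f23) (lk h23))
    (Dbl.io ρ σ (wv g0 [2,1,4,3,2,4,6,2,3,4,3,5,4,3,2,7,2,3,3,2,4,3,4,5,4,6,2,1,2,3,4,6,7,2,3,6,4,5,2,3,4,3])) :=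
  dl f23_ok h23_ok (by decide +kernel)
theorem L24 : Acts (Dbl.rho ρ σ) (Dbl.df (nat_lit 1782) (lk f24) (lk h24))
    (Dbl.io ρ σ (wv g0 [1,4,3,2,6,7,2,3,4,3,5,6,2,1,2,7,1,4,6,2,1,3,2,4,5,7,2,6,2,3,4,3,2,4,6,3,4,1,2,3,4,5,3,4])) :=
  dl f24_ok h24_ok (by decide +kernel)
theorem L25 : Acts (Dbl.rho ρ σ) (Dbl.df (nat_lit 1782) (lk f25) (lk h25))
    (Dbl.io ρ σ (wv g0 [3,4,5,4,3,4,5,6,2,1,3,2,1,4,3,4,7,2,3,1,2,6,5,4,3,4,5,4,3])) :=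
  dl f25_ok h25_ok (by decide +kernel)
theorem L26 : Acts (Dbl.rho ρ σ) (Dbl.df (nat_lit 1782) (lk f26) (lk h26))
    (Dbl.io ρ σ (wv g0 [3,5,6,7,2,3,4,3,6,2,1,2,3,2,7,1,2,5,4,6,2,3,4,3,2,1,2,3,5,4,3,6,2,1,2,7,4,3,1,2,6,4])) :=
  dl f26_ok h26_ok (by decide +kernel)
theorem L27 : Acts (Dbl.rho ρ σ) (Dbl.df (nat_lit 1782) (lk f27) (lk h27))
    (Dbl.io ρ σ (wv g0 [4,6,2,1,3,4,7,2,1,2,6,3,4,5,3,2,1,2,3,4,3,2,6,4,5,2,1,7,2,3,2,1,2,6,3,4,3,2,7,6,5,3])) :=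
  dl f27_ok h27_ok (by decide +kernel)
theorem L28 : Acts (Dbl.rho ρ σ) (Dbl.df (nat_lit 1782) (lk f28) (lk h28))
    (Dbl.io ρ σ (wv g0 [1,4,3,6,2,1,2,3,4,3,2,7,3,6,2,3,4,3,2,4,3,4,5,4,3,4,6,2,1,3,2,6,1,2,7,3,4,5,4])) :=
  dl f28_ok h28_ok (by decide +kernel)
theorem L29 : Acts (Dbl.rho ρ σ) (Dbl.df (nat_lit 1782) (lk f29) (lk h29))
    (Dbl.io ρ σ (wv g0 [4,5,4,3,7,2,1,6,2,3,1,2,6,4,3,4,5,4,3,4,2,3,4,3,2,6,3,7,2,3,4,3,2,1,2,6,3,4,1])) :=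
  dl f29_ok h29_ok (by decide +kernel)
theorem L30 : Acts (Dbl.rho ρ σ) (Dbl.df (nat_lit 1782) (lk f30) (lk h30))
    (Dbl.io ρ σ (wv g0 [3,2,4,3,6,7,2,3,6,7,2,1,4,5,7,2,1,2,3,2,6,7,2,3,4,3,2,5,4,3,1,2,7,5,4,2,3,4,3])) :=
  dl f30_ok h30_ok (by decide +kernel)
theorem L31 : Acts (Dbl.rho ρ σ) (Dbl.df (nat_lit 1782) (lk f31) (lk h31))
    (Dbl.io ρ σ (wv g0 [3,4,3,2,4,5,7,2,1,3,4,5,2,3,4,3,2,7,6,2,3,2,1,2,7,5,4,1,2,7,6,3,2,7,6,3,4,2,3])) :=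
  dl f31_ok h31_ok (by decide +kernel)
theorem L32 : Acts (Dbl.rho ρ σ) (Dbl.df (nat_lit 1782) (lk f32) (lk h32))
    (Dbl.io ρ σ (wv g0 [1,4,3,7,2,3,6,2,7,1,2,1,4,3,2,1,5,4,3,4,6,2,1,3,2,6,7,2,6,5,4,3,2,7,4,1])) :=
  dl f32_ok h32_ok (by decide +kernel)
theorem L33 : Acts (Dbl.rho ρ σ) (Dbl.df (nat_lit 1782) (lk f33) (lk h33))
    (Dbl.io ρ σ (wv g0 [3,7,6,2,3,4,3,2,5,7,2,6,2,3,4,7,1,3,2,4,5,4,3,2,4,3,4,5,4,7,6,2,3,4,5,3,4,2,3,1,2,6,7,4])) :=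
  dl f33_ok h33_ok (by decide +kernel)
theorem L34 : Acts (Dbl.rho ρ σ) (Dbl.df (nat_lit 1782) (lk f34) (lk h34))
    (Dbl.io ρ σ (wv g0 [4,7,6,2,1,2,3,4,3,7,1,2,5,4,3,2,4,3,2,5,4,3,4,5,7,6,2,3,4,3,4,5,2,3,4,3,4,2])) :=
  dl f34_ok h34_ok (by decide +kernel)
theorem L35 : Acts (Dbl.rho ρ σ) (Dbl.og (nat_lit 1782) (lk f35) (lk h35))
    (Dbl.io ρ σ (wv g0 [3,2,4,3,4,5,4,3,4,7,6,2,7,3,6,7,2,6,7,2,3,4,3,2,1,4,3,4,5,6,2,3,4,3,4,5,2,3,4,3]) * Dbl.so ρ σ) :=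
  ol f35_ok h35_ok (by decide +kernel)
theorem L36 : Acts (Dbl.rho ρ σ) (Dbl.df (nat_lit 1782) (lk f36) (lk f36))
    (Dbl.io ρ σ (wv g0 [2,3,2,5,7,2,1,2,3,4,3,2,5,3,2,1,2,1,4,3,2,1,4,3,2,5,4,3,7,2,6,5,2,1,2,3])) :=
  dl f36_ok f36_ok (by decide +kernel)
theorem L37 : Acts (Dbl.rho ρ σ) (Dbl.df (nat_lit 1782) (lk f37) (lk f37))
    (Dbl.io ρ σ (wv g0 [3,2,1,2,5,6,2,7,3,4,5,2,3,4,1,2,3,4,1,2,1,2,3,5,2,3,4,3,2,1,2,7,5,2,3,2])) :=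
  dl f37_ok f37_ok (by decide +kernel)
theorem L38 : Acts (Dbl.rho ρ σ) (Dbl.df (nat_lit 1782) (lk f38) (lk f38))
    (Dbl.io ρ σ (wv g0 [2,1,2,3,4,5,6,7,2,3,4,6,2,1,1,4,3,2,1,2,4,3,2,4,5,4,3,2,4,6,2,3,4,3,2,7,5,2,1,2,3])) :=
  dl f38_ok f38_ok (by decide +kernel)
theorem L39 : Acts (Dbl.rho ρ σ) (Dbl.df (nat_lit 1782) (lk f39) (lk f39))
    (Dbl.io ρ σ (wv g0 [3,2,1,2,5,7,2,3,4,3,2,6,4,2,3,4,5,4,2,3,4,2,1,2,3,4,1,1,2,6,4,3,2,7,6,5,4,3,2,1,2])) :=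
  dl f39_ok f39_ok (by decide +kernel)
theorem L40 : Acts (Dbl.rho ρ σ) (Dbl.df (nat_lit 1782) (lk f40) (lk f40))
    (Dbl.io ρ σ (wv g0 [3,2,1,2,3,4,5,7,2,3,4,3,2,1,4,3,2,7,4,5,3,4,3,2,1,2,3])) :=
  dl f40_ok f40_ok (by decide +kernel)
theorem L41 : Acts (Dbl.rho ρ σ) (Dbl.df (nat_lit 1782) (lk f41) (lk f41))
    (Dbl.io ρ σ (wv g0 [1,2,1,3,2,1,4,7,2,5,4,7,2,3,4,3,6,2,1,3,2,4,3,4,5,7,6,3,4,2,1,2,3,1,2,1])) :=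
  dl f41_ok f41_ok (by decide +kernel)
/-- the letters: 1-7 generators, 8 `so`, 9 `z`, 10 `y`, 11-14 generate `C_T(y)`, 11-16 generate `T`, 17-25 lie in
`C(z)` (orders 5, 5, 3, 3, 3, 3, 2, 2, 2), 26-34 lie in `C(y)` (orders 7, 7, 5, 5, 3, 3, 2, 2, 2), 35 is
the second outer involution, 36-41 lie in `C(so)` (orders 11, 11, 3, 3, 2, 2) -/
noncomputable def gT : FT := (.node (nat_lit 21) (.node (nat_lit 10) (.node (nat_lit 5) (.node (nat_lit 2) (.node (nat_lit 1) (.leaf id)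
    (.leaf (Dbl.df (nat_lit 1782) (lk t1) (lk s1)))) (.node (nat_lit 3) (.leaf (Dbl.df (nat_lit 1782) (lk t2) (lk
    s2))) (.node (nat_lit 4) (.leaf (Dbl.df (nat_lit 1782) (lk t3) (lk s3))) (.leaf (Dbl.df (nat_lit 1782) (lk t4)
    (lk s4)))))) (.node (nat_lit 7) (.node (nat_lit 6) (.leaf (Dbl.df (nat_lit 1782) (lk t5) (lk s5))) (.leaf
    (Dbl.df (nat_lit 1782) (lk t6) (lk s6)))) (.node (nat_lit 8) (.leaf (Dbl.df (nat_lit 1782) (lk t7) (lk s7)))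
    (.node (nat_lit 9) (.leaf (Dbl.sf (nat_lit 1782))) (.leaf (Dbl.df (nat_lit 1782) (lk f9) (lk f9))))))) (.node
    (nat_lit 15) (.node (nat_lit 12) (.node (nat_lit 11) (.leaf (Dbl.df (nat_lit 1782) (lk f10) (lk h10))) (.leaf
    (Dbl.df (nat_lit 1782) (lk f11) (lk h11)))) (.node (nat_lit 13) (.leaf (Dbl.df (nat_lit 1782) (lk f12) (lk
    h12))) (.node (nat_lit 14) (.leaf (Dbl.df (nat_lit 1782) (lk f13) (lk h13))) (.leaf (Dbl.df (nat_lit 1782) (lk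
    f14) (lk h14)))))) (.node (nat_lit 18) (.node (nat_lit 16) (.leaf (Dbl.df (nat_lit 1782) (lk f15) (lk h15)))
    (.node (nat_lit 17) (.leaf (Dbl.df (nat_lit 1782) (lk f16) (lk h16))) (.leaf (Dbl.df (nat_lit 1782) (lk f17)
    (lk h17))))) (.node (nat_lit 19) (.leaf (Dbl.df (nat_lit 1782) (lk f18) (lk h18))) (.node (nat_lit 20) (.leaf
    (Dbl.df (nat_lit 1782) (lk f19) (lk h19))) (.leaf (Dbl.df (nat_lit 1782) (lk f20) (lk h20)))))))) (.node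
    (nat_lit 32) (.node (nat_lit 26) (.node (nat_lit 23) (.node (nat_lit 22) (.leaf (Dbl.df (nat_lit 1782) (lk
    f21) (lk h21))) (.leaf (Dbl.df (nat_lit 1782) (lk f22) (lk h22)))) (.node (nat_lit 24) (.leaf (Dbl.df (nat_lit
    1782) (lk f23) (lk h23))) (.node (nat_lit 25) (.leaf (Dbl.df (nat_lit 1782) (lk f24) (lk h24))) (.leaf (Dbl.df
    (nat_lit 1782) (lk f25) (lk h25)))))) (.node (nat_lit 29) (.node (nat_lit 27) (.leaf (Dbl.df (nat_lit 1782)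
    (lk f26) (lk h26))) (.node (nat_lit 28) (.leaf (Dbl.df (nat_lit 1782) (lk f27) (lk h27))) (.leaf (Dbl.df
    (nat_lit 1782) (lk f28) (lk h28))))) (.node (nat_lit 30) (.leaf (Dbl.df (nat_lit 1782) (lk f29) (lk h29)))
    (.node (nat_lit 31) (.leaf (Dbl.df (nat_lit 1782) (lk f30) (lk h30))) (.leaf (Dbl.df (nat_lit 1782) (lk f31)
    (lk h31))))))) (.node (nat_lit 37) (.node (nat_lit 34) (.node (nat_lit 33) (.leaf (Dbl.df (nat_lit 1782) (lk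
    f32) (lk h32))) (.leaf (Dbl.df (nat_lit 1782) (lk f33) (lk h33)))) (.node (nat_lit 35) (.leaf (Dbl.df (nat_lit
    1782) (lk f34) (lk h34))) (.node (nat_lit 36) (.leaf (Dbl.og (nat_lit 1782) (lk f35) (lk h35))) (.leaf (Dbl.df
    (nat_lit 1782) (lk f36) (lk f36)))))) (.node (nat_lit 40) (.node (nat_lit 38) (.leaf (Dbl.df (nat_lit 1782)
    (lk f37) (lk f37))) (.node (nat_lit 39) (.leaf (Dbl.df (nat_lit 1782) (lk f38) (lk f38))) (.leaf (Dbl.df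
    (nat_lit 1782) (lk f39) (lk f39))))) (.node (nat_lit 41) (.leaf (Dbl.df (nat_lit 1782) (lk f40) (lk f40)))
    (.node (nat_lit 42) (.leaf (Dbl.df (nat_lit 1782) (lk f41) (lk f41))) (.leaf id)))))))
theorem gd : Good (Dbl.rho ρ σ) gT 6 63 base :=
  ⟨(.node (.node (.node (.node (.node (.leaf (acts_id _)) (.leaf L1)) (.node (.leaf L2) (.node (.leaf L3) (.leaf
    L4)))) (.node (.node (.leaf L5) (.leaf L6)) (.node (.leaf L7) (.node (.leaf Dbl.acts_so) (.leaf L9))))) (.node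
    (.node (.node (.leaf L10) (.leaf L11)) (.node (.leaf L12) (.node (.leaf L13) (.leaf L14)))) (.node (.node
    (.leaf L15) (.node (.leaf L16) (.leaf L17))) (.node (.leaf L18) (.node (.leaf L19) (.leaf L20)))))) (.node
    (.node (.node (.node (.leaf L21) (.leaf L22)) (.node (.leaf L23) (.node (.leaf L24) (.leaf L25)))) (.node
    (.node (.leaf L26) (.node (.leaf L27) (.leaf L28))) (.node (.leaf L29) (.node (.leaf L30) (.leaf L31)))))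
    (.node (.node (.node (.leaf L32) (.leaf L33)) (.node (.leaf L34) (.node (.leaf L35) (.leaf L36)))) (.node
    (.node (.leaf L37) (.node (.leaf L38) (.leaf L39))) (.node (.leaf L40) (.node (.leaf L41) (.leaf (acts_id
    _)))))))), acts_id _, by decide, rfl, Dbl.isBase hσ SuzP.isBase ⟨0, by decide, by decide⟩⟩
/-- the inverse letters -/
noncomputable def ι : ℕ → ℕ := getN 0 [0,1,2,3,4,5,6,7,8,9,10,11,12,13,14,15,16,18,17,20,19,22,21,23,24,25,27,26,29,28,31,30,32,33,34,35,37,36,39,38,40,41]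
theorem ι_eq_1' : type_of% @ι.eq_1 := @ι.eq_1
theorem hι : invB gT 6 63 base ι = true := by decide +kernel
/-- the operations -/
noncomputable abbrev O : Ops := fops gT 6 63 base (1782 + 1782) ι
/-- the outer involution -/
noncomputable abbrev so : Om := gd.V 8
/-- the central involution -/
noncomputable abbrev z : Om := gd.V 9
/-- the second involution -/
noncomputable abbrev y : Om := gd.V 10
/-- the second outer involution -/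
noncomputable abbrev sp : Om := gd.V 35
theorem so_eq : so = Dbl.so ρ σ := gd.R_letter (by decide) Dbl.acts_so
theorem z_eq : z = Dbl.io ρ σ (wv g0 [2,1,2,5,4,3,2,4,3,5,4,3,2,2,4,5,4,6,7,2,1,3,4,5,6,2,3,4,7,6,2,3,1,2,7,4,3,1,2,6]) := gd.R_letter (by decide) L9
theorem y_eq : y = Dbl.io ρ σ (wv g0 [2,1,2,3,4,7,2,1,3,2,4,3,7,5,4,3,2,4,5,6,7,2,3,4,3,2,5,4,3,2,1,2,6,5,4,1,2,3,4,3]) := gd.R_letter (by decide) L10
theorem V_mem (c : ℕ) : gd.V c ∈ G0 ↔ appF gT 6 63 c 0 < 1782 := Dbl.V_mem hσ (by decide) gd c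
theorem hb : ∀ p ∈ base, p < 1782 + 1782 := by decide
theorem gd_g : ∀ l < 8, Acts (Dbl.rho ρ σ) (gT.fn l) (Dbl.io ρ σ (g0 l)) := fun l hl => by
  interval_cases l
  exacts [by rw [SuzP.sat.zero, map_one]; exact acts_id _, L1, L2, L3, L4, L5, L6, L7]
theorem V_g (l : ℕ) (hl : l < 8) : gd.V l = Dbl.io ρ σ (g0 l) := gd.R_letter (by omega) (gd_g l hl)
theorem V_pack {W : List ℕ} (hW : ltB 8 [W] = true) : gd.V (pack 6 W) = Dbl.io ρ σ (wv g0 W) :=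
  Dbl.V_pack gd (by decide) gd_g (lt_of_ltB hW W List.mem_cons_self)
/-- a closed statement on the atoms `E` -/
theorem holds (E : List ℕ) (p : Pf) (k : p.ev gT 6 63 base ι 1782 (nth 0 E) = true) :
    p.sem G0 fun i => gd.V (nth 0 E i) := StdX.holds gd hι V_mem hb E p k
theorem simple : IsSimpleGroup G0 := have := SuzP.simple; Dbl.simple SuzP.injective
theorem idx (x y : Om) (hx : x ∉ G0) (hy : y ∉ G0) : x * y ∈ G0 := Dbl.idx hσ x y hx hy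
theorem index : G0.index = 2 := Dbl.index hσ (by decide)
theorem card_G0 : Nat.card G0 = 448345497600 := (Dbl.card_G0 SuzP.injective).trans SuzP.card
theorem card_Om : Nat.card Om = 896690995200 := by
  rw [Dbl.card hσ (by decide) SuzP.injective, SuzP.card]
/-- the isomorphism onto the simple group -/
noncomputable def eqv : Cfsg.Spor.Suz ≃* G0 := Dbl.eqv0 SuzP.injective
theorem eqv_eq_1' : type_of% @eqv.eq_1 := @eqv.eq_1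
theorem G0_le {K : Subgroup Om} (h : ∀ l ∈ [1, 2, 3, 4, 5, 6, 7], gd.V l ∈ K) : G0 ≤ K :=
  Dbl.G0_le SuzP.top fun l hl => V_g l ((by decide : ∀ l ∈ [1, 2, 3, 4, 5, 6, 7], l < 8) l hl) ▸ h l hl
theorem G0_eq : G0 = gn gd.V [1, 2, 3, 4, 5, 6, 7] :=
  le_antisymm (G0_le fun _ => mem_gn _) (gn_le fun l hl =>
    V_g l ((by decide : ∀ l ∈ [1, 2, 3, 4, 5, 6, 7], l < 8) l hl) ▸ Dbl.io_mem _)
theorem eq_top {K : Subgroup Om} (h : G0 ≤ K) (hs : so ∈ K) : K = ⊤ := Dbl.eq_top hσ h (so_eq ▸ hs)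
theorem so_not : so ∉ G0 := so_eq ▸ Dbl.so_not hσ (by decide)
theorem normal : G0.Normal := normal_of_index_eq_two index
theorem card_two {K : Subgroup Om} {x : Om} (hx : x ∈ K) (h0 : x ∉ G0) :
    Nat.card K = 2 * Nat.card ↥(G0 ⊓ K) := Dbl.card_eq_two hσ hx h0
theorem outer : ¬ ∃ c, ∀ g, σ g = c * g * c⁻¹ := by
  obtain ⟨a, b, c, d⟩ := holds [5673957490894, pack 6 [6,3,4,5,2,3,4,3,2,7,2,1,2,6,1,2,1,5,1,3,4,5,2,3,4,3,2,5,4,6,7,2,1,3,4,3,2,5,4,3,4,5,6,2,1,7],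
    pack 6 [7,1,2,3,4,5,2,3,4,3,2,7,4,5,4,3,4,5,3,2,1,2,6,1,2,4,2,1,2,3,4,5,7,2,1,3,2,4,3,2,1,2],
    pack 6 [6,5,2,3,4,3,2,1,2,7,4,5,3,4,3,5,6,2,1,3,2,4,3,4,5,6,2,3,4,3,2,6,7,2,6],
    pack 6 [7,3,4,5,3,4,2,3,1,2,7,4,5,6,3,2,1,2,6,1,3,4,3,2,5,4,6,7,2,1,3,2,4,3,2,5,4,3,6,2,7,2,1]]
    (.and (.out (.c 0)) (.and (.eq (.cj (.c 0) (.c 1)) (.pw (.c 1) 2)) (.and (.eq (.cj (.c 0) (.c 2)) (.c 2))
      (.eq (.cj (.c 0) (.c 3)) (.c 4))))) (by decide +kernel)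
  refine Dbl.outer hσ SuzP.injective SuzP.o_spec.1 (by decide) a ?_ ?_ ?_
  · rw [← V_pack (by decide +kernel)]; exact b
  · rw [← V_pack (by decide +kernel)]; exact c
  · rw [← V_pack (by decide +kernel), ← V_pack (by decide +kernel)]; exact d
theorem aut0 (φ : MulAut G0) : ∃ g : Om, ∀ x : G0, (φ x : Om) = g * x * g⁻¹ :=
  Dbl.aut hσ SuzP.injective outer SuzP.card_out φ
theorem aut (φ : MulAut G0) : ∃ g ∈ (⊤ : Subgroup Om), ∀ x : G0, (φ x : Om) = g * x * g⁻¹ :=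
  let ⟨g, h⟩ := aut0 φ
  ⟨g, trivial, h⟩

end Cfsg.Lib.StdX.Suz
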