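import Cfsg.Agent.StdX.VGen
import Cfsg.Agent.StdX.SuzD

/-! The derived group of the centraliser of the central involution. -/

set_option autoImplicit false
set_option maxRecDepth 100000

namespace Cfsg.Lib.StdX.Suz

open Subgroup Cfsg.Lib.Spor Cfsg.Lib.Spor.WM Cfsg.Lib.Known Cfsg.Lib.Gold
open Cfsg.Lib.Spor.SuzP (base)

namespace V

theorem D0 : gn gd.V [2986828, 338494163, 373085392, 17] ≤ G0 ⊓ C1 (gd.V 9) := gn_le_inf gd V_mem (by decide +kernel)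

variable (hN : Nat.card (C1 (gd.V 9)) = 6635520)
include hN

theorem D1 : G0 ⊓ C1 (gd.V 9) ≤ gn gd.V [2986828, 338494163, 373085392, 17] := by
  have k := of_memB gd hι (xs := [2986828, 338494163, 373085392, 17]) (L := [(18, [7]), (16, [5, 6, 0, 6, 5, 0, 6, 4, 2]),
      (20, [0, 5, 2, 0, 6, 0, 6, 0, 4, 0]), (15, [4, 7, 0, 6, 2, 0, 7, 5, 2]), (24, [6, 4, 0, 5, 6, 0, 6, 6, 0, 2]), (1162,
      [6, 2, 1, 7, 7, 2, 7, 4, 0]), (90826, [2, 1, 2, 0, 7, 1, 5, 7, 1, 5, 0]), (91157, [6, 6, 1, 6, 4, 1, 5, 0, 6, 2]),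
      (2196168, [2, 0, 7, 7, 1, 7, 0, 0, 2, 6, 2, 0]), (4248525, [7, 1, 4, 2, 0, 7, 0, 4, 2, 0]), (5821645, [5, 7, 0, 2, 7,
      2, 0, 2, 1, 6, 0]), (6112083, [2, 1, 2, 6, 1, 2, 6, 2]), (3982346, [4, 1, 7, 0, 0, 6, 0, 5]), (20758213579, [7, 5, 2,
      7, 2, 0, 6, 1, 2, 0]), (17349804936, [6, 0, 0, 6, 5, 0, 0, 6, 4, 0, 0]), (9, [5, 2, 0, 5, 2, 0])]) (by decide +kernel)
  have a := card_two (K := C1 (gd.V 9)) (x := gd.V 8) (C1_of_comB gd (cs := [8]) (by decide +kernel) 8 (by simp)) so_not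
  exact le_of_build gd hι (fun c hc => D0 (k c hc)) k (N := 3317760) (Nat.le_of_mul_le_mul_left (a.symm.trans hN).le two_pos)
    (ls := [⟨1480, 0, 0, 5, [0, 1, 2]⟩, ⟨2448, 0, 0, 4, [3, 4, 5, 6]⟩, ⟨666, 0, 0, 4, [4, 7, 8]⟩, ⟨1400, 0, 0, 3, [9, 10,
      11]⟩, ⟨1595, 0, 0, 2, [12, 13]⟩, ⟨3524, 0, 0, 1, [14]⟩, ⟨3216, 0, 0, 1, [15]⟩]) (by decide +kernel)

theorem r1 : Rig gd.V G0 (C1 (gd.V 9)) (gn gd.V [2986828, 338494163, 373085392, 17]) [17] :=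
  Rig.of_sylB gd hb (D0.trans inf_le_right) (p := 5) (by decide) (by rw [hN]; decide) (mem_gn _ (by simp))
    (Q := [0, 0, 2147466, 2691848, 86550]) (by decide +kernel)

theorem r2 : Rig gd.V G0 (C1 (gd.V 9)) (gn gd.V [2986828, 338494163, 373085392, 17]) [373085392, 17] :=
  have := normal
  Rig.of_stepB gd hι hb V_mem hN.le (r1 hN) (fun _ hc => mem_gn _ (by simp at hc ⊢; tauto))
    ⟨.c 0, .pw (.c 0) 2, [.pw (.c 0) 4], [],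
    [0, 17, 18, 1170, 1105, 54027, 6587976, 4510475, 4772619, 325399312, 172016718, 274539022, 222614731, 207177290,
      239649802, 271664724, 174404940, 189846669, 24886674056, 17318880264],
    [22, 8, 16, 19, 11, 13, 24, 1039, 1173, 54224, 3761423, 46601, 4011342, 1547, 728, 3986445, 99017, 24886674056, 9],
    [⟨1454, 0, 0, 5, [0, 1, 2, 3]⟩, ⟨1065, 1455, 0, 6, [4, 5, 6, 7]⟩, ⟨1595, 1066, 0, 3, [8, 9]⟩, ⟨1339, 1596, 0, 2, [10,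
      11, 12, 13]⟩, ⟨1056, 1340, 0, 2, [14, 15, 16]⟩, ⟨2857, 0, 0, 1, [17]⟩, ⟨3025, 2858, 0, 0, []⟩, ⟨2493, 3026, 0, 0, []⟩,
      ⟨2602, 2494, 0, 0, []⟩, ⟨2301, 2603, 0, 0, []⟩, ⟨1719, 0, 0, 1, [18]⟩]⟩ (by decide +kernel)

theorem r3 : Rig gd.V G0 (C1 (gd.V 9)) (gn gd.V [2986828, 338494163, 373085392, 17]) [338494163, 373085392, 17] :=
  have := normal
  Rig.of_stepB gd hι hb V_mem hN.le (r2 hN) (fun _ hc => mem_gn _ (by simp at hc ⊢; tauto))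
    ⟨.c 0, .inv (.c 0), [.pw (.c 0) 2, .pw (.mul (.c 0) (.mul (.c 2) (.c 2))) 5], [],
    [0],
    [15, 17, 8, 19, 16, 11, 14, 25, 94922, 5084366, 3499594, 6096271, 2654856, 272159883, 321463562, 13074273102,
      27250496971, 15302980360, 9],
    [⟨2493, 0, 0, 4, [0, 1, 2, 3, 4, 5]⟩, ⟨3377, 2494, 0, 4, [6, 0, 7, 8]⟩, ⟨2857, 3378, 0, 3, [8, 9, 10, 11]⟩, ⟨3121, 2858,
      0, 2, [12, 13, 14]⟩, ⟨1742, 0, 0, 2, [15, 16]⟩, ⟨1339, 1743, 0, 1, [17]⟩, ⟨725, 1340, 0, 0, []⟩, ⟨1271, 726, 0, 0,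
      []⟩, ⟨2713, 0, 0, 1, [18]⟩]⟩ (by decide +kernel)

theorem r4 : Rig gd.V G0 (C1 (gd.V 9)) (gn gd.V [2986828, 338494163, 373085392, 17]) [2986828, 338494163, 373085392, 17] :=
  have := normal
  Rig.of_stepB gd hι hb V_mem hN.le (r3 hN) (fun _ hc => mem_gn _ (by simp at hc ⊢; tauto))
    ⟨.mul (.inv (.c 2)) (.mul (.c 0) (.mul (.c 2) (.mul (.c 1) (.c 0)))),
      .mul (.inv (.c 2)) (.mul (.c 0) (.mul (.c 2) (.mul (.c 1) (.c 0)))), [.pw (.c 0) 4],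
      [.pw (.mul (.c 0) (.mul (.c 1) (.c 2))) 2, .pw (.mul (.c 0) (.c 3)) 9, .pw (.mul (.c 0) (.mul (.c 2) (.c 3))) 9],
    [0, 1316696179336],
    [11, 12, 18, 20, 8, 10, 23, 34312, 86934, 82835, 42442, 3761302, 5317977, 4015060, 304972873, 4817617, 291828878,
      17385161352, 9],
    [⟨1072, 0, 0, 5, [0, 1, 2, 3, 4]⟩, ⟨1307, 1073, 0, 3, [5, 0, 1, 6, 7]⟩, ⟨1056, 1308, 0, 3, [8, 9, 10, 7]⟩, ⟨1595, 1057,
      0, 2, [11, 12, 13]⟩, ⟨1773, 1596, 0, 0, []⟩, ⟨1339, 1774, 0, 0, []⟩, ⟨2415, 0, 0, 2, [14, 15, 16]⟩, ⟨2602, 2416, 0, 1,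
      [17]⟩, ⟨3089, 2603, 0, 0, []⟩, ⟨2155, 3090, 0, 0, []⟩, ⟨3121, 2156, 0, 0, []⟩, ⟨3025, 3122, 0, 0, []⟩, ⟨140, 0, 0, 1,
      [18]⟩]⟩ (by decide +kernel)

end V

/-- the facts on `D`, given the order of the centraliser -/
theorem vf0 (hN : Nat.card (centralizer {z}) = 6635520) :
    ∃ D V γ m k, VG ⊤ G0 D V z γ m k ∧ Fn ⊤ G0 D z :=
  vf_of gd hι hb index V_mem hN.le V.D0 (V.D1 hN) (V.r4 hN) (vs := [12, 6333721, 3212175, 62223]) (by decide +kernel)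
    (P := [([4], [6]), ([0], [2]), ([2], [6]), ([0], [6])]) (L := [[3, 5, 6, 5, 1, 7, 3, 4, 2, 0], [3, 5, 3, 6, 0, 2, 1, 5,
      0], [3, 5, 5, 0, 2, 2], [0]]) (by decide +kernel)
    (γ := 8) (p := 13251587651194865603) (q := 45482256920671512715457) (Lz := [6, 0, 6, 0])
    (Lp := [[6, 5, 0, 2, 6, 3, 0], [0, 3, 5, 0, 3], [3, 6, 4, 0, 2, 6], [3, 0, 5, 2, 0]])
    (Lq := [[3, 0, 5, 2, 0], [2, 6, 5, 2, 4, 3], [0, 4, 3, 6, 0, 2], [2, 4, 6, 2, 6, 2]]) (by decide +kernel)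
    (Lx := [2, 0, 4, 2]) (cs := [8, 17, 12, 20, 18, 15, 25, 1098, 1547, 99477, 905, 83475, 33672, 425518549, 238846920,
      87123, 6587976, 275039244, 205571664, 3986445, 9])
    (ls := [⟨1008, 0, 0, 4, [0, 1, 2, 3, 4]⟩, ⟨1699, 1009, 0, 5, [5, 6, 7, 8]⟩, ⟨1275, 1700, 0, 3, [9, 10, 11, 12]⟩, ⟨446,
      1276, 0, 2, [13, 14, 15]⟩, ⟨519, 447, 0, 0, []⟩, ⟨1424, 520, 0, 0, []⟩, ⟨1608, 0, 0, 1, [16, 17, 18]⟩, ⟨1128, 1609, 0,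
      1, [19]⟩, ⟨792, 1129, 0, 0, []⟩, ⟨719, 793, 0, 0, []⟩, ⟨1595, 720, 0, 0, []⟩, ⟨1554, 1596, 0, 0, []⟩, ⟨188, 0, 0, 1,
      [20]⟩]) (by decide +kernel)

end Cfsg.Lib.StdX.Suz
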