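import Cfsg.Agent.StdX.EndA
import Cfsg.Agent.StdX.EndS
import Cfsg.Agent.StdW.EndB

/-!
# Standard subgroups with two classes of involutions: the stabiliser of the pair `{B, B^t}`
-/

set_option autoImplicit false
set_option linter.unusedSectionVars false

namespace Cfsg.Lib.StdX

open Subgroup Cfsg.Lib.Gold Cfsg.Lib.Trans Cfsg.Lib.StdSz Cfsg.Lib.StdW
open Cfsg.Lib.StdM (Cl Tr)
open scoped commutatorElement

variable {G Ω : Type*} [Group G] [Group Ω] [Finite G] [Finite Ω] {Γ Γ0 T : Subgroup Ω} {z y : Ω} {n : ℕ}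
  {A O B : Subgroup G} {ρ ρ' : G → Ω} {t : G}

theorem img_up {σ σ' : Ω} {l u : ℕ} (o : Out Γ Γ0 σ σ' n l u) (m : Mdl Γ Γ0 B ρ') {j : G}
    (hj : j ∈ Ns B) (h0 : ρ' j = σ) {R : Subgroup G} (hR : R ≤ Ns B) (hC : R ≤ C1 j)
    (h3 : IsPGroup 2 R) : Nat.card R ≤ Nat.card ↥(R ⊓ Cs B) * 2 ^ u := by
  rw [m.card_img hR]
  refine Nat.mul_le_mul_left _ (o.up _ (le_inf (m.img_le R) fun γ hγ => ?_) (m.two_img h3))
  obtain ⟨x, hx, hx', rfl⟩ := m.mem_img.1 hγ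
  exact StdSz.mem_C1.2 (h0 ▸ m.commute hx' hj (StdSz.mem_C1.1 (hC hx)))

theorem rho_eq (b : Bas Γ Γ0 T z y n) (h : Mdl Γ Γ0 A ρ) (s : St A O t) (D : Db Γ0 z A O B ρ ρ' t)
    (m : Mdl Γ Γ0 B ρ') {j : G} (hj : Commute j t) (hn : j ∈ Ns B) : ρ' j = ρ j := by
  have jA := s.cN (StdSz.mem_C1.2 hj)
  refine inv_mul_eq_one.1 (b.cen (mul_mem (inv_mem (m.memΓ j hn)) (h.memΓ j jA))
    (StdSz.mem_Cs.2 fun γ hγ => ?_))
  obtain ⟨x, hx, rfl⟩ := m.surj γ hγ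
  have e1 : dg t (j * x * j⁻¹) = j * dg t x * j⁻¹ := by
    rw [dg_def, dg_def, show t * (j * x * j⁻¹) * t⁻¹ = t * j * x * (t * j)⁻¹ by group, ← hj.eq]
    group
  have e2 := D.compat _ (mem_normalizer_conj hn hx)
  rw [e1, m.conj hn (le_normalizer hx), h.conj jA (le_normalizer (D.diag x hx)),
    ← D.compat x hx] at e2
  refine commute_of_conj_eq ?_
  calc (ρ' j)⁻¹ * ρ j * ρ' x * ((ρ' j)⁻¹ * ρ j)⁻¹
      = (ρ' j)⁻¹ * (ρ j * ρ' x * (ρ j)⁻¹) * ρ' j := by group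
    _ = ρ' x := by rw [← e2]; group

section EndB

variable {σ σ' : Ω} {l u : ℕ} (b : Bas Γ Γ0 T z y n) (o : Out Γ Γ0 σ σ' n l u) (h : Mdl Γ Γ0 A ρ)
  (s : St A O t) (D : Db Γ0 z A O B ρ ρ' t) (m : Mdl Γ Γ0 B ρ')
include b o h s D m

theorem not_norm_cj (g : G) (h1 : t ∈ Ns (cj g B)) (h2 : t ∈ Ns (cj g (cj t B))) : False :=
  not_norm b o h s (m.cjg g) ((m.cjg t).cjg g) (by
    rw [← StdJ4.cj_Cs]; exact cj_mono g D.comm) h1 h2

theorem t_not_M0 : t ∉ Ns B ⊓ Ns (cj t B) := fun e =>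
  not_norm b o h s m (m.cjg t) D.comm e.1 e.2

theorem mem_MM {g : G} (hg : g * t * g⁻¹ ∈ MM B (cj t B)) : g ∈ MM B (cj t B) := by
  have e : ∀ Y : Subgroup G, cj t (cj g⁻¹ Y) = cj g⁻¹ (cj (g * t * g⁻¹) Y) := fun Y => by
    rw [cj_cj, cj_cj]; congr 1; group
  rcases hg with ⟨a1, a2⟩ | ⟨a1, -⟩
  · exact (not_norm_cj b o h s D m g⁻¹ (cj_eq_self_iff.1 (by rw [e, a1]))
      (cj_eq_self_iff.1 (by rw [e, a2]))).elim
  have e1 : cj t (cj g⁻¹ B) = cj g⁻¹ (cj t B) := by rw [e, a1]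
  refine (inv_mem_iff (H := MM B (cj t B))).1 ?_
  rcases swap_eq b h s D g⁻¹ m (by rw [e1, ← StdJ4.cj_Cs]; exact cj_mono _ D.comm) with k | k
  · exact Or.inl ⟨k, by rw [← e1, k]⟩
  · exact Or.inr ⟨k, by rw [← e1, k, StdJ4.cj_cj_self s.tt]⟩

theorem two_le_MM {Q : Subgroup G} (hQ : IsPGroup 2 Q) (ht : t ∈ Q) : Q ≤ MM B (cj t B) := by
  by_contra hn
  have : Q ⊓ MM B (cj t B) < Q := lt_of_le_of_ne inf_le_left fun e => hn (inf_eq_left.1 e)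
  obtain ⟨g, g1, g2⟩ := SetLike.exists_of_lt (lt_inf_normalizer hQ this)
  exact g2 ⟨g1.1, mem_MM b o h s D m (mem_normalizer_conj g1.2 ⟨ht, t_mem_MM s.tt⟩).2⟩

theorem odd_CE : Odd (Nat.card ↥(Cs B ⊓ Cs (cj t B))) := by
  by_contra hn
  obtain ⟨⟨c, hc⟩, c2⟩ := exists_prime_orderOf_dvd_card' 2
    (even_iff_two_dvd.1 (Nat.not_odd_iff_even.1 hn))
  rw [orderOf_mk] at c2
  have hN : t ∈ Ns (Cs B ⊓ Cs (cj t B)) := cj_eq_self_iff.1 (by
    rw [cj_inf, StdJ4.cj_Cs, StdJ4.cj_Cs, StdJ4.cj_cj_self s.tt, inf_comm])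
  obtain ⟨j, j1, j2, j3, j4⟩ := Comp.exists_fix_even (Comp.Tw.of_sq s.tt).isPGroup
    (zpowers_le.2 hN) hc (fun e => by simp [e] at c2)
    (Comp.Tw.of_sq (by rw [← sq, ← c2, pow_orderOf_eq_one]))
  have jt : Commute j t := StdSz.mem_Cs.1 j4 t (mem_zpowers t)
  have jA : j ∈ Cs A := StdSz.mem_Cs.2 fun a ha => by
    obtain ⟨x, hx, rfl⟩ := D.onto a ha
    exact (StdSz.mem_Cs.1 j1.1 x hx).mul_right (StdSz.mem_Cs.1 j1.2 _ (conj_mem_cj.2 hx))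
  rcases s.dec j ⟨jA, StdSz.mem_C1.2 jt⟩ with e | ⟨c, hc, e⟩
  · exact j2 (eq_one_of_sq_of_odd j3 (odd_orderOf s.Oodd e))
  · have : c = 1 := eq_one_of_sq_of_odd (by
      have ct : Commute c t := StdSz.mem_C1.1 (s.Ole hc).2
      rw [e, show t * c * (t * c) = t * (c * t) * c by group, ct.eq,
        show t * (t * c) * c = t * t * (c * c) by group, s.tt, one_mul] at j3
      exact j3) (odd_orderOf s.Oodd hc)
    rw [this, mul_one] at e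
    exact t_not_M0 b o h s D m ⟨StdJ4.Cs_le_Ns _ (e ▸ j1.1), StdJ4.Cs_le_Ns _ (e ▸ j1.2)⟩

variable {X : Subgroup G} [X.Normal] [IsSimpleGroup X] (hAX : A ≤ X)
include hAX

omit b o h s [Finite G] [Finite Ω] [IsSimpleGroup X] in
theorem B_le' : B ≤ X := by
  refine m.perf.trans (commutator_le.2 fun x hx y hy => ?_)
  have c : Commute x (t * y * t⁻¹) := StdSz.mem_Cs.1 (D.comm hx) _ (conj_mem_cj.2 hy)
  have k : y * (t * y * t⁻¹) ∈ X := hAX (D.diag y hy)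
  have e : ⁅x, y⁆ = x * (y * (t * y * t⁻¹)) * x⁻¹ * (y * (t * y * t⁻¹))⁻¹ := by
    generalize t * y * t⁻¹ = y' at c
    rw [commutatorElement_def, show x * (y * y') * x⁻¹ * (y * y')⁻¹ =
      x * y * (y' * x⁻¹ * y'⁻¹) * y⁻¹ by group, c.inv_left.symm.eq, mul_inv_cancel_right]
  rw [e]
  exact mul_mem (Normal.conj_mem inferInstance _ k x) (inv_mem k)

set_option linter.unusedVariables false in
set_option linter.unusedSectionVars false in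
theorem B_le : B ≤ X := B_le' D m hAX

theorem t_not_mem {c : G} (hc : c ∈ Cs B ⊓ Cs (cj t B)) : c * t ∉ X := by
  intro hX
  have hN : t ∈ Ns (Cs B ⊓ Cs (cj t B)) := cj_eq_self_iff.1 (by
    rw [cj_inf, StdJ4.cj_Cs, StdJ4.cj_Cs, StdJ4.cj_cj_self s.tt, inf_comm])
  have ti := StdJ4.inv_of_sq s.tt
  have od := odd_CE b o h s D m
  have h1 : c * t * (c * t) ∈ Cs B ⊓ Cs (cj t B) := by
    have := mul_mem hc (mem_normalizer_conj hN hc)
    rwa [ti, ← mul_assoc, ← mul_assoc, mul_assoc (c * t)] at this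
  obtain ⟨k, hk⟩ := odd_orderOf od h1
  have h2 : (c * t * (c * t)) ^ k * c ∈ Cs B ⊓ Cs (cj t B) := mul_mem (pow_mem h1 k) hc
  have h3 : (c * t * (c * t)) ^ k * c * t ∈ X := by
    rw [mul_assoc]; exact mul_mem (pow_mem (mul_mem hX hX) k) hX
  have h4 : (c * t * (c * t)) ^ k * c * t * ((c * t * (c * t)) ^ k * c * t) = 1 := by
    have := pow_orderOf_eq_one (c * t * (c * t))
    rw [hk] at this
    rw [← this, mul_assoc _ c t]
    generalize c * t = d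
    simp only [← sq, ← pow_mul]
    group
  generalize (c * t * (c * t)) ^ k * c = e at h2 h3 h4
  obtain ⟨n, hn⟩ := exists_root_of_odd (odd_orderOf od h2) 1
  have h5 : t * e * t⁻¹ = e⁻¹ := by
    rw [ti, eq_inv_iff_mul_eq_one, ← (MulAut.conj e).injective.eq_iff, map_one, MulAut.conj_apply,
      ← h4]
    group
  have h6 : e ^ n * t * (e ^ n)⁻¹ = e * t := by
    have : t * (e ^ n)⁻¹ * t⁻¹ = e ^ n := by rw [← inv_pow, ← conj_pow, ← inv_inv (t * e⁻¹ * t⁻¹),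
      show (t * e⁻¹ * t⁻¹)⁻¹ = t * e * t⁻¹ by group, h5, inv_inv]
    rw [show e ^ n * t * (e ^ n)⁻¹ = e ^ n * (t * (e ^ n)⁻¹ * t⁻¹) * t by group, this, ← sq]
    rw [pow_one] at hn
    rw [hn]
  have tX : t ∈ X := by
    rw [← h6] at h3
    simpa [mul_assoc] using Normal.conj_mem inferInstance _ h3 (e ^ n)⁻¹
  obtain ⟨R, hR, tR⟩ := exists_isSylowIn_ge (Comp.Tw.of_sq s.tt).isPGroup (zpowers_le.2 tX)
  have RM := two_le_MM b o h s D m hR.isPGroup (tR (mem_zpowers t))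
  obtain ⟨g, -, -, g2⟩ := Comp.thompson_in (C := Ns B ⊓ Ns (cj t B)) (X_perf h s hAX) hR
    (fun x hx y hy => MM_idx (RM hx) (RM hy)) tX s.tt
  refine not_norm_cj b o h s D m g⁻¹ ?_ ?_ <;> rw [← StdJ4.cj_Ns, mem_cj_inv]
  exacts [g2.1, g2.2]
set_option linter.unusedVariables false in
theorem up_bound {j : G} (hj : j ∈ X ⊓ C1 t) (h2 : j * j = 1) (h0 : ρ j = σ) {R : Subgroup G}
    (hR : R ≤ X ⊓ C1 j) (h3 : IsPGroup 2 R) :
    (j ∉ Ns B → Nat.card R ≤ 2 ^ (n + 1) ∧ j * t ∈ Ns B ∧ ρ' (j * t) = σ) ∧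
      (j ∈ Ns B → Nat.card R ≤ 2 ^ (2 * u) ∧ ρ' j = σ) := by
  have ut : Commute j t := StdSz.mem_C1.1 hj.2
  have uM : j ∈ MM B (cj t B) := mem_MM b o h s D m (by
    rw [ut.eq, mul_inv_cancel_right]; exact t_mem_MM s.tt)
  have tN : t ∈ Ns (X ⊓ C1 j) := Comp.mem_Ns_of fun x hx =>
    ⟨Normal.conj_mem inferInstance _ hx.1 t, StdSz.mem_C1.2
      ((ut.symm.mul_left (StdSz.mem_C1.1 hx.2)).mul_left ut.symm.inv_left)⟩
  obtain ⟨Q, hQ, tQ⟩ := exists_isSylowIn_ge (Comp.Tw.of_sq s.tt).isPGroup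
    (le_sup_right : zpowers t ≤ X ⊓ C1 j ⊔ zpowers t)
  have tQ' := tQ (mem_zpowers t)
  have QM := two_le_MM b o h s D m hQ.isPGroup tQ'
  have QC : Q ≤ C1 j := hQ.le.trans (sup_le inf_le_right (zpowers_le.2 (StdSz.mem_C1.2 ut.symm)))
  have c1 := (hQ.inf_normal_of_le (sup_le le_normalizer (zpowers_le.2 tN)) le_sup_left).card_le h3 hR
  have c2 := eb_two_le (inf_le_left : Q ⊓ (X ⊓ C1 j) ≤ Q) tQ' fun e =>
    t_not_mem b o h s D m hAX (one_mem _) (by rw [one_mul]; exact e.2.1)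
  have c3 := eb_card_le_two (Q := Q) (C := Ns B ⊓ Ns (cj t B)) fun x hx y hy =>
    MM_idx (QM hx) (QM hy)
  have c4 : Nat.card R ≤ Nat.card ↥(Q ⊓ (Ns B ⊓ Ns (cj t B))) := by omega
  have p0 : IsPGroup 2 ↥(Q ⊓ (Ns B ⊓ Ns (cj t B))) := hQ.isPGroup.to_le inf_le_left
  have l1 : Q ⊓ (Ns B ⊓ Ns (cj t B)) ≤ Ns B := inf_le_right.trans inf_le_left
  have l2 : Q ⊓ (Ns B ⊓ Ns (cj t B)) ≤ Ns (cj t B) := inf_le_right.trans inf_le_right
  have l3 : Q ⊓ (Ns B ⊓ Ns (cj t B)) ≤ C1 j := inf_le_left.trans QC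
  generalize Q ⊓ (Ns B ⊓ Ns (cj t B)) = Q0 at c4 p0 l1 l2 l3
  have bot : ∀ {Y : Subgroup G}, Y ≤ Q0 → Y ≤ Cs B ⊓ Cs (cj t B) → Nat.card Y = 1 := fun y1 y2 =>
    card_eq_one.2 (eq_bot_iff.2 ((le_inf y1 y2).trans
      (inf_eq_bot_of_odd p0 (odd_CE b o h s D m)).le))
  refine ⟨fun hn => ?_, fun hn => ?_⟩
  · obtain ⟨e, e'⟩ := (MM_iff.1 uM).resolve_left fun e => hn (cj_eq_self_iff.1 e.1)
    have k : j * t ∈ Ns B := cj_eq_self_iff.1 (by rw [cj_mul, e'])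
    have tA := s.cN (StdSz.mem_C1.2 (Commute.refl t))
    refine ⟨?_, k, ?_⟩
    · have := m.card_img l1
      rw [bot inf_le_left fun x hx => ⟨hx.2, by
        rw [← e, ← StdJ4.cj_Cs]
        refine mem_cj.2 ?_
        rw [mul_assoc, (StdSz.mem_C1.1 (l3 hx.1)).eq, inv_mul_cancel_left]
        exact hx.2⟩, one_mul] at this
      exact c4.trans (this ▸ b.two_le (m.img_le _) (m.two_img p0))
    · rw [rho_eq b h s D m (ut.mul_left (Commute.refl t)) k, h.mul _ (s.cN hj.2) _ tA,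
        (h.ker t tA).2 s.tA, mul_one, h0]
  have k : ρ' j = σ := (rho_eq b h s D m ut hn).trans h0
  have hn2 : j ∈ Ns (cj t B) := cj_eq_self_iff.1 (by
    rw [cj_cj, ut.eq, cj_mul, cj_eq_self_iff.2 hn])
  have d1 := img_up o m hn k l1 l3 p0
  have d2 := img_up o (m.cjg t) hn2 (by
    rw [mul_assoc, ut.eq, inv_mul_cancel_left]; exact k) (R := Q0 ⊓ Cs B)
    (inf_le_left.trans l2) (inf_le_left.trans l3) (p0.to_le inf_le_left)
  rw [bot (inf_le_left.trans inf_le_left) (inf_le_inf inf_le_right le_rfl), one_mul] at d2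
  refine ⟨c4.trans (d1.trans ?_), k⟩
  rw [two_mul, pow_add]
  exact Nat.mul_le_mul_right _ d2

end EndB

end Cfsg.Lib.StdX
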