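import Cfsg.Agent.StdX.PrA

/-!
# Standard subgroups with two classes of involutions: the product Sylow subgroup, second part
-/

set_option autoImplicit false

namespace Cfsg.Lib.StdX

open Subgroup Cfsg.Lib.Gold Cfsg.Lib.Trans Cfsg.Lib.StdSz Cfsg.Lib.StdW
open Cfsg.Lib.StdM (Cl Tr)
open scoped commutatorElement
open StdW.EndC (ctrl)

variable {G : Type*} [Group G] [Finite G] {B T B' T' M : Subgroup G} {z z' y y' t : G} {n N : ℕ}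

theorem PQ.no_z (h : PQ B T B' T' z y n N) (h' : PQ B' T' B T z' y' n N) (hS : IsSylowIn 2 (T ⊔ T') M)
    (hB : B ≤ M) (hB' : B' ≤ M) (hz : ∀ g ∈ M, g * z' * g⁻¹ ∈ T ⊔ T' → g * z' * g⁻¹ ∈ T') {x a g : G}
    (hx : x ∈ T) (ha : a ∈ T) (hg : g ∈ M) : g * x * g⁻¹ ≠ a * z' := fun e => by
  have : Fact (Nat.Prime 2) := ⟨Nat.prime_two⟩
  obtain ⟨W, hW⟩ : ∃ W, W = closure {a | a ∈ T' ∧ Cl M z' a} := ⟨_, rfl⟩
  have WT : W ≤ T' := hW ▸ (closure_le _).2 fun _ h => h.1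
  have wk : ∀ k ∈ M, cj k W ≤ T ⊔ T' → cj k W = W := fun k hk e => by
    refine Subgroup.eq_of_le_of_card_ge (cj_le_iff_le_cj_inv.2 ?_) (card_cj k W).ge
    conv_lhs => rw [hW]
    refine (closure_le _).2 ?_
    rintro _ ⟨ha, l, hl, rfl⟩
    have e1 : k * (l * z' * l⁻¹) * k⁻¹ = k * l * z' * (k * l)⁻¹ := by group
    have e2 := cj_le_iff.1 e _ (hW.ge (subset_closure ⟨ha, l, hl, rfl⟩))
    refine mem_cj_inv.2 (hW.ge (subset_closure ⟨?_, k * l, mul_mem hk hl, e1.symm⟩))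
    rw [e1] at e2 ⊢
    exact hz _ (mul_mem hk hl) e2
  have dW : ⁅T', T'⁆ ≤ W := h'.derJ.trans (hW ▸ closure_mono fun a ⟨h1, l, hl, h2⟩ => ⟨h1, l, hB' hl, h2⟩)
  have TJ : T ≤ Cs W := h'.le_Cs.trans (StdJ4.Cs_anti WT)
  have bJ : z' ∈ Cs W := StdJ4.Cs_anti WT h'.zc
  obtain ⟨m, n1, n2, n3⟩ := ctrl hS (WT.trans le_sup_right) wk hg (TJ hx) (e ▸ mul_mem (TJ ha) bJ)
  set L := M ⊓ Cs W with hL
  have hN : M ⊓ Ns W ≤ Ns L := fun y hy => cj_eq_self_iff.1 (by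
    rw [hL, cj_inf, StdJ4.cj_Cs, cj_eq_of_mem hy.1, cj_eq_of_mem_normalizer hy.2])
  have hBL : B ≤ L := le_inf hB fun y hy => StdSz.mem_Cs.2 fun b hb =>
    h.commB y hy b (h.T'B' (WT hb))
  have hT : T ≤ ⁅L, L⁆ := h.TB.trans (h.perf.trans (commutator_mono hBL hBL))
  have hn : m ∈ Ns ⁅L, L⁆ := cj_eq_self_iff.1 (by
    rw [cj_commutator, cj_eq_of_mem_normalizer (hN ⟨n1, n2⟩)])
  have hz' : z' ∈ ⁅L, L⁆ := by
    have := mem_normalizer_conj hn (hT hx)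
    rw [n3, e] at this
    exact (mul_mem_cancel_left (hT ha)).1 this
  have hR : IsSylowIn 2 ((T ⊔ T') ⊓ L) L :=
    (hS.mono (K := M ⊓ Ns W) (le_inf hS.le fun c hc => cj_eq_self_iff.1 (wk c (hS.le hc)
      (cj_le_of_mem_of_le hc (WT.trans le_sup_right)))) inf_le_left).inf_normal_of_le hN
      (inf_le_inf_left M (StdJ4.Cs_le_Ns _))
  have h1 := StdJ4.central_mem hR (z := z') ⟨mem_sup_right h'.zT, hB' (h'.TB h'.zT), bJ⟩
    (StdSz.mem_Cs.2 fun y hy => (StdSz.mem_Cs.1 hy.2 z' (dW h'.zder)).symm) hz'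
  have h2 : ⁅(T ⊔ T') ⊓ L, (T ⊔ T') ⊓ L⁆ ≤ T := commutator_le.2 fun u hu v hv => by
    obtain ⟨a1, ha1, b1, hb1, rfl⟩ := h.mem_S.1 hu.1
    obtain ⟨a2, ha2, b2, hb2, rfl⟩ := h.mem_S.1 hv.1
    rw [h.cm ha1 hb1 ha2 hb2, commutatorElement_eq_one_iff_commute.2 (h'.abC b1
      ⟨hb1, StdJ4.Cs_anti dW ((mul_mem_cancel_left (TJ ha1)).1 hu.2.2)⟩ b2
      ⟨hb2, StdJ4.Cs_anti dW ((mul_mem_cancel_left (TJ ha2)).1 hv.2.2)⟩), mul_one]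
    exact commutator_le_self T (commutator_mem_commutator ha1 ha2)
  exact h'.z1 (h.disj z' (h2 h1) h'.zT)

omit [Finite G] in
theorem PrB.back {a b : G} (t2 : t * t = 1) (e : t * a * t⁻¹ = b) : t * b * t⁻¹ = a := by
  rw [← e, show t * (t * a * t⁻¹) * t⁻¹ = t * t * a * (t * t)⁻¹ by group, t2]; group

theorem PQ.hz (h : PQ B T B' T' z y n N) (h' : PQ B' T' B T z' y' n N) (hS : IsSylowIn 2 (T ⊔ T') M)
    (hB : B ≤ M) (hB' : B' ≤ M) (ht : t ∈ Ns M) (t2 : t * t = 1) (e1 : t * z * t⁻¹ = z')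
    (e2 : t * y * t⁻¹ = y') : ∀ g ∈ M, g * z' * g⁻¹ ∈ T ⊔ T' → g * z' * g⁻¹ ∈ T' := fun _ hg e =>
  h'.conj_z_mem h (sup_comm T T' ▸ hS) hB' hB ht (PrB.back t2 e1)
    (by rw [← conj_mul, e2, PrB.back t2 e2, (h.comm h.yT h'.yT).eq]) hg (sup_comm T T' ▸ e)

theorem PQ.no_yy (h : PQ B T B' T' z y n N) (h' : PQ B' T' B T z' y' n N) (hS : IsSylowIn 2 (T ⊔ T') M)
    {a g : G} (ha : a = 1 ∨ a = z) (hg : g ∈ M) : g * y * g⁻¹ ≠ a * y' := fun e => by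
  have : Fact (Nat.Prime 2) := ⟨Nat.prime_two⟩
  have l1 : T ⊔ T' ⊓ C1 y' ≤ T ⊔ T' := sup_le_sup_left inf_le_left T
  have l2 : T' ⊔ T ⊓ C1 y ≤ T ⊔ T' := sup_comm T' T ▸ sup_le_sup_left inf_le_left T'
  obtain ⟨Q, hQ, q1⟩ := exists_isSylowIn_ge (H := M ⊓ C1 y) (hS.isPGroup.to_le l2)
    (le_inf (l2.trans hS.le) ((h'.le_C1 h (Or.inl rfl)).trans_eq (by rw [one_mul])))
  obtain ⟨c, hc, c1⟩ := hQ.exists_cj_le (isPGroup_cj (hS.isPGroup.to_le l1) g⁻¹)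
    (le_inf (cj_le_of_mem_of_le (inv_mem hg) (l1.trans hS.le)) (cj_le_iff.2 fun x hx =>
      StdSz.mem_C1.2 (by
        have := commute_conj (StdSz.mem_C1.1 (h.le_C1 h' ha hx)) g⁻¹
        rwa [← e, show g⁻¹ * (g * y * g⁻¹) * g⁻¹⁻¹ = y by group] at this)))
  obtain ⟨k, hk, k1⟩ := hS.exists_cj_le hQ.isPGroup (hQ.le.trans inf_le_left)
  obtain ⟨-, k2⟩ := h'.pull h (sup_comm T T' ▸ hS) hk (sup_comm T T' ▸ (cj_mono k q1).trans k1)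
  obtain ⟨k3, k4⟩ := h.pull h' hS (mul_mem hk (mul_mem hc.1 (inv_mem hg))) (by
    rw [cj_mul, cj_mul]; exact (cj_mono k c1).trans k1)
  have k5 : k * (c * g⁻¹) * a * (k * (c * g⁻¹))⁻¹ ∈ T := by
    rcases ha with rfl | rfl
    · rw [mul_one, mul_inv_cancel]; exact one_mem T
    · exact k3.symm ▸ h.zT
  refine h'.y1 (conj_eq_one_iff.1 (h.right_eq_one k5 k4 ?_))
  rw [conj_mul, ← e, show k * (c * g⁻¹) * (g * y * g⁻¹) * (k * (c * g⁻¹))⁻¹ =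
    k * (c * y * c⁻¹) * k⁻¹ by group, conj_eq_of_commute (StdSz.mem_C1.1 hc.2)]
  exact k2

theorem PQ.invol (h : PQ B T B' T' z y n N) (h' : PQ B' T' B T z' y' n N) (hS : IsSylowIn 2 (T ⊔ T') M)
    (hB : B ≤ M) (hB' : B' ≤ M) (ht : t ∈ Ns M) (t2 : t * t = 1) (e1 : t * z * t⁻¹ = z')
    (e2 : t * y * t⁻¹ = y') {x g : G} (hx : x ∈ T) (x2 : x * x = 1) (hg : g ∈ M)
    (e : g * x * g⁻¹ ∈ T ⊔ T') : g * x * g⁻¹ ∈ T := by
  have e3 : t * (y * y') * t⁻¹ = y * y' := by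
    rw [← conj_mul, e2, PrB.back t2 e2, (h.comm h.yT h'.yT).eq]
  rcases h.cls x hx x2 with rfl | ⟨l, hl, rfl⟩ | ⟨l, hl, rfl⟩
  · simpa using one_mem T
  · have e4 : g * (l * z * l⁻¹) * g⁻¹ = g * l * z * (g * l)⁻¹ := by group
    rw [e4] at e ⊢
    exact h.conj_z_mem h' hS hB hB' ht e1 e3 (mul_mem hg (hB hl)) e
  refine (h.norm h' hB hB' e (by rw [conj_sq, x2]; group)).resolve_right ?_
  rintro ⟨k, hk, a, b, ha, hb, e4⟩
  have hm := mul_mem hk (mul_mem hg (hB hl))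
  have e5 : k * (g * l) * y * (k * (g * l))⁻¹ = a * b := by rw [← e4]; group
  generalize k * (g * l) = m at hm e5
  rcases hb with rfl | rfl
  · exact h.no_z h' hS hB hB' (h.hz h' hS hB hB' ht t2 e1 e2) h.yT (h.rep_mem ha) hm e5
  rcases or_assoc.2 ha with ha | rfl
  · exact h.no_yy h' hS ha hm e5
  refine h.no_yy h' hS (Or.inl rfl) (mul_mem (inv_mem (mem_normalizer_conj ht hm)) hm) ?_
  calc _ = t * m⁻¹ * (t⁻¹ * (m * a * m⁻¹) * t) * m * t⁻¹ := by group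
    _ = t * m⁻¹ * (m * a * m⁻¹) * m * t⁻¹ := by
      rw [e5]; conv_lhs => rw [← e3]
      group
    _ = _ := by rw [← e2]; group

end Cfsg.Lib.StdX
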