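import Cfsg.Agent.StdX.HeD2
import Cfsg.Agent.StdX.ClqL

/-! A generating set of involutions in relation. -/

set_option autoImplicit false
set_option maxRecDepth 100000

namespace Cfsg.Lib.StdX.He

open Subgroup Cfsg.Lib.Spor Cfsg.Lib.Spor.WM Cfsg.Lib.Known Cfsg.Lib.Known.PC Cfsg.Lib.Gold
open Cfsg.Lib.Spor.HeP (base)

namespace Cq

theorem card_cz_le : Nat.card (centralizer {gd.V 9}) ≤ 43008 := card_cz.le

/-- the codes of the elements -/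
def E : List ℕ := [9, 5301517, 72416077067, 273478345, 307032719, 339534921, 4768916, 289198865, 985029685323, 5301517, 137405576, 4273101,
        273478473, 287896337, 4252495, 272704777, 6932120, 511190561931, 4236237, 9100238078790, 4010763, 5027017, 2146952, 4539340, 255398731,
        10004214595, 4772938, 5055242, 3974219, 4797514, 320922184, 5313809, 4244746, 17369506652, 18580084555, 5039310, 9239989143307,
        31570531569802, 16413918728, 5301518, 1858718406337, 5594499801735, 5366953349441, 289198865, 8880202312, 9966559474311, 5226239652487,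
        643491247500, 1604293559555, 1593874600581, 255673360, 5039309, 14, 905, 3981968, 322515853, 254886924, 253801416, 339526731, 254845961,
        5039309, 14, 254845966, 255673360, 9, 324084940, 5301517, 905, 13071594696, 3981968, 5511774021322, 1526929831244, 1112670573450,
        763905517249, 1111393948100, 1661418664387, 9991319832201, 1328425283661, 5590039674952, 5181929428228, 1536880284229, 17385477710,
        4831894942604, 281643078923, 93482960263, 635036574219, 6191631892868, 23875826709, 46283, 14710649959811, 290501263, 219345671619,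
        23875826709, 1188907758540, 5664209380931, 15069954518, 10339498177153, 1951029097222, 5087809017419, 5305424, 220791691, 5183104414983, 1,
        2, 3, 4, 5, 6, 7, 5846798492291, 4759280526215]

/-- the elements -/
noncomputable def e (i : ℕ) : Om := gd.V (nth 0 E i)

theorem hh (p : Pf) (k : p.ev gT 6 63 base ι 2058 (nth 0 E) = true) : p.sem G0 e :=
  StdX.holds gd hι V_mem hb E p k

theorem cen1 : ∀ d, Commute d (e 0) → Commute d (e 3) → Pf.sem G0 (WF.upd e 999 d)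
    (.or (.ncom (.c 999) (.c 3)) (.or (.ncom (.c 999) (.c 4)) (.or (.ncom (.c 999) (.c 5)) (.or (.ncom (.c 999) (.c 6)) (.and (.inn (.c 999)) (.or
        (.ncom (.c 999) (.c 2)) (.or (.eq (.c 999) .one) (.eq (.c 999) .one)))))))) :=
  holds_cen gd hι V_mem hb card_cz_le (cs := [3179344, 5288971, 290534024, 322769868, 2143112, 5289036, 908, 2942155, 66447, 9, 78739, 82836, 842, 0,
        33672, 66383])
    (ls := [⟨998, 0, 0, 4, [0, 1, 2, 3]⟩, ⟨1889, 999, 0, 3, [4, 5, 6, 7]⟩, ⟨987, 1890, 0, 1, [8, 9]⟩, ⟨519, 988, 0, 0, []⟩, ⟨1839, 520, 0, 0, []⟩,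
        ⟨1428, 1840, 0, 0, []⟩, ⟨2467, 0, 0, 1, [10, 11, 12, 9]⟩, ⟨3584, 2468, 0, 1, [13, 13, 13, 14]⟩, ⟨2399, 3585, 0, 1, [15, 13, 13, 13]⟩, ⟨2444,
        2400, 0, 0, []⟩])
    E 3 999 _ (by decide +kernel)

theorem T1 : Tr3 ⊤ G0 (e 0) (e 1) 1 := by
  obtain ⟨h1, h2, h3, h4, h5, h6, h7, h8, h9⟩ := hh (.and (.inn (.c 0)) (.and (.com (.c 0) (.c 1)) (.and (.inn (.c 2)) (.and (.eq (.cj (.c 2) (.c 0))
        (.c 1)) (.and (.eq (.cj (.c 2) (.c 1)) (.mul (.c 0) (.c 1))) (.and (.and (.inn (.c 3)) (.and (.com (.c 3) (.c 0)) (.com (.c 3) (.c 1))))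
        (.and (.and (.inn (.c 4)) (.and (.com (.c 4) (.c 0)) (.com (.c 4) (.c 1)))) (.and (.and (.inn (.c 5)) (.and (.com (.c 5) (.c 0)) (.com (.c 5)
        (.c 1)))) (.and (.inn (.c 6)) (.and (.com (.c 6) (.c 0)) (.com (.c 6) (.c 1)))))))))))) (by decide +kernel)
  exact tr3_of (g := (e 2)) h1 h2 h3 h4 h5 h6 h6 h7 h8 h9 cen1

theorem cen2 : ∀ d, Commute d (e 0) → Commute d (e 10) → Pf.sem G0 (WF.upd e 999 d)
    (.or (.ncom (.c 999) (.c 10)) (.or (.ncom (.c 999) (.c 11)) (.or (.ncom (.c 999) (.c 12)) (.or (.ncom (.c 999) (.c 13)) (.and (.inn (.c 999))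
        (.or (.ncom (.c 999) (.c 8)) (.or (.eq (.c 999) .one) (.eq (.c 999) (.c 9))))))))) :=
  holds_cen gd hι V_mem hb card_cz_le (cs := [4240018, 2176080, 2179788, 50312, 4277449, 4273294, 2155336, 10, 50060, 0, 13, 33608, 5039309])
    (ls := [⟨552, 0, 0, 4, [0, 1, 2, 3]⟩, ⟨1698, 553, 0, 3, [4, 5, 6]⟩, ⟨826, 1699, 0, 1, [7, 8]⟩, ⟨179, 827, 0, 0, []⟩, ⟨1482, 0, 0, 1, [7, 9, 9,
        9]⟩, ⟨505, 1483, 0, 1, [9, 10]⟩, ⟨1976, 506, 0, 1, [9, 9, 9, 11]⟩, ⟨648, 1977, 0, 0, []⟩, ⟨2958, 0, 0, 1, [9, 9, 9, 12]⟩, ⟨3488, 2959, 0, 0,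
        []⟩])
    E 10 999 _ (by decide +kernel)

theorem T5 : Tr3 ⊤ G0 (e 0) (e 7) (e 9) := by
  obtain ⟨h1, h2, h3, h4, h5, h6, h7, h8, h9⟩ := hh (.and (.inn (.c 0)) (.and (.com (.c 0) (.c 7)) (.and (.inn (.c 8)) (.and (.eq (.cj (.c 8) (.c 0))
        (.c 7)) (.and (.eq (.cj (.c 8) (.c 7)) (.mul (.c 0) (.c 7))) (.and (.and (.inn (.c 10)) (.and (.com (.c 10) (.c 0)) (.com (.c 10) (.c 7))))
        (.and (.and (.inn (.c 11)) (.and (.com (.c 11) (.c 0)) (.com (.c 11) (.c 7)))) (.and (.and (.inn (.c 12)) (.and (.com (.c 12) (.c 0)) (.com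
        (.c 12) (.c 7)))) (.and (.inn (.c 13)) (.and (.com (.c 13) (.c 0)) (.com (.c 13) (.c 7)))))))))))) (by decide +kernel)
  exact tr3_of (g := (e 8)) h1 h2 h3 h4 h5 h6 h6 h7 h8 h9 cen2

theorem M1 : MuD ⊤ G0 (e 0) (e 0) (e 1) := by
  obtain ⟨h1, h2, h3⟩ := hh (.and (.ne (.c 14) (.c 0)) (.and (.ne (.c 14) (.c 1)) (.ne (.c 14) (.mul (.c 0) (.c 1))))) (by decide +kernel)
  exact .cube (c := (e 14)) ⟨1, one_mem _, by simp⟩ T1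
    (T1.cj2 (c := (e 15)) (hh (.and (.inn (.c 15)) (.and (.eq (.cj (.c 15) (.c 0)) (.c 0)) (.eq (.cj (.c 15) (.c 1)) (.mul (.c 1) (.c 14))))) 
        (by decide +kernel)))
    (T5.cj3 (c := (e 16)) (hh (.and (.inn (.c 16)) (.and (.eq (.cj (.c 16) (.c 0)) (.mul (.c 0) (.c 1))) (.and (.eq (.cj (.c 16) (.c 7)) (.c 14))
        (.eq (.cj (.c 16) (.c 9)) (.c 0))))) (by decide +kernel)))
    (T5.cj3 (c := (e 17)) (hh (.and (.inn (.c 17)) (.and (.eq (.cj (.c 17) (.c 0)) (.c 1)) (.and (.eq (.cj (.c 17) (.c 7)) (.c 14)) (.eq (.cj (.c 17)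
        (.c 9)) (.c 0))))) (by decide +kernel))) h1 h2 h3

theorem cen3 : ∀ d, Commute d (e 0) → Commute d (e 20) → Pf.sem G0 (WF.upd e 999 d)
    (.or (.ncom (.c 999) (.c 20)) (.or (.ncom (.c 999) (.c 21)) (.or (.ncom (.c 999) (.c 22)) (.or (.ncom (.c 999) (.c 23)) (.and (.inn (.c 999))
        (.or (.ncom (.c 999) (.c 19)) (.or (.eq (.c 999) .one) (.eq (.c 999) .one)))))))) :=
  holds_cen gd hι V_mem hb card_cz_le (cs := [321958987, 2143309, 203502536, 5292746, 3228564, 74577, 3740433, 237814474, 14, 9, 0, 2941771, 50060,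
        62096])
    (ls := [⟨1506, 0, 0, 4, [0, 1, 2, 3]⟩, ⟨1043, 1507, 0, 3, [4, 5, 6, 7]⟩, ⟨141, 1044, 0, 1, [8]⟩, ⟨1077, 142, 0, 0, []⟩, ⟨1301, 1078, 0, 0, []⟩,
        ⟨671, 1302, 0, 0, []⟩, ⟨288, 0, 0, 1, [9]⟩, ⟨667, 289, 0, 1, [10, 11, 10]⟩, ⟨848, 668, 0, 1, [12, 10, 10, 10]⟩, ⟨1393, 849, 0, 1, [10, 10,
        10, 13]⟩, ⟨163, 1394, 0, 0, []⟩])
    E 20 999 _ (by decide +kernel)

theorem T2 : Tr3 ⊤ G0 (e 0) (e 18) 1 := by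
  obtain ⟨h1, h2, h3, h4, h5, h6, h7, h8, h9⟩ := hh (.and (.inn (.c 0)) (.and (.com (.c 0) (.c 18)) (.and (.inn (.c 19)) (.and (.eq (.cj (.c 19) (.c
        0)) (.c 18)) (.and (.eq (.cj (.c 19) (.c 18)) (.mul (.c 0) (.c 18))) (.and (.and (.inn (.c 20)) (.and (.com (.c 20) (.c 0)) (.com (.c 20) (.c
        18)))) (.and (.and (.inn (.c 21)) (.and (.com (.c 21) (.c 0)) (.com (.c 21) (.c 18)))) (.and (.and (.inn (.c 22)) (.and (.com (.c 22) (.c 0))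
        (.com (.c 22) (.c 18)))) (.and (.inn (.c 23)) (.and (.com (.c 23) (.c 0)) (.com (.c 23) (.c 18)))))))))))) (by decide +kernel)
  exact tr3_of (g := (e 19)) h1 h2 h3 h4 h5 h6 h6 h7 h8 h9 cen3

theorem cen4 : ∀ d, Commute d (e 0) → Commute d (e 27) → Pf.sem G0 (WF.upd e 999 d)
    (.or (.ncom (.c 999) (.c 27)) (.or (.ncom (.c 999) (.c 28)) (.or (.ncom (.c 999) (.c 29)) (.or (.ncom (.c 999) (.c 30)) (.and (.inn (.c 999))
        (.or (.ncom (.c 999) (.c 25)) (.or (.eq (.c 999) .one) (.eq (.c 999) (.c 26))))))))) :=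
  holds_cen gd hι V_mem hb card_cz_le (cs := [4502797, 239662218, 304137481, 237814924, 907, 3454218, 321471689, 9, 62096, 905, 14, 62288, 0,
        3986441, 78739])
    (ls := [⟨1839, 0, 0, 4, [0, 1, 2, 3]⟩, ⟨313, 1840, 0, 3, [4, 5, 6]⟩, ⟨1148, 314, 0, 1, [7, 7, 8]⟩, ⟨1463, 1149, 0, 0, []⟩, ⟨1436, 0, 0, 1, [9,
        10, 11]⟩, ⟨1947, 1437, 0, 1, [12, 12, 12, 13]⟩, ⟨683, 1948, 0, 1, [12, 12, 14, 12]⟩, ⟨1834, 684, 0, 0, []⟩])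
    E 27 999 _ (by decide +kernel)

theorem T6 : Tr3 ⊤ G0 (e 0) (e 24) (e 26) := by
  obtain ⟨h1, h2, h3, h4, h5, h6, h7, h8, h9⟩ := hh (.and (.inn (.c 0)) (.and (.com (.c 0) (.c 24)) (.and (.inn (.c 25)) (.and (.eq (.cj (.c 25) (.c
        0)) (.c 24)) (.and (.eq (.cj (.c 25) (.c 24)) (.mul (.c 0) (.c 24))) (.and (.and (.inn (.c 27)) (.and (.com (.c 27) (.c 0)) (.com (.c 27) (.c
        24)))) (.and (.and (.inn (.c 28)) (.and (.com (.c 28) (.c 0)) (.com (.c 28) (.c 24)))) (.and (.and (.inn (.c 29)) (.and (.com (.c 29) (.c 0))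
        (.com (.c 29) (.c 24)))) (.and (.inn (.c 30)) (.and (.com (.c 30) (.c 0)) (.com (.c 30) (.c 24)))))))))))) (by decide +kernel)
  exact tr3_of (g := (e 25)) h1 h2 h3 h4 h5 h6 h6 h7 h8 h9 cen4

theorem M2 : MuD ⊤ G0 (e 0) (e 0) (e 18) := by
  obtain ⟨h1, h2, h3⟩ := hh (.and (.ne (.c 31) (.c 0)) (.and (.ne (.c 31) (.c 18)) (.ne (.c 31) (.mul (.c 0) (.c 18))))) (by decide +kernel)
  exact .cube (c := (e 31)) ⟨1, one_mem _, by simp⟩ T2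
    (T2.cj2 (c := (e 32)) (hh (.and (.inn (.c 32)) (.and (.eq (.cj (.c 32) (.c 0)) (.c 0)) (.eq (.cj (.c 32) (.c 18)) (.mul (.c 18) (.c 31))))) 
        (by decide +kernel)))
    (T6.cj3 (c := (e 33)) (hh (.and (.inn (.c 33)) (.and (.eq (.cj (.c 33) (.c 0)) (.mul (.c 0) (.c 18))) (.and (.eq (.cj (.c 33) (.c 24)) (.c 31))
        (.eq (.cj (.c 33) (.c 26)) (.c 0))))) (by decide +kernel)))
    (T6.cj3 (c := (e 34)) (hh (.and (.inn (.c 34)) (.and (.eq (.cj (.c 34) (.c 0)) (.c 18)) (.and (.eq (.cj (.c 34) (.c 24)) (.c 31)) (.eq (.cj (.c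
        34) (.c 26)) (.c 0))))) (by decide +kernel))) h1 h2 h3

theorem M5 : MuD ⊤ G0 (e 0) (e 0) (e 7) := by
  obtain ⟨h1, h2, h3, h4, h5, h6, h7⟩ := hh (.and (.inn (.c 36)) (.and (.inn (.c 37)) (.and (.eq (.cj (.c 36) (.c 0)) (.mul (.c 35) (.c 0))) (.and
        (.eq (.cj (.c 36) (.c 7)) (.c 7)) (.and (.eq (.cj (.c 37) (.c 0)) (.c 35)) (.and (.eq (.cj (.c 37) (.c 7)) (.mul (.c 0) (.c 7))) (.ne (.cj
        (.c 36) (.c 9)) (.mul (.c 9) (.cj (.c 37) (.c 9)))))))))) (by decide +kernel)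
  exact .odd (a := (e 35)) (g₂ := (e 36)) (g₄ := (e 37))
    (M1.cj2 (c := (e 38)) (hh (.and (.inn (.c 38)) (.and (.eq (.cj (.c 38) (.c 0)) (.c 35)) (.eq (.cj (.c 38) (.c 1)) (.c 0)))) (by decide +kernel)))
        T5 h1 h2 h3 h4 h5 h6 h7

theorem M6 : MuD ⊤ G0 (e 0) (e 0) (e 24) := by
  obtain ⟨h1, h2, h3, h4, h5, h6, h7⟩ := hh (.and (.inn (.c 40)) (.and (.inn (.c 41)) (.and (.eq (.cj (.c 40) (.c 0)) (.mul (.c 39) (.c 0))) (.and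
        (.eq (.cj (.c 40) (.c 24)) (.c 24)) (.and (.eq (.cj (.c 41) (.c 0)) (.c 39)) (.and (.eq (.cj (.c 41) (.c 24)) (.mul (.c 0) (.c 24))) (.ne
        (.cj (.c 40) (.c 26)) (.mul (.c 26) (.cj (.c 41) (.c 26)))))))))) (by decide +kernel)
  exact .odd (a := (e 39)) (g₂ := (e 40)) (g₄ := (e 41))
    (M1.cj2 (c := (e 42)) (hh (.and (.inn (.c 42)) (.and (.eq (.cj (.c 42) (.c 0)) (.c 39)) (.eq (.cj (.c 42) (.c 1)) (.c 0)))) (by decide +kernel)))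
        T6 h1 h2 h3 h4 h5 h6 h7

theorem cen5 : ∀ d, Commute d (e 0) → Commute d (e 50) → Pf.sem G0 (WF.upd e 999 d)
    (.or (.ncom (.c 999) (.c 50)) (.or (.ncom (.c 999) (.c 43)) (.or (.ncom (.c 999) (.c 44)) (.or (.ncom (.c 999) (.c 51)) (.or (.ncom (.c 999) (.c
        52)) (.or (.ncom (.c 999) (.c 53)) (.or (.ncom (.c 999) (.c 54)) (.and (.inn (.c 999)) (.or (.ne (.mul (.c 999) (.c 999)) .one) (.or (.ncom
        (.c 999) .one) (.or (.eq (.c 999) .one) (.or (.eq (.c 999) (.c 55)) (.or (.eq (.c 999) (.c 56)) (.or (.eq (.c 999) (.c 57)) (.or (.eq (.c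
        999) (.c 58)) (.or (.eq (.c 999) (.c 59)) (.or (.eq (.c 999) (.c 60)) (.or (.eq (.c 999) (.c 61)) (.or (.eq (.c 999) (.c 62)) (.or (.eq (.c
        999) (.c 63)) (.or (.eq (.c 999) (.c 64)) (.or (.eq (.c 999) (.c 65)) (.or (.eq (.c 999) (.c 66)) (.or (.eq (.c 999) (.c 67)) (.or (.eq (.c
        999) (.c 68)) (.eq (.c 999) (.c 69))))))))))))))))))))))))))) :=
  holds_cen gd hι V_mem hb card_cz_le (cs := [4797708, 5043468, 171762505, 239928008, 70290, 5301074, 4014866, 4768980, 3715979, 74385, 909, 0, 14,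
        66447, 62096])
    (ls := [⟨2610, 0, 0, 4, [0, 1, 2, 3]⟩, ⟨2577, 2611, 0, 3, [4, 5, 6, 7]⟩, ⟨3941, 0, 0, 1, [8, 9, 10, 11]⟩, ⟨2099, 3942, 0, 1, [12, 13, 11]⟩, ⟨863,
        0, 0, 2, [11, 12, 14, 11]⟩, ⟨1591, 864, 0, 0, []⟩])
    E 50 999 _ (by decide +kernel)

theorem B0 : Bad ⊤ G0 (e 0) (e 45) (e 46) ((e 47) * (e 55) * (e 47)⁻¹) ((e 48) * (e 55) * (e 48)⁻¹) ((e 49) * (e 55) * (e 49)⁻¹) :=
  .inr (.inl (M6.cj2 (c := (e 70)) (hh (.and (.inn (.c 70)) (.and (.eq (.cj (.c 70) (.c 0)) (.c 45)) (.eq (.cj (.c 70) (.c 24)) (.mul (.c 45) (.cj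
        (.cj (.c 48) (.c 55)) (.c 45)))))) (by decide +kernel))))

theorem B1 : Bad ⊤ G0 (e 0) (e 45) (e 46) ((e 47) * (e 56) * (e 47)⁻¹) ((e 48) * (e 56) * (e 48)⁻¹) ((e 49) * (e 56) * (e 49)⁻¹) :=
  .inr (.inl (M2.cj2 (c := (e 71)) (hh (.and (.inn (.c 71)) (.and (.eq (.cj (.c 71) (.c 0)) (.c 45)) (.eq (.cj (.c 71) (.c 18)) (.mul (.c 45) (.cj
        (.cj (.c 48) (.c 56)) (.c 45)))))) (by decide +kernel))))

theorem B2 : Bad ⊤ G0 (e 0) (e 45) (e 46) ((e 47) * (e 57) * (e 47)⁻¹) ((e 48) * (e 57) * (e 48)⁻¹) ((e 49) * (e 57) * (e 49)⁻¹) :=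
  .inr (.inl (M6.cj2 (c := (e 72)) (hh (.and (.inn (.c 72)) (.and (.eq (.cj (.c 72) (.c 0)) (.c 45)) (.eq (.cj (.c 72) (.c 24)) (.mul (.c 45) (.cj
        (.cj (.c 48) (.c 57)) (.c 45)))))) (by decide +kernel))))

theorem B3 : Bad ⊤ G0 (e 0) (e 45) (e 46) ((e 47) * (e 58) * (e 47)⁻¹) ((e 48) * (e 58) * (e 48)⁻¹) ((e 49) * (e 58) * (e 49)⁻¹) :=
  .inr (.inl (M6.cj2 (c := (e 73)) (hh (.and (.inn (.c 73)) (.and (.eq (.cj (.c 73) (.c 0)) (.c 45)) (.eq (.cj (.c 73) (.c 24)) (.mul (.c 45) (.cj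
        (.cj (.c 48) (.c 58)) (.c 45)))))) (by decide +kernel))))

theorem B4 : Bad ⊤ G0 (e 0) (e 45) (e 46) ((e 47) * (e 59) * (e 47)⁻¹) ((e 48) * (e 59) * (e 48)⁻¹) ((e 49) * (e 59) * (e 49)⁻¹) :=
  .inr (.inl (M6.cj2 (c := (e 74)) (hh (.and (.inn (.c 74)) (.and (.eq (.cj (.c 74) (.c 0)) (.c 45)) (.eq (.cj (.c 74) (.c 24)) (.mul (.c 45) (.cj
        (.cj (.c 48) (.c 59)) (.c 45)))))) (by decide +kernel))))

theorem B5 : Bad ⊤ G0 (e 0) (e 45) (e 46) ((e 47) * (e 60) * (e 47)⁻¹) ((e 48) * (e 60) * (e 48)⁻¹) ((e 49) * (e 60) * (e 49)⁻¹) :=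
  .inr (.inl (M6.cj2 (c := (e 75)) (hh (.and (.inn (.c 75)) (.and (.eq (.cj (.c 75) (.c 0)) (.c 45)) (.eq (.cj (.c 75) (.c 24)) (.mul (.c 45) (.cj
        (.cj (.c 48) (.c 60)) (.c 45)))))) (by decide +kernel))))

theorem B6 : Bad ⊤ G0 (e 0) (e 45) (e 46) ((e 47) * (e 61) * (e 47)⁻¹) ((e 48) * (e 61) * (e 48)⁻¹) ((e 49) * (e 61) * (e 49)⁻¹) :=
  .inr (.inl (M6.cj2 (c := (e 76)) (hh (.and (.inn (.c 76)) (.and (.eq (.cj (.c 76) (.c 0)) (.c 45)) (.eq (.cj (.c 76) (.c 24)) (.mul (.c 45) (.cj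
        (.cj (.c 48) (.c 61)) (.c 45)))))) (by decide +kernel))))

theorem B7 : Bad ⊤ G0 (e 0) (e 45) (e 46) ((e 47) * (e 62) * (e 47)⁻¹) ((e 48) * (e 62) * (e 48)⁻¹) ((e 49) * (e 62) * (e 49)⁻¹) :=
  .inr (.inl (M6.cj2 (c := (e 77)) (hh (.and (.inn (.c 77)) (.and (.eq (.cj (.c 77) (.c 0)) (.c 45)) (.eq (.cj (.c 77) (.c 24)) (.mul (.c 45) (.cj
        (.cj (.c 48) (.c 62)) (.c 45)))))) (by decide +kernel))))

theorem B8 : Bad ⊤ G0 (e 0) (e 45) (e 46) ((e 47) * (e 63) * (e 47)⁻¹) ((e 48) * (e 63) * (e 48)⁻¹) ((e 49) * (e 63) * (e 49)⁻¹) :=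
  .inr (.inl (M6.cj2 (c := (e 78)) (hh (.and (.inn (.c 78)) (.and (.eq (.cj (.c 78) (.c 0)) (.c 45)) (.eq (.cj (.c 78) (.c 24)) (.mul (.c 45) (.cj
        (.cj (.c 48) (.c 63)) (.c 45)))))) (by decide +kernel))))

theorem B9 : Bad ⊤ G0 (e 0) (e 45) (e 46) ((e 47) * (e 64) * (e 47)⁻¹) ((e 48) * (e 64) * (e 48)⁻¹) ((e 49) * (e 64) * (e 49)⁻¹) :=
  .inr (.inl (M6.cj2 (c := (e 79)) (hh (.and (.inn (.c 79)) (.and (.eq (.cj (.c 79) (.c 0)) (.c 45)) (.eq (.cj (.c 79) (.c 24)) (.mul (.c 45) (.cj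
        (.cj (.c 48) (.c 64)) (.c 45)))))) (by decide +kernel))))

theorem B10 : Bad ⊤ G0 (e 0) (e 45) (e 46) ((e 47) * (e 65) * (e 47)⁻¹) ((e 48) * (e 65) * (e 48)⁻¹) ((e 49) * (e 65) * (e 49)⁻¹) :=
  .inr (.inl (M6.cj2 (c := (e 80)) (hh (.and (.inn (.c 80)) (.and (.eq (.cj (.c 80) (.c 0)) (.c 45)) (.eq (.cj (.c 80) (.c 24)) (.mul (.c 45) (.cj
        (.cj (.c 48) (.c 65)) (.c 45)))))) (by decide +kernel))))

theorem B11 : Bad ⊤ G0 (e 0) (e 45) (e 46) ((e 47) * (e 66) * (e 47)⁻¹) ((e 48) * (e 66) * (e 48)⁻¹) ((e 49) * (e 66) * (e 49)⁻¹) :=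
  .inl (hh (.and (.com (.c 45) (.cj (.c 48) (.c 66))) (.ne (.mul (.cj (.c 48) (.c 66)) (.cj (.c 47) (.c 66))) (.cj (.c 49) (.c 66)))) (by decide +kernel)
       )

theorem B12 : Bad ⊤ G0 (e 0) (e 45) (e 46) ((e 47) * (e 67) * (e 47)⁻¹) ((e 48) * (e 67) * (e 48)⁻¹) ((e 49) * (e 67) * (e 49)⁻¹) :=
  .inr (.inl (M6.cj2 (c := (e 81)) (hh (.and (.inn (.c 81)) (.and (.eq (.cj (.c 81) (.c 0)) (.c 45)) (.eq (.cj (.c 81) (.c 24)) (.mul (.c 45) (.cj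
        (.cj (.c 48) (.c 67)) (.c 45)))))) (by decide +kernel))))

theorem B13 : Bad ⊤ G0 (e 0) (e 45) (e 46) ((e 47) * (e 68) * (e 47)⁻¹) ((e 48) * (e 68) * (e 48)⁻¹) ((e 49) * (e 68) * (e 49)⁻¹) :=
  .inr (.inl (M2.cj2 (c := (e 82)) (hh (.and (.inn (.c 82)) (.and (.eq (.cj (.c 82) (.c 0)) (.c 45)) (.eq (.cj (.c 82) (.c 18)) (.mul (.c 45) (.cj
        (.cj (.c 48) (.c 68)) (.c 45)))))) (by decide +kernel))))

theorem B14 : Bad ⊤ G0 (e 0) (e 45) (e 46) ((e 47) * (e 69) * (e 47)⁻¹) ((e 48) * (e 69) * (e 48)⁻¹) ((e 49) * (e 69) * (e 49)⁻¹) :=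
  .inr (.inl (M6.cj2 (c := (e 83)) (hh (.and (.inn (.c 83)) (.and (.eq (.cj (.c 83) (.c 0)) (.c 45)) (.eq (.cj (.c 83) (.c 24)) (.mul (.c 45) (.cj
        (.cj (.c 48) (.c 69)) (.c 45)))))) (by decide +kernel))))

theorem R : RlD ⊤ G0 (e 0) (e 43) (e 44) := by
  obtain ⟨h1, h2, h3, h4, h5, h6, h7, h8, h9, h10⟩ := hh (.and (.eq (.cj (.c 43) (.c 44)) (.mul (.c 44) (.c 0))) (.and (.inn (.c 47)) (.and (.inn (.c
        48)) (.and (.inn (.c 49)) (.and (.and (.inn (.c 0)) (.and (.com (.c 0) (.c 43)) (.com (.c 0) (.c 44)))) (.and (.and (.inn (.c 50)) (.and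
        (.com (.c 50) (.c 43)) (.com (.c 50) (.c 44)))) (.and (.and (.inn (.c 51)) (.and (.com (.c 51) (.c 43)) (.com (.c 51) (.c 44)))) (.and (.and
        (.inn (.c 52)) (.and (.com (.c 52) (.c 43)) (.com (.c 52) (.c 44)))) (.and (.and (.inn (.c 53)) (.and (.com (.c 53) (.c 43)) (.com (.c 53)
        (.c 44)))) (.and (.inn (.c 54)) (.and (.com (.c 54) (.c 43)) (.com (.c 54) (.c 44))))))))))))) (by decide +kernel)
  exact trip_of (a₁ := (e 45)) (a₂ := (e 46)) (q₀ := e 0) (g₁ := (e 47)) (g₂ := (e 48)) (g₃ := (e 49)) (s := 1)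
    (fun d => d = (e 55) ∨ d = (e 56) ∨ d = (e 57) ∨ d = (e 58) ∨ d = (e 59) ∨ d = (e 60) ∨ d = (e 61) ∨ d = (e 62) ∨ d = (e 63) ∨ d = (e 64) ∨ d =
        (e 65) ∨ d = (e 66) ∨ d = (e 67) ∨ d = (e 68) ∨ d = (e 69))
    (M5.cj2 (c := (e 84)) (hh (.and (.inn (.c 84)) (.and (.eq (.cj (.c 84) (.c 0)) (.c 43)) (.eq (.cj (.c 84) (.c 7)) (.c 0)))) (by decide +kernel)))
    (M6.cj2 (c := (e 85)) (hh (.and (.inn (.c 85)) (.and (.eq (.cj (.c 85) (.c 0)) (.c 44)) (.eq (.cj (.c 85) (.c 24)) (.c 0)))) (by decide +kernel)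
       )) h1
    (M6.cj2 (c := (e 86)) (hh (.and (.inn (.c 86)) (.and (.eq (.cj (.c 86) (.c 0)) (.c 45)) (.eq (.cj (.c 86) (.c 24)) (.c 46)))) (by decide +kernel)
       )) h2 h3 h4
    (.inr (hh (.and (.eq (.cj (.c 47) (.c 43)) (.c 0)) (.eq (.cj (.c 47) (.c 44)) (.c 45))) (by decide +kernel)))
    (.inr (hh (.and (.eq (.cj (.c 48) (.c 43)) (.c 0)) (.eq (.cj (.c 48) (.c 44)) (.c 46))) (by decide +kernel)))
    (.inr (hh (.and (.eq (.cj (.c 49) (.c 43)) (.c 0)) (.eq (.cj (.c 49) (.c 44)) (.mul (.c 45) (.c 46)))) (by decide +kernel)))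
    (.inl rfl) h5 h6 h7 h8 h9 h10
    (fun d k l => (cen5 d k l).resolve_left (not_not.2 l)) (by
      rintro d (rfl | rfl | rfl | rfl | rfl | rfl | rfl | rfl | rfl | rfl | rfl | rfl | rfl | rfl | rfl)
      exacts [B0, B1, B2, B3, B4, B5, B6, B7, B8, B9, B10, B11, B12, B13, B14])

theorem S2 : RlD ⊤ G0 (e 0) (e 0) (((e 87) * (e 88)) * (e 87)) :=
  .tri (R.cj2 (c := (e 89)) (hh (.and (.inn (.c 89)) (.and (.eq (.cj (.c 89) (.c 43)) (.c 0)) (.eq (.cj (.c 89) (.c 44)) (.c 87)))) (by decide +kernel)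
       ))
    (.mu (M5.cj2 (c := (e 90)) (hh (.and (.inn (.c 90)) (.and (.eq (.cj (.c 90) (.c 0)) (.c 0)) (.eq (.cj (.c 90) (.c 7)) (.c 88)))) (by decide +kernel)
       )))
    (.symm (R.cj2 (c := (e 91)) (hh (.and (.inn (.c 91)) (.and (.eq (.cj (.c 91) (.c 43)) (.c 88)) (.eq (.cj (.c 91) (.c 44)) (.c 87)))) (by decide +kernel)
       )))

theorem S3 : RlD ⊤ G0 (e 0) (e 0) (((e 92) * (e 93)) * (e 92)) :=
  .tri (R.cj2 (c := (e 94)) (hh (.and (.inn (.c 94)) (.and (.eq (.cj (.c 94) (.c 43)) (.c 0)) (.eq (.cj (.c 94) (.c 44)) (.c 92)))) (by decide +kernel)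
       ))
    (.symm (R.cj2 (c := (e 95)) (hh (.and (.inn (.c 95)) (.and (.eq (.cj (.c 95) (.c 43)) (.c 93)) (.eq (.cj (.c 95) (.c 44)) (.c 0)))) (by decide +kernel)
       )))
    (R.cj2 (c := (e 96)) (hh (.and (.inn (.c 96)) (.and (.eq (.cj (.c 96) (.c 43)) (.c 92)) (.eq (.cj (.c 96) (.c 44)) (.c 93)))) (by decide +kernel)
       ))

theorem P01 : RlD ⊤ G0 (e 0) (e 0) (e 97) :=
  (S3.cj2 (c := (e 99)) (hh (.and (.inn (.c 99)) (.and (.eq (.cj (.c 99) (.c 0)) (.c 0)) (.eq (.cj (.c 99) (.mul (.mul (.c 92) (.c 93)) (.c 92))) (.c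
        97)))) (by decide +kernel)))

theorem P02 : RlD ⊤ G0 (e 0) (e 0) (e 98) :=
  (S2.cj2 (c := (e 100)) (hh (.and (.inn (.c 100)) (.and (.eq (.cj (.c 100) (.c 0)) (.c 0)) (.eq (.cj (.c 100) (.mul (.mul (.c 87) (.c 88)) (.c 87)))
        (.c 98)))) (by decide +kernel)))

theorem P12 : RlD ⊤ G0 (e 0) (e 97) (e 98) :=
  (S2.cj2 (c := (e 101)) (hh (.and (.inn (.c 101)) (.and (.eq (.cj (.c 101) (.c 0)) (.c 97)) (.eq (.cj (.c 101) (.mul (.mul (.c 87) (.c 88)) (.c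
        87))) (.c 98)))) (by decide +kernel)))

theorem gen : G0 ≤ gn e [0, 97, 98] := by
  obtain ⟨h1, h2, h3, h4, h5, h6, h7⟩ := hh (.and (.mem (.c 102) [0, 97, 98] [2, 0, 2, 0, 4, 2, 0, 4, 0, 4, 2, 0, 4, 0, 2, 0, 4, 2, 4, 2, 0, 2, 0, 4,
        2, 4, 0, 2, 4, 0, 2, 0, 2, 0]) (.and (.mem (.c 103) [0, 97, 98] [2, 4, 2, 0, 2, 4, 0, 2, 4, 0, 2, 0, 4, 2, 0, 4, 2, 0, 4, 2, 0, 4, 2, 0, 4,
        2, 4]) (.and (.mem (.c 104) [0, 97, 98] [0, 2, 0, 4, 0, 2, 4, 0, 4, 0, 2, 4, 0, 2, 0, 2, 0, 4, 2, 0, 2, 4, 2, 0, 2, 4, 0, 2, 4, 2, 0, 4])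
        (.and (.mem (.c 105) [0, 97, 98] [0, 4, 0, 2, 0, 4, 0, 4, 2, 0, 2, 4, 0, 4, 0, 2, 0, 2, 4, 0, 2, 0, 4, 2, 4, 2, 0, 4, 2, 0, 4, 2]) (.and
        (.mem (.c 106) [0, 97, 98] [0, 2, 4, 2, 0, 2, 4, 2, 4, 0, 2, 4, 0, 2, 0, 2, 4, 2, 0, 2, 0, 4, 2, 0, 4, 2, 4, 2, 0, 2, 4, 2, 0]) (.and (.mem
        (.c 107) [0, 97, 98] [2, 4, 2, 0, 4, 2, 0, 2, 0, 4, 2, 4, 2, 0, 4, 2, 4, 2, 0, 4, 2, 0, 4, 2, 4, 0, 4, 2, 4, 0, 4]) (.mem (.c 108) [0, 97,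
        98] [0, 2, 4, 2, 0, 4, 0, 2, 0, 4, 2, 0, 4, 2, 0, 2, 0, 4, 2, 0, 2, 0, 2, 4, 0, 2, 4, 0, 4, 2, 0, 2, 0, 2, 4]))))))) (by decide +kernel)
  refine G0_le ?_
  simp only [List.forall_mem_cons]
  exact ⟨h1, h2, h3, h4, h5, h6, h7, fun _ h => nomatch h⟩

theorem clq : Clq ⊤ G0 (e 0) := by
  refine clq_gn e [0, 97, 98] gen ?_ ?_
  · simp only [List.forall_mem_cons]
    exact ⟨⟨1, one_mem _, by simp⟩, ⟨(e 109), hh (.and (.inn (.c 109)) (.eq (.cj (.c 109) (.c 0)) (.c 97))) (by decide +kernel)⟩, ⟨(e 110), hh (.and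
        (.inn (.c 110)) (.eq (.cj (.c 110) (.c 0)) (.c 98))) (by decide +kernel)⟩, fun _ h => nomatch h⟩
  · simp only [List.pairwise_cons, List.forall_mem_cons]
    exact ⟨⟨P01, P02, fun _ h => nomatch h⟩, ⟨P12, fun _ h => nomatch h⟩, (fun _ h => nomatch h), .nil⟩

end Cq

theorem clq : Clq ⊤ G0 z := Cq.clq

end Cfsg.Lib.StdX.He
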