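import Cfsg.Agent.StdX.HeDT
import Cfsg.Agent.StdX.DK
import Cfsg.Agent.Spor.HeOut

/-! The doubled word model of the automorphism group of the group of degree 2058. -/

set_option autoImplicit false
set_option maxRecDepth 100000

namespace Cfsg.Lib.StdX.He

open Subgroup Cfsg.Lib.Spor Cfsg.Lib.Spor.WM Cfsg.Lib.Known Cfsg.Lib.Known.PC
open Cfsg.Lib.Spor.Bulk (wv ltB lt_of_ltB getN)
open Cfsg.Lib.Spor.HeP (ρ g0 lk base t1 t2 t3 t4 t5 t6 t7 t1_g t2_g t3_g t4_g t5_g t6_g t7_g)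

/-- the generators and their images -/
noncomputable def sT : FT := (.node (nat_lit 8) (.node (nat_lit 4) (.node (nat_lit 2) (.node (nat_lit 1) (.leaf id) (.leaf (lk t1))) (.node
    (nat_lit 3) (.leaf (lk t2)) (.leaf (lk t3)))) (.node (nat_lit 6) (.node (nat_lit 5) (.leaf (lk t4)) (.leaf (lk
    t5))) (.node (nat_lit 7) (.leaf (lk t6)) (.leaf (lk t7))))) (.node (nat_lit 12) (.node (nat_lit 10) (.node
    (nat_lit 9) (.leaf id) (.leaf (lk s1))) (.node (nat_lit 11) (.leaf (lk s2)) (.leaf (lk s3)))) (.node (nat_lit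
    14) (.node (nat_lit 13) (.leaf (lk s4)) (.leaf (lk s5))) (.node (nat_lit 15) (.leaf (lk s6)) (.node (nat_lit
    16) (.leaf (lk s7)) (.leaf id))))))
theorem sd : Good ρ sT 4 15 base :=
  ⟨(.node (.node (.node (.node (.leaf (acts_id ρ)) (.leaf t1_g)) (.node (.leaf t2_g) (.leaf t3_g))) (.node (.node
    (.leaf t4_g) (.leaf t5_g)) (.node (.leaf t6_g) (.leaf t7_g)))) (.node (.node (.node (.leaf (acts_id ρ)) (.leaf
    s1_ok)) (.node (.leaf s2_ok) (.leaf s3_ok))) (.node (.node (.leaf s4_ok) (.leaf s5_ok)) (.node (.leaf s6_ok)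
    (.node (.leaf s7_ok) (.leaf (acts_id ρ))))))), acts_id ρ, by decide, rfl, HeP.isBase⟩
theorem sι : invB sT 4 15 base id = true := by decide +kernel
theorem sd_g : ∀ l < 8, Acts ρ (sT.fn l) (g0 l) := fun l hl => by
  interval_cases l
  exacts [HeP.sat.zero ▸ acts_id ρ, t1_g, t2_g, t3_g, t4_g, t5_g, t6_g, t7_g]
/-- the words of the images of the generators -/
def Ws : List (List ℕ) := [[],
  [1,3,6,4,3,2,4,3,7,4,5,6,4,3,2,5,7,4,3,4,6,3],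
  [2,1,5,7,4,6,7,4,3,2,4,3,4,7,4,3,2,4,5,3,4,7,6,4,7,5,2,1],
  [4,5,7,4,3,2,4,3,7,4,5,6,4,3,2,4,7,4,3,4,5,4,3,4,6,4,3],
  [2,3,7,4,3,4,3,2,5,6,4,3,2,5,7,4,3,5,6,4,3,4,7,3,2],
  [2,4,3,2,6,4,3,2,5,7,4,3,6,4,3,2,4,5,7,3,4,3,4,7,4,5,2,3,4],
  [2,4,3,2,4,3,2,7,4,3,6,4,3,2,4,3,7,4,5,3,4,7,4,6,2,3,4],
  [2,3,4,3,2,4,3,4,3,2,5,4,3,2,7,4,3,6,4,5,2,3,4,6,4,5]]
theorem Ws_eq_1' : type_of% @Ws.eq_1 := @Ws.eq_1
theorem ex_σ : ∃ σ : Cfsg.Spor.He →* Cfsg.Spor.He, (∀ l < 8, σ (g0 l) = wv g0 (Ws.getD l [])) ∧ ∀ x, σ (σ x) = x :=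
  exists_invo (sd.hasF sι) HeP.pres (gs := [0, 1, 2, 3, 4, 5, 6, 7]) (fun l hl => by
    have : nth (fops sT 4 15 base 2058 id).one [0, 1, 2, 3, 4, 5, 6, 7] l = l := by interval_cases l <;> rfl
    rw [this]; exact sd.fm_R (sd.R_letter (by omega) (sd_g l hl))) le_rfl Ws (by decide +kernel)
/-- the outer automorphism of order two -/
noncomputable def σ : Cfsg.Spor.He →* Cfsg.Spor.He := ex_σ.choose
theorem σ_eq_1' : type_of% @σ.eq_1 := @σ.eq_1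
theorem σ_g : ∀ l < 8, σ (g0 l) = wv g0 (Ws.getD l []) := ex_σ.choose_spec.1
theorem hσ : ∀ x, σ (σ x) = x := ex_σ.choose_spec.2
theorem sd_s : ∀ l < 8, Acts ρ (sT.fn (l + 8)) (σ (g0 l)) := fun l hl => by
  rw [σ_g l hl]
  interval_cases l
  exacts [acts_id ρ, s1_ok, s2_ok, s3_ok, s4_ok, s5_ok, s6_ok, s7_ok]
theorem sig {W W' : List ℕ} (hc : Dbl.sigB sT 4 15 base 8 W W' = true) : σ (wv g0 W) = wv g0 W' :=
  Dbl.sig_eq sd le_rfl sd_g sd_s hc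
/-- the automorphism group -/
abbrev Om : Type := Dbl.Om ρ σ
/-- the simple group -/
noncomputable abbrev G0 : Subgroup Om := Dbl.G0 ρ σ
instance finite : Finite Om := inferInstance
theorem dl {f f' : ℕ → ℕ} {W W' : List ℕ} (a : Acts ρ f (wv g0 W)) (a' : Acts ρ f' (wv g0 W'))
    (hc : Dbl.sigB sT 4 15 base 8 W W' = true) :
    Acts (Dbl.rho ρ σ) (Dbl.df 2058 f f') (Dbl.io ρ σ (wv g0 W)) := Dbl.acts_io a (sig hc ▸ a')
theorem ol {f f' : ℕ → ℕ} {W W' : List ℕ} (a : Acts ρ f (wv g0 W)) (a' : Acts ρ f' (wv g0 W'))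
    (hc : Dbl.sigB sT 4 15 base 8 W W' = true) :
    Acts (Dbl.rho ρ σ) (Dbl.og 2058 f f') (Dbl.io ρ σ (wv g0 W) * Dbl.so ρ σ) := Dbl.acts_og a (sig hc ▸ a')
theorem L1 : Acts (Dbl.rho ρ σ) (Dbl.df (nat_lit 2058) (lk t1) (lk s1)) (Dbl.io ρ σ (g0 1)) :=
  Dbl.acts_io t1_g (sd_s 1 (by decide))
theorem L2 : Acts (Dbl.rho ρ σ) (Dbl.df (nat_lit 2058) (lk t2) (lk s2)) (Dbl.io ρ σ (g0 2)) :=
  Dbl.acts_io t2_g (sd_s 2 (by decide))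
theorem L3 : Acts (Dbl.rho ρ σ) (Dbl.df (nat_lit 2058) (lk t3) (lk s3)) (Dbl.io ρ σ (g0 3)) :=
  Dbl.acts_io t3_g (sd_s 3 (by decide))
theorem L4 : Acts (Dbl.rho ρ σ) (Dbl.df (nat_lit 2058) (lk t4) (lk s4)) (Dbl.io ρ σ (g0 4)) :=
  Dbl.acts_io t4_g (sd_s 4 (by decide))
theorem L5 : Acts (Dbl.rho ρ σ) (Dbl.df (nat_lit 2058) (lk t5) (lk s5)) (Dbl.io ρ σ (g0 5)) :=
  Dbl.acts_io t5_g (sd_s 5 (by decide))
theorem L6 : Acts (Dbl.rho ρ σ) (Dbl.df (nat_lit 2058) (lk t6) (lk s6)) (Dbl.io ρ σ (g0 6)) :=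
  Dbl.acts_io t6_g (sd_s 6 (by decide))
theorem L7 : Acts (Dbl.rho ρ σ) (Dbl.df (nat_lit 2058) (lk t7) (lk s7)) (Dbl.io ρ σ (g0 7)) :=
  Dbl.acts_io t7_g (sd_s 7 (by decide))
theorem L9 : Acts (Dbl.rho ρ σ) (Dbl.df (nat_lit 2058) (lk f9) (lk f9))
    (Dbl.io ρ σ (wv g0 [3,2,4,3,6,4,3,2,4,3,5,6,4,3,2,4,7,4,3,4,2,3,4,6,5,4,7,6,2,1])) :=
  dl f9_ok f9_ok (by decide +kernel)
theorem L10 : Acts (Dbl.rho ρ σ) (Dbl.df (nat_lit 2058) (lk f10) (lk f10))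
    (Dbl.io ρ σ (wv g0 [6,4,3,2,4,3,2,4,3,4,5,7,4,3,2,5,4,3,4,1,2,3,4,6])) :=
  dl f10_ok f10_ok (by decide +kernel)
theorem L11 : Acts (Dbl.rho ρ σ) (Dbl.df (nat_lit 2058) (lk f11) (lk h11))
    (Dbl.io ρ σ (wv g0 [5,4,3,4,7,4,3,2,4,3,2,5,4,3,4,3,6,4,5,4,2,3,4,6,4,3,4])) :=
  dl f11_ok h11_ok (by decide +kernel)
theorem L12 : Acts (Dbl.rho ρ σ) (Dbl.df (nat_lit 2058) (lk f12) (lk h12))
    (Dbl.io ρ σ (wv g0 [1,4,3,2,4,3,4,3,5,7,4,3,2,4,3,4,3,5,7,4,3,4,2,3,4,1])) :=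
  dl f12_ok h12_ok (by decide +kernel)
theorem L13 : Acts (Dbl.rho ρ σ) (Dbl.df (nat_lit 2058) (lk f13) (lk h13))
    (Dbl.io ρ σ (wv g0 [2,7,6,4,7,6,4,3,2,5,4,3,4,6,4,3,2,4,3,4,6,7,4,6,7,1,2,1])) :=
  dl f13_ok h13_ok (by decide +kernel)
theorem L14 : Acts (Dbl.rho ρ σ) (Dbl.df (nat_lit 2058) (lk f14) (lk h14))
    (Dbl.io ρ σ (wv g0 [3,2,4,3,7,4,3,2,4,3,6,4,3,4,3,2,6,4,3,4,7,3,4,2,3])) :=
  dl f14_ok h14_ok (by decide +kernel)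
theorem L15 : Acts (Dbl.rho ρ σ) (Dbl.df (nat_lit 2058) (lk f15) (lk h15))
    (Dbl.io ρ σ (wv g0 [1,6,4,5,7,4,3,2,5,4,3,2,4,3,6,4,3,4,7,6,2,3,4,3,4,1,2])) :=
  dl f15_ok h15_ok (by decide +kernel)
theorem L16 : Acts (Dbl.rho ρ σ) (Dbl.df (nat_lit 2058) (lk f16) (lk h16))
    (Dbl.io ρ σ (wv g0 [2,1,4,3,4,3,2,6,7,4,3,4,6,3,4,2,3,4,5,2,3,4,7,5,4,6,1])) :=
  dl f16_ok h16_ok (by decide +kernel)
theorem L17 : Acts (Dbl.rho ρ σ) (Dbl.df (nat_lit 2058) (lk f17) (lk h17))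
    (Dbl.io ρ σ (wv g0 [7,4,3,2,4,3,5,4,3,2,6,4,3,2,4,3,4,6,5,4,3])) :=
  dl f17_ok h17_ok (by decide +kernel)
theorem L18 : Acts (Dbl.rho ρ σ) (Dbl.df (nat_lit 2058) (lk f18) (lk h18))
    (Dbl.io ρ σ (wv g0 [3,4,5,6,4,3,4,2,3,4,6,2,3,4,5,3,4,2,3,4,7])) :=
  dl f18_ok h18_ok (by decide +kernel)
theorem L19 : Acts (Dbl.rho ρ σ) (Dbl.df (nat_lit 2058) (lk f19) (lk h19))
    (Dbl.io ρ σ (wv g0 [4,5,6,4,3,2,4,3,7,4,3,2,1,4,3,2,7,4,3,4,7,3,4,2,3,4,6,5,4])) :=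
  dl f19_ok h19_ok (by decide +kernel)
theorem L20 : Acts (Dbl.rho ρ σ) (Dbl.df (nat_lit 2058) (lk f20) (lk h20))
    (Dbl.io ρ σ (wv g0 [3,7,6,4,3,2,5,4,3,2,4,3,2,5,7,4,3,4,5,2,3,4,6,7,3])) :=
  dl f20_ok h20_ok (by decide +kernel)
theorem L21 : Acts (Dbl.rho ρ σ) (Dbl.df (nat_lit 2058) (lk f21) (lk h21))
    (Dbl.io ρ σ (wv g0 [1,2,3,4,3,2,4,6,4,3,2,5,4,3,6,4,3,4,6,2,3,4,7,6,4,3,2])) :=
  dl f21_ok h21_ok (by decide +kernel)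
theorem L22 : Acts (Dbl.rho ρ σ) (Dbl.df (nat_lit 2058) (lk f22) (lk h22))
    (Dbl.io ρ σ (wv g0 [2,3,4,6,7,4,3,2,6,4,3,4,6,3,4,5,2,3,4,6,4,2,3,4,3,2,1])) :=
  dl f22_ok h22_ok (by decide +kernel)
theorem L23 : Acts (Dbl.rho ρ σ) (Dbl.df (nat_lit 2058) (lk f23) (lk h23))
    (Dbl.io ρ σ (wv g0 [2,3,2,4,5,7,4,3,2,4,3,5,4,3,2,6,4,3,5,4,6,4,2,3,4,5,3,2])) :=
  dl f23_ok h23_ok (by decide +kernel)
theorem L24 : Acts (Dbl.rho ρ σ) (Dbl.df (nat_lit 2058) (lk f24) (lk h24))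
    (Dbl.io ρ σ (wv g0 [2,3,5,4,3,2,4,6,4,5,3,4,6,2,3,4,5,3,4,2,3,4,7,5,4,2,3,2])) :=
  dl f24_ok h24_ok (by decide +kernel)
theorem L25 : Acts (Dbl.rho ρ σ) (Dbl.df (nat_lit 2058) (lk f25) (lk h25))
    (Dbl.io ρ σ (wv g0 [2,7,4,3,6,4,3,2,4,3,2,4,3,7,4,3,2,6,4,3,4,6,3,4,2,3,4,3,1])) :=
  dl f25_ok h25_ok (by decide +kernel)
theorem L26 : Acts (Dbl.rho ρ σ) (Dbl.df (nat_lit 2058) (lk f26) (lk h26))
    (Dbl.io ρ σ (wv g0 [1,3,4,3,2,4,3,6,4,3,4,6,2,3,4,7,3,4,2,3,4,2,3,4,6,3,4,7,2])) :=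
  dl f26_ok h26_ok (by decide +kernel)
theorem L27 : Acts (Dbl.rho ρ σ) (Dbl.df (nat_lit 2058) (lk f27) (lk h27))
    (Dbl.io ρ σ (wv g0 [7,6,4,3,2,5,4,3,4,5,6,4,3,2,4,3,4,6,4,7])) :=
  dl f27_ok h27_ok (by decide +kernel)
theorem L28 : Acts (Dbl.rho ρ σ) (Dbl.df (nat_lit 2058) (lk f28) (lk h28))
    (Dbl.io ρ σ (wv g0 [2,1,7,4,3,4,5,7,4,3,2,4,6,4,3,4,5,7,4,3,4,7,1,2])) :=
  dl f28_ok h28_ok (by decide +kernel)
theorem L29 : Acts (Dbl.rho ρ σ) (Dbl.df (nat_lit 2058) (lk f29) (lk h29))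
    (Dbl.io ρ σ (wv g0 [4,3,4,3,2,1,4,3,4,6,4,3,2,5,4,3,7,4,3,4])) :=
  dl f29_ok h29_ok (by decide +kernel)
/-- the letters: 1-7 generators, 8 `so`, 9 `z`, 10 `y`, 11-13 generate `C_T(y)`, 11-14 generate `T`, 15-20 lie in
`C(z)` (orders 7, 7, 3, 3, 2, 2), 21-29 lie in `C(y)` (orders 7, 7, 5, 5, 3, 3, 2, 2, 2) -/
noncomputable def gT : FT := (.node (nat_lit 15) (.node (nat_lit 7) (.node (nat_lit 3) (.node (nat_lit 1) (.leaf id) (.node (nat_lit 2)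
    (.leaf (Dbl.df (nat_lit 2058) (lk t1) (lk s1))) (.leaf (Dbl.df (nat_lit 2058) (lk t2) (lk s2))))) (.node
    (nat_lit 5) (.node (nat_lit 4) (.leaf (Dbl.df (nat_lit 2058) (lk t3) (lk s3))) (.leaf (Dbl.df (nat_lit 2058)
    (lk t4) (lk s4)))) (.node (nat_lit 6) (.leaf (Dbl.df (nat_lit 2058) (lk t5) (lk s5))) (.leaf (Dbl.df (nat_lit
    2058) (lk t6) (lk s6)))))) (.node (nat_lit 11) (.node (nat_lit 9) (.node (nat_lit 8) (.leaf (Dbl.df (nat_lit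
    2058) (lk t7) (lk s7))) (.leaf (Dbl.sf (nat_lit 2058)))) (.node (nat_lit 10) (.leaf (Dbl.df (nat_lit 2058) (lk
    f9) (lk f9))) (.leaf (Dbl.df (nat_lit 2058) (lk f10) (lk f10))))) (.node (nat_lit 13) (.node (nat_lit 12)
    (.leaf (Dbl.df (nat_lit 2058) (lk f11) (lk h11))) (.leaf (Dbl.df (nat_lit 2058) (lk f12) (lk h12)))) (.node
    (nat_lit 14) (.leaf (Dbl.df (nat_lit 2058) (lk f13) (lk h13))) (.leaf (Dbl.df (nat_lit 2058) (lk f14) (lk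
    h14))))))) (.node (nat_lit 23) (.node (nat_lit 19) (.node (nat_lit 17) (.node (nat_lit 16) (.leaf (Dbl.df
    (nat_lit 2058) (lk f15) (lk h15))) (.leaf (Dbl.df (nat_lit 2058) (lk f16) (lk h16)))) (.node (nat_lit 18)
    (.leaf (Dbl.df (nat_lit 2058) (lk f17) (lk h17))) (.leaf (Dbl.df (nat_lit 2058) (lk f18) (lk h18))))) (.node
    (nat_lit 21) (.node (nat_lit 20) (.leaf (Dbl.df (nat_lit 2058) (lk f19) (lk h19))) (.leaf (Dbl.df (nat_lit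
    2058) (lk f20) (lk h20)))) (.node (nat_lit 22) (.leaf (Dbl.df (nat_lit 2058) (lk f21) (lk h21))) (.leaf
    (Dbl.df (nat_lit 2058) (lk f22) (lk h22)))))) (.node (nat_lit 27) (.node (nat_lit 25) (.node (nat_lit 24)
    (.leaf (Dbl.df (nat_lit 2058) (lk f23) (lk h23))) (.leaf (Dbl.df (nat_lit 2058) (lk f24) (lk h24)))) (.node
    (nat_lit 26) (.leaf (Dbl.df (nat_lit 2058) (lk f25) (lk h25))) (.leaf (Dbl.df (nat_lit 2058) (lk f26) (lk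
    h26))))) (.node (nat_lit 29) (.node (nat_lit 28) (.leaf (Dbl.df (nat_lit 2058) (lk f27) (lk h27))) (.leaf
    (Dbl.df (nat_lit 2058) (lk f28) (lk h28)))) (.node (nat_lit 30) (.leaf (Dbl.df (nat_lit 2058) (lk f29) (lk
    h29))) (.leaf id))))))
theorem gd : Good (Dbl.rho ρ σ) gT 6 63 base :=
  ⟨(.node (.node (.node (.node (.leaf (acts_id _)) (.node (.leaf L1) (.leaf L2))) (.node (.node (.leaf L3) (.leaf
    L4)) (.node (.leaf L5) (.leaf L6)))) (.node (.node (.node (.leaf L7) (.leaf Dbl.acts_so)) (.node (.leaf L9)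
    (.leaf L10))) (.node (.node (.leaf L11) (.leaf L12)) (.node (.leaf L13) (.leaf L14))))) (.node (.node (.node
    (.node (.leaf L15) (.leaf L16)) (.node (.leaf L17) (.leaf L18))) (.node (.node (.leaf L19) (.leaf L20)) (.node
    (.leaf L21) (.leaf L22)))) (.node (.node (.node (.leaf L23) (.leaf L24)) (.node (.leaf L25) (.leaf L26)))
    (.node (.node (.leaf L27) (.leaf L28)) (.node (.leaf L29) (.leaf (acts_id _))))))), acts_id _, by decide, rfl, Dbl.isBase hσ HeP.isBase ⟨0, by decide, by decide⟩⟩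
/-- the inverse letters -/
noncomputable def ι : ℕ → ℕ := getN 0 [0,1,2,3,4,5,6,7,8,9,10,11,12,13,14,16,15,18,17,19,20,22,21,24,23,26,25,27,28,29]
theorem ι_eq_1' : type_of% @ι.eq_1 := @ι.eq_1
theorem hι : invB gT 6 63 base ι = true := by decide +kernel
/-- the operations -/
noncomputable abbrev O : Ops := fops gT 6 63 base (2058 + 2058) ι
/-- the outer involution -/
noncomputable abbrev so : Om := gd.V 8
/-- the central involution -/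
noncomputable abbrev z : Om := gd.V 9
/-- the second involution -/
noncomputable abbrev y : Om := gd.V 10
theorem so_eq : so = Dbl.so ρ σ := gd.R_letter (by decide) Dbl.acts_so
theorem z_eq : z = Dbl.io ρ σ (wv g0 [3,2,4,3,6,4,3,2,4,3,5,6,4,3,2,4,7,4,3,4,2,3,4,6,5,4,7,6,2,1]) := gd.R_letter (by decide) L9
theorem y_eq : y = Dbl.io ρ σ (wv g0 [6,4,3,2,4,3,2,4,3,4,5,7,4,3,2,5,4,3,4,1,2,3,4,6]) := gd.R_letter (by decide) L10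
theorem V_mem (c : ℕ) : gd.V c ∈ G0 ↔ appF gT 6 63 c 0 < 2058 := Dbl.V_mem hσ (by decide) gd c
theorem hb : ∀ p ∈ base, p < 2058 + 2058 := by decide
theorem gd_g : ∀ l < 8, Acts (Dbl.rho ρ σ) (gT.fn l) (Dbl.io ρ σ (g0 l)) := fun l hl => by
  interval_cases l
  exacts [by rw [HeP.sat.zero, map_one]; exact acts_id _, L1, L2, L3, L4, L5, L6, L7]
theorem V_g (l : ℕ) (hl : l < 8) : gd.V l = Dbl.io ρ σ (g0 l) := gd.R_letter (by omega) (gd_g l hl)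
theorem V_pack {W : List ℕ} (hW : ltB 8 [W] = true) : gd.V (pack 6 W) = Dbl.io ρ σ (wv g0 W) :=
  Dbl.V_pack gd (by decide) gd_g (lt_of_ltB hW W List.mem_cons_self)
/-- a closed statement on the atoms `E` -/
theorem holds (E : List ℕ) (p : Pf) (k : p.ev gT 6 63 base ι 2058 (nth 0 E) = true) :
    p.sem G0 fun i => gd.V (nth 0 E i) := StdX.holds gd hι V_mem hb E p k
theorem simple : IsSimpleGroup G0 := have := HeP.simple; Dbl.simple HeP.injective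
theorem idx (x y : Om) (hx : x ∉ G0) (hy : y ∉ G0) : x * y ∈ G0 := Dbl.idx hσ x y hx hy
theorem index : G0.index = 2 := Dbl.index hσ (by decide)
theorem card_G0 : Nat.card G0 = 4030387200 := (Dbl.card_G0 HeP.injective).trans HeP.card
theorem card_Om : Nat.card Om = 8060774400 := by
  rw [Dbl.card hσ (by decide) HeP.injective, HeP.card]
/-- the isomorphism onto the simple group -/
noncomputable def eqv : Cfsg.Spor.He ≃* G0 := Dbl.eqv0 HeP.injective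
theorem eqv_eq_1' : type_of% @eqv.eq_1 := @eqv.eq_1
theorem G0_le {K : Subgroup Om} (h : ∀ l ∈ [1, 2, 3, 4, 5, 6, 7], gd.V l ∈ K) : G0 ≤ K :=
  Dbl.G0_le HeP.top fun l hl => V_g l ((by decide : ∀ l ∈ [1, 2, 3, 4, 5, 6, 7], l < 8) l hl) ▸ h l hl
theorem G0_eq : G0 = gn gd.V [1, 2, 3, 4, 5, 6, 7] :=
  le_antisymm (G0_le fun _ => mem_gn _) (gn_le fun l hl =>
    V_g l ((by decide : ∀ l ∈ [1, 2, 3, 4, 5, 6, 7], l < 8) l hl) ▸ Dbl.io_mem _)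
theorem eq_top {K : Subgroup Om} (h : G0 ≤ K) (hs : so ∈ K) : K = ⊤ := Dbl.eq_top hσ h (so_eq ▸ hs)
theorem so_not : so ∉ G0 := so_eq ▸ Dbl.so_not hσ (by decide)
theorem normal : G0.Normal := normal_of_index_eq_two index
theorem card_two {K : Subgroup Om} {x : Om} (hx : x ∈ K) (h0 : x ∉ G0) :
    Nat.card K = 2 * Nat.card ↥(G0 ⊓ K) := Dbl.card_eq_two hσ hx h0
theorem outer : ¬ ∃ c, ∀ g, σ g = c * g * c⁻¹ := by
  obtain ⟨a, b, c, d⟩ := holds [19519655458389, pack 6 [5,4,6,3,4,3,2,3,4,7,4,3,2,4,3,4,6,2,7,4,3,2,1,4,3,4,5,6,4,7,4,6,5,4,7],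
    pack 6 [6,4,7,2,1,6,4,3,4,3,5,4,2,3,4,3,2,1,4,3,7,4,3,5],
    pack 6 [4,6,3,4,1,2,3,4,3,2,5,4,3,4,3,2,3,4,7,4,3,2,5,4,2,3,4,3,2,4,6,4,3,4,3],
    pack 6 [4,6,4,3,4,3,2,4,6,4,5,3,4,3,2,3,4,7,4,3,2,4,6,5,1,7,4,3,5]]
    (.and (.out (.c 0)) (.and (.eq (.cj (.c 0) (.c 1)) (.pw (.c 1) 3)) (.and (.eq (.cj (.c 0) (.c 2)) (.c 2))
      (.eq (.cj (.c 0) (.c 3)) (.c 4))))) (by decide +kernel)
  refine Dbl.outer hσ HeP.injective HeP.o_spec.1 (by decide) a ?_ ?_ ?_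
  · rw [← V_pack (by decide +kernel)]; exact b
  · rw [← V_pack (by decide +kernel)]; exact c
  · rw [← V_pack (by decide +kernel), ← V_pack (by decide +kernel)]; exact d
theorem aut0 (φ : MulAut G0) : ∃ g : Om, ∀ x : G0, (φ x : Om) = g * x * g⁻¹ :=
  Dbl.aut hσ HeP.injective outer HeP.card_out φ
theorem aut (φ : MulAut G0) : ∃ g ∈ (⊤ : Subgroup Om), ∀ x : G0, (φ x : Om) = g * x * g⁻¹ :=
  let ⟨g, h⟩ := aut0 φ
  ⟨g, trivial, h⟩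

end Cfsg.Lib.StdX.He
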