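import Cfsg.Agent.StdX.HeD
import Cfsg.Agent.StdX.DK2

/-! The centralisers of the involutions. -/

set_option autoImplicit false
set_option maxRecDepth 100000

namespace Cfsg.Lib.StdX.He

open Subgroup Cfsg.Lib.Spor Cfsg.Lib.Spor.WM Cfsg.Lib.Known Cfsg.Lib.Known.PC Cfsg.Lib.Gold
open Cfsg.Lib.Spor.HeP (ρ g0 base)

theorem cz_le : Nat.card (centralizer {z}) ≤ 43008 :=
  card_cen_of_cenO (gd.hasF hι) (gd.fm_in [1,2,3,4,5,6,7,8,207729409,435253264651,222473286858,301825877139,441459973,759225472724,83165758477,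
    5711881033,17634537756,210672927628,829383623683,1196490536143,1042929211024,158263440973,
    16581449040,1530490012874,271119178,3470160,16515716496,15287297037,16466154960,23660971013,9,
    361000871692,166452008642,4785355,847491901200,573531239883,11946955275,4502735,3457932]) card_Om.le
    (ls := [⟨3458, 0, 0, 8, [0,1,2,3,4,5,6,7]⟩, ⟨3486, 0, 0, 4, [8,9,10,11,12,13,14,15]⟩, ⟨3995, 0, 0, 3, [16,
    17,18,19,20,21,22,23]⟩, ⟨2028, 0, 0, 2, [24,25,26,27,28,29]⟩, ⟨3378, 0, 0, 2, [30,31,32,33,34,35,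
    36]⟩, ⟨1309, 0, 0, 1, [33,30,37]⟩, ⟨756, 1310, 0, 0, []⟩, ⟨1954, 0, 0, 1, [38]⟩, ⟨1179, 1955, 0, 0,
     []⟩]) (cz := 9) rfl (by decide +kernel)
/-- letters generating the centraliser -/
def czI : List ℕ := [8,9,11,12,13,14,15,16,17,18,19,20]
theorem czI_eq_1' : type_of% @czI.eq_1 := @czI.eq_1
/-- strong generators of the centraliser -/
def czs : List ℕ := [8,18,5026699,33608,9,909,13,304948496,82836,16429413065]
theorem czs_eq_1' : type_of% @czs.eq_1 := @czs.eq_1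
/-- a chain of the centraliser -/
def czl : List ILev := [⟨2470, 0, 0, 16, [0,1]⟩, ⟨1320, 0, 0, 3, [2]⟩, ⟨1244, 0, 0, 1, [3]⟩, ⟨2874, 0, 0, 2, [4,5]⟩, ⟨2199,
     0, 0, 2, [6,7]⟩, ⟨3616, 0, 0, 1, [8]⟩, ⟨719, 0, 0, 1, [9]⟩]
theorem czl_eq_1' : type_of% @czl.eq_1 := @czl.eq_1
theorem cz_spec : Nat.card (centralizer {z}) = 43008 ∧ centralizer {z} = gn gd.V czI :=
  cen_eq gd hι cz_le (cs := czs) (ls := czl) (by decide +kernel)
theorem card_cz : Nat.card (centralizer {z}) = 43008 := cz_spec.1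
theorem cz_eq : centralizer {z} = gn gd.V czI := cz_spec.2
theorem czs_in : ∀ c ∈ czs, gd.fm.In (centralizer {z}) c :=
  in_cen (gd.hasF hι) (gd.fm_in _) (cz := 9) rfl (by decide +kernel)
theorem card_c0z : Nat.card ↥(G0 ⊓ C1 z) = 21504 := by
  have := card_two (K := C1 z) (cz_eq.ge (mem_gn gd.V (by decide : 8 ∈ czI)))
    (fun h => absurd ((V_mem 8).1 h) (by decide +kernel))
  rw [card_cz] at this
  omega
/-- letters generating the centraliser in the simple group -/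
def c0zI : List ℕ := [9,11,12,13,14,15,16,17,18,19,20]
theorem c0zI_eq_1' : type_of% @c0zI.eq_1 := @c0zI.eq_1
/-- strong generators of the centraliser in the simple group -/
def c0zs : List ℕ := [15,19,58130,4535438,14,9,5301518,5043024,189576395]
theorem c0zs_eq_1' : type_of% @c0zs.eq_1 := @c0zs.eq_1
/-- a chain of the centraliser in the simple group -/
def c0zl : List ILev := [⟨3302, 0, 0, 10, [0,1]⟩, ⟨1506, 0, 0, 3, [2]⟩, ⟨2237, 0, 0, 3, [3]⟩, ⟨1396, 0, 0, 1, [4]⟩, ⟨3672, 0,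
     0, 2, [5,6]⟩, ⟨1670, 0, 0, 1, [7]⟩, ⟨1614, 0, 0, 1, [8]⟩]
theorem c0zl_eq_1' : type_of% @c0zl.eq_1 := @c0zl.eq_1
theorem c0z_eq : G0 ⊓ C1 z = gn gd.V c0zI :=
  (sub_eq gd hι (K := G0 ⊓ C1 z) (fun l hl => ⟨(V_mem l).2 ((by decide +kernel : ∀ l ∈ c0zI, appF gT 6 63 l 0 < 2058) l hl),
    cz_eq.ge (mem_gn gd.V ((by decide : ∀ l ∈ c0zI, l ∈ czI) l hl))⟩) card_c0z.le
    (cs := c0zs) (ls := c0zl) (by decide +kernel)).2
theorem cy_le : Nat.card (centralizer {y}) ≤ 322560 :=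
  card_cen_of_cenO (gd.hasF hι) (gd.fm_in [4,8,15,13,6,17520939856,22990861574,29417858883,23843664214,30322827661,17199616386,1588270548623,
    1378772337100,191923528,475882249,7173724,6398668,90901,6402839,391993165,978414579981,439453386,
    389382987,410359181,439145821,7640906,76675649985,3184024,103130,392016521,74577,6116105]) card_Om.le
    (ls := [⟨1683, 0, 0, 8, [0,1,2,3,4]⟩, ⟨25, 1684, 0, 5, [5,6,7,8,9,10,11,12]⟩, ⟨2458, 0, 0, 2, [13,14,15,16,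
    17,18,19]⟩, ⟨3322, 2459, 0, 0, []⟩, ⟨1759, 0, 0, 2, [20,21,22,23,24,25,26,27]⟩, ⟨830, 1760, 0, 0,
     []⟩, ⟨3535, 0, 0, 1, [28,29]⟩, ⟨3137, 3536, 0, 0, []⟩, ⟨2744, 0, 0, 1, [30]⟩, ⟨3524, 2745, 0, 0,
     []⟩, ⟨1844, 0, 0, 1, [31,27]⟩, ⟨558, 1845, 0, 0, []⟩]) (cz := 10) rfl (by decide +kernel)
/-- letters generating the centraliser -/
def cyI : List ℕ := [8,10,11,12,13,21,22,23,24,25,26,27,28,29]
theorem cyI_eq_1' : type_of% @cyI.eq_1 := @cyI.eq_1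
/-- strong generators of the centraliser -/
def cys : List ℕ := [24,8,7169685,5863244,5863116,2216469,6669964,95000,49996,10,27199309128]
theorem cys_eq_1' : type_of% @cys.eq_1 := @cys.eq_1
/-- a chain of the centraliser -/
def cyl : List ILev := [⟨2294, 0, 0, 8, [0,1]⟩, ⟨3664, 0, 0, 4, [2]⟩, ⟨3071, 0, 0, 3, [3]⟩, ⟨2993, 0, 0, 2, [4]⟩, ⟨598, 0,
     0, 3, [5]⟩, ⟨2281, 0, 0, 2, [6,7]⟩, ⟨210, 0, 0, 1, [8]⟩, ⟨1499, 0, 0, 1, [9]⟩, ⟨1365, 0, 0, 1,
     [10]⟩]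
theorem cyl_eq_1' : type_of% @cyl.eq_1 := @cyl.eq_1
theorem cy_spec : Nat.card (centralizer {y}) = 322560 ∧ centralizer {y} = gn gd.V cyI :=
  cen_eq gd hι cy_le (cs := cys) (ls := cyl) (by decide +kernel)
theorem card_cy : Nat.card (centralizer {y}) = 322560 := cy_spec.1
theorem cy_eq : centralizer {y} = gn gd.V cyI := cy_spec.2
theorem cys_in : ∀ c ∈ cys, gd.fm.In (centralizer {y}) c :=
  in_cen (gd.hasF hι) (gd.fm_in _) (cz := 10) rfl (by decide +kernel)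
theorem card_c0y : Nat.card ↥(G0 ⊓ C1 y) = 161280 := by
  have := card_two (K := C1 y) (cy_eq.ge (mem_gn gd.V (by decide : 8 ∈ cyI)))
    (fun h => absurd ((V_mem 8).1 h) (by decide +kernel))
  rw [card_cy] at this
  omega
/-- letters generating the centraliser in the simple group -/
def c0yI : List ℕ := [10,11,12,13,21,22,23,24,25,26,27,28,29]
theorem c0yI_eq_1' : type_of% @c0yI.eq_1 := @c0yI.eq_1
/-- strong generators of the centraliser in the simple group -/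
def c0ys : List ℕ := [22,24,3261978,224511692,3516237,5866264,358966102,10,6669964,13274280780,12220986058]
theorem c0ys_eq_1' : type_of% @c0ys.eq_1 := @c0ys.eq_1
/-- a chain of the centraliser in the simple group -/
def c0yl : List ILev := [⟨2633, 0, 0, 6, [0,1]⟩, ⟨283, 0, 0, 4, [2]⟩, ⟨368, 0, 0, 3, [3]⟩, ⟨2402, 0, 0, 3, [4]⟩, ⟨3815, 0, 0,
     2, [5]⟩, ⟨3564, 0, 0, 1, [6]⟩, ⟨429, 0, 0, 2, [7,8]⟩, ⟨3392, 0, 0, 1, [9]⟩, ⟨3525, 0, 0, 1, [10]⟩]
theorem c0yl_eq_1' : type_of% @c0yl.eq_1 := @c0yl.eq_1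
theorem c0y_eq : G0 ⊓ C1 y = gn gd.V c0yI :=
  (sub_eq gd hι (K := G0 ⊓ C1 y) (fun l hl => ⟨(V_mem l).2 ((by decide +kernel : ∀ l ∈ c0yI, appF gT 6 63 l 0 < 2058) l hl),
    cy_eq.ge (mem_gn gd.V ((by decide : ∀ l ∈ c0yI, l ∈ cyI) l hl))⟩) card_c0y.le
    (cs := c0ys) (ls := c0yl) (by decide +kernel)).2

end Cfsg.Lib.StdX.He
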