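import Cfsg.Agent.StdX.HeD2
import Cfsg.Agent.StdX.SGen3

/-! The Sylow 2-subgroup and the classes of involutions. -/

set_option autoImplicit false
set_option maxRecDepth 100000
set_option Elab.async false

namespace Cfsg.Lib.StdX

open Subgroup Cfsg.Lib.Spor Cfsg.Lib.Spor.WM Cfsg.Lib.Known Cfsg.Lib.Known.PC Cfsg.Lib.Gold
open Cfsg.Lib.Spor.HeP (base)
open Cfsg.Lib.Spor.WF (sub sb)
open Cfsg.Lib.Spor.Fm (pcT)
open Cfsg.Lib.StdM (Cl)

namespace HeS

open He SG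

/-- the codes of the local letters -/
def ws : List ℕ := [0, 8, 11, 779, 14, 13, 3453771, 237036360, 3191563, 2917128, 10, 9, 10190135558863,
    151431450776, 93677856831187, 33998, 40351457964888, 123447511918358, 788, 979, 7337593101977304,
    6786345961267671, 3686899066089625, 4320012448650116, 259318885889876545, 2467362241, 1876069004171,
    159134877330, 1675128297167, 2958608, 58315, 83028, 70354, 66640, 4252686, 83019, 78803, 3470477, 4776658,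
    5027017, 321991369, 5063817, 1172, 5051412, 288691147, 58385, 1043, 3752971, 3200080, 3220361, 74768, 62290,
    4260755, 1, 2, 3, 4, 5, 6, 7]
theorem ws_eq_1' : type_of% @ws.eq_1 := @ws.eq_1
/-- equality of local words -/
noncomputable abbrev eO : List ℕ → List ℕ → Bool := eW gT 6 63 base ws
/-- the inner test -/
noncomputable abbrev iO : List ℕ → Bool := iW gT 6 63 2058 ws
/-- the local letters -/
noncomputable abbrev g (l : ℕ) : Om := gd.V (nth 0 ws l)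
/-- squares -/
def pP : List (List ℕ) := [[], [], [], [8], [], [], [], [11], [], [], [], []]
theorem pP_eq_1' : type_of% @pP.eq_1 := @pP.eq_1
/-- commutators -/
def pC : List (List (List ℕ)) := [[], [[]], [[], [3, 9, 10]], [[], [8, 10], [8]], [[], [7, 5, 10], [9, 10,
    11], [7, 6]], [[], [10, 11], [6], [7, 10, 11], []], [[], [7, 9, 10], [], [9, 11], [11], []], [[], [10, 11],
    [9, 10, 11], [10], [11], [11], [11]], [[], [], [], [], [9, 10, 11], [10, 11], [], []], [[], [10], [], [],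
    [11], [11], [], [], []], [[], [], [], [], [11], [], [], [], [], []], [[], [], [], [], [], [], [], [], [], [],
    []]]
theorem pC_eq_1' : type_of% @pC.eq_1 := @pC.eq_1
/-- a certificate -/
def d0 : Dt := (.spl (.spl (.spl (.spl (.spl (.spl (.spl (.spl (.spl (.leaf 0 [] []) (.leaf 1 [] [])) (.merge
    [4] [] (.leaf 2 [] []))) (.merge [1] [] (.merge [5] [] (.leaf 1 [12] [])))) (.merge [4] [10, 11] (.merge [5]
    [11] (.spl (.leaf 1 [13] []) (.leaf 2 [14] []))))) (.spl (.merge [2] [10, 11] (.merge [1] [11] (.prune [])))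
    (.merge [4] [10] (.merge [5] [] (.prune []))))) (.merge [1, 2] [11] (.spl (.merge [3] [11] (.spl (.merge [4]
    [] (.leaf 2 [15] [])) (.merge [1, 4, 1] [] (.leaf 1 [16] [])))) (.merge [4] [10] (.merge [5] [11] (.merge [3,
    4, 5] [] (.leaf 1 [17] []))))))) (.merge [2] [] (.merge [3] [10, 11] (.spl (.spl (.merge [1] [11] (.merge [1,
    4, 1] [] (.leaf 2 [18] []))) (.merge [3, 3] [11] (.prune []))) (.merge [4] [10, 11] (.prune [11])))))) (.merge
    [1] [7, 10, 11] (.merge [3] [7, 11] (.spl (.spl (.merge [2] [10, 11] (.spl (.merge [10] [] (.leaf 2 [19] []))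
    (.prune []))) (.prune [10, 11])) (.spl (.merge [3, 3] [10, 11] (.spl (.merge [10] [] (.leaf 1 [20] []))
    (.prune []))) (.prune [10, 11])))))) (.spl (.spl (.merge [4, 5] [10] (.merge [5] [10] (.prune []))) (.merge
    [1, 2] [11] (.prune [8, 10]))) (.merge [1, 4, 2] [] (.prune [7, 8, 11]))))
theorem d0_eq_1' : type_of% @d0.eq_1 := @d0.eq_1
/-- a certificate -/
def d1 : Dt := (.merge [4, 1] [10, 11] (.spl (.spl (.merge [5] [] (.spl (.merge [3] [] (.merge [4] [10, 11]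
    (.spl (.spl (.leaf 2 [21] []) (.leaf 1 [22] [])) (.merge [1, 4, 5, 1] [] (.leaf 1 [23] []))))) (.merge [3]
    [10] (.prune [10])))) (.prune [])) (.spl (.merge [5] [11] (.merge [5, 3] [8, 10, 11] (.spl (.prune [10, 11])
    (.merge [2] [10, 11] (.spl (.merge [10] [] (.leaf 1 [24] [])) (.prune [])))))) (.prune [9, 10]))))
theorem d1_eq_1' : type_of% @d1.eq_1 := @d1.eq_1
/-- a certificate -/
def d2 : Dt := (.spl (.merge [2] [4, 8, 4, 11] (.spl (.merge [4] [7, 10, 11] (.spl (.merge [2, 5, 2] [9]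
    (.merge [3] [10] (.spl (.merge [5] [11] (.merge [4, 5, 2, 4, 2] [] (.leaf 3 [] [(3, [2], [4, 8, 4, 11]), (5,
    [4], [7, 10, 11]), (7, [2, 5, 2], [9]), (8, [3], [10]), (10, [5], [11]), (11, [4, 5, 2, 4, 2], [])]))) (.prune
    [])))) (.prune [9, 10, 11]))) (.prune [7, 10, 11]))) (.prune [4, 8, 4, 11]))
theorem d2_eq_1' : type_of% @d2.eq_1 := @d2.eq_1
/-- commutators -/
def dD : List (List ℕ × List ℕ × List ℕ) := [([11], [10], [4]), ([3, 3], [2], [3]), ([3, 3], [2], [3]), ([2,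
    4, 2, 4], [3, 3], [4]), ([4, 3, 4, 3], [3], [2, 4]), ([7], [5, 3], [3])]
theorem dD_eq_1' : type_of% @dD.eq_1 := @dD.eq_1
/-- the centraliser of the derived group -/
def dL : List (List ℕ) := [[], [11], [10], [10, 11], [9], [8], [8, 10], [8, 11], [9, 11], [9, 10], [8, 10,
    11], [9, 10, 11], [8, 9], [8, 9, 10], [8, 9, 11], [8, 9, 10, 11]]
theorem dL_eq_1' : type_of% @dL.eq_1 := @dL.eq_1
/-- conjugates of the central involution -/
def dZ : List (List ℕ × List ℕ) := [([11], []), ([2, 11], [22]), ([2, 10], [23]), ([4, 5], [20, 1, 10]), ([9],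
    [12]), ([3, 3], [13]), ([2, 3], [23, 4, 1]), ([4, 7], [20])]
theorem dZ_eq_1' : type_of% @dZ.eq_1 := @dZ.eq_1
/-- involutions -/
def dI : List (List ℕ) := []
theorem dI_eq_1' : type_of% @dI.eq_1 := @dI.eq_1
/-- products of involutions -/
def dJ : List (List ℕ) := [[], [], [0, 1], [0, 1, 6], [1, 6, 3, 7, 6, 2, 3], [1, 6, 3, 7, 6, 2], [1, 3, 2, 3,
    4], [1, 3, 6, 7, 6, 7, 2, 3], [5], [4], [0, 1, 2], [0]]
theorem dJ_eq_1' : type_of% @dJ.eq_1 := @dJ.eq_1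
/-- involutions commuting with the second involution -/
def dR : List (List ℕ) := [[11], [10], [2], [5], [2, 3]]
theorem dR_eq_1' : type_of% @dR.eq_1 := @dR.eq_1
/-- elements of the first centraliser -/
def dC : List (List ℕ) := [[29], [30], [31], [32], [33], [34], [35], [36], [37], [38], [39], [40], [41], [42],
    [43], [44], [45], [46], [47], [48], [49], [50], [51], [52]]
theorem dC_eq_1' : type_of% @dC.eq_1 := @dC.eq_1
/-- elements of the second centraliser -/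
def dA : List (List ℕ) := [[25], [26], [27], [28]]
theorem dA_eq_1' : type_of% @dA.eq_1 := @dA.eq_1
/-- the generators -/
def dW : List (List ℕ × List ℕ) := [([53], [0, 24, 1, 24, 2, 24, 3]), ([54], [4, 24, 1, 24, 2, 24, 5]), ([55],
    [6, 27, 7, 24, 8]), ([56], [9, 27, 7, 24, 10]), ([57], [11, 24, 12, 24, 13, 25, 14]), ([58], [15, 25, 16, 27,
    17, 26, 18]), ([59], [19, 24, 20, 24, 21, 27, 22, 24, 23])]
theorem dW_eq_1' : type_of% @dW.eq_1 := @dW.eq_1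
theorem c0 : SG.pcB eO 11 2 pP pC = true := by decide +kernel
theorem c1 : miB eO iO 11 10 1 [10] [1] = true := by decide +kernel
theorem t0 : d0.chk eO 11 (lfB eO 11 5 10 1) 3 [] = true := by decide +kernel
theorem t1 : d1.chk eO 11 (lfB eO 11 5 10 1) 3 [2] = true := by decide +kernel
theorem t2 : d2.chk eO 11 (lfB eO 11 5 10 1) 2 [1] = true := by decide +kernel
theorem c2 : Dt.chk eO 11 (lfB eO 11 5 10 1) (.spl (.spl d0 d1) d2) 1 [] = true := (Dt.chk_spl _ _ rfl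
    (Dt.chk_spl _ _ rfl t0 t1) t2)
theorem c3 : deB eO 11 dD [13] = true := by decide +kernel
theorem c4 : laB eO 11 8 dL = true := by decide +kernel
theorem c5 : geB eO 11 2 dI dZ dJ = true := by decide +kernel
theorem c6 : ryB eO 11 10 dR [3] [2,4,3,2,4] = true := by decide +kernel
theorem c7 : alB eO iO 11 (tr dD 3).1 dC dA dW = true := by decide +kernel
theorem hS : 2 ^ 11 ≤ Nat.card (pcT g 11 1) := low_pc gd hι (W := [[1], [11], [10], [5], [4], [4, 11], [2],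
    [1, 2, 1], [4, 2, 4], [2, 3, 3], [1, 5, 2, 5, 1]]) (ls := [⟨3522, 0, 0, 5, [0, 1, 2, 3, 4]⟩, ⟨3866, 0, 0, 1,
    [5]⟩, ⟨1574, 0, 0, 2, [6, 7]⟩, ⟨3438, 0, 0, 2, [8, 9]⟩, ⟨2657, 0, 0, 1, [10]⟩]) (by decide +kernel)
theorem hR : 512 ≤ Nat.card (sub g dR) := low_sb gd hι (W := [[0], [1], [2], [3], [2, 4, 2], [0, 1, 3, 4, 3],
    [3, 2, 3], [0, 1, 3, 2, 3, 4, 3, 2, 3], [0, 1, 4]]) (ls := [⟨3632, 0, 0, 4, [0, 1, 2, 3]⟩, ⟨1919, 0, 0, 2, [4,
    5]⟩, ⟨260, 0, 0, 1, [6]⟩, ⟨3934, 0, 0, 1, [7]⟩, ⟨3438, 0, 0, 1, [8]⟩]) (by decide +kernel)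
theorem hA : ∀ x, (∀ i, Commute x (Bulk.wv g (tr dD i).1)) → ∃ w ∈ dL, x = Bulk.wv g w := dcen_tr gd hι (cs :=
    [8, 11, 12, 15, 13, 1297, 50060, 74449, 14, 3453771, 9]) cz_le (ls := [⟨1400, 0, 0, 5, [0, 1, 2, 3]⟩, ⟨1889,
    1401, 0, 2, [4, 5]⟩, ⟨1906, 0, 0, 2, [6, 7, 8]⟩, ⟨1687, 1907, 0, 0, []⟩, ⟨1320, 0, 0, 3, [1, 8]⟩, ⟨1698, 1321,
    0, 1, [8]⟩, ⟨3521, 0, 0, 1, [9, 10]⟩, ⟨3756, 3522, 0, 0, []⟩, ⟨2350, 0, 0, 1, [10]⟩]) (U := [5]) (tp :=
    [3595]) (by decide +kernel)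
theorem hW : G0 ≤ sub g (dW.map Prod.fst) := G0_le (mem_sub gd (by decide +kernel))
theorem hG : ¬ 2 ^ (10 + 1) ∣ Nat.card G0 := by rw [card_G0]; decide
theorem hy : ¬ 2 ^ (9 + 1) ∣ Nat.card ↥(G0 ⊓ C1 y) := by rw [card_c0y]; decide
theorem cls : (∀ a ∈ G0, a * a = 1 → a = 1 ∨ Cl G0 (g 11) a ∨ Cl G0 (g 10) a) ∧
    (∀ x, x ∉ G0 → x * x = 1 → Cl G0 (g 1) x ∨ Cl G0 (g 1) x) ∧
    ∀ Q ≤ ⊤ ⊓ C1 (g 1), IsPGroup 2 Q → Nat.card Q ≤ 2 ^ 5 :=
  classes (eW_iff gd hb ws) (iW_iff gd V_mem ws) index rfl (by decide) hG (pc_of (eW_iff gd hb ws) c0).1 hS c1 c2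

end HeS

namespace He

open HeS

theorem bas : ∃ T, Bas ⊤ G0 T z y 10 :=
  ⟨_, SG.bas (SG.eW_iff gd hb ws) (SG.iW_iff gd V_mem ws) index rfl (by decide) (by decide) hG simple aut
    (by decide) c0 hS c1 c2 c3 c4 c5 c6 c7 hA hR hy hW⟩

theorem ocl : ∀ x ∉ G0, x * x = 1 → Cl G0 so x := fun x h1 h2 => (cls.2.1 x h1 h2).elim id id

theorem up : ∀ Q ≤ ⊤ ⊓ C1 so, IsPGroup 2 Q → Nat.card Q ≤ 2 ^ 5 := cls.2.2

end He

end Cfsg.Lib.StdX
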