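import Cfsg.Agent.StdX.HeD
import Cfsg.Agent.StdX.YG2

/-! The facts on the second class of involutions in the group of degree 2058. -/

set_option autoImplicit false
set_option maxRecDepth 100000

namespace Cfsg.Lib.StdX.He

open Subgroup Cfsg.Lib.Spor Cfsg.Lib.Spor.WM Cfsg.Lib.Known Cfsg.Lib.Known.PC YG
open Cfsg.Lib.Spor.HeP (base)

/-- the atoms -/
def yE : List ℕ := [6669964, 23, 21, 12, 28, 841, 91605, 95064, 21, 11, 202393801419972929, 13, 12, 0,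
    3191563, 111451, 3179208, 1333006996755, 186696264, 1450896323030, 388330071, 5097979453130115, 9, 0,
    426877705, 346060643178176901, 7431755, 115481, 2917128, 1174741467538, 203469384, 270563922676597125]

theorem yE_eq_1' : type_of% @yE.eq_1 := @yE.eq_1

theorem yk5 : cenT gT 6 63 base (2058 + 2058) ι 2058 (10 :: 9 :: yE)
    [26, 8, 25, 12, 24, 23, 713, 1485, 789, 1420, 841, 120525, 111451, 99159, 10, 94936, 11, 53965, 6337994,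
    376800973, 29350782667]
    [⟨935,0,0,5,[0,1,2,3]⟩, ⟨2402,0,0,2,[4,5,6]⟩, ⟨3516,2403,0,1,[7,8,9,10]⟩, ⟨2384,3517,0,1,[11,12]⟩,
    ⟨2656,2385,0,1,[13]⟩, ⟨2426,2657,0,0,[]⟩, ⟨1526,0,0,2,[14,15]⟩, ⟨518,1527,0,2,[16,17]⟩,
    ⟨945,519,0,1,[18,19,20]⟩, ⟨109,946,0,0,[]⟩]
    3 (pC 5 (.out (.c 15))) = true := by decide +kernel

theorem yk7 : cenT gT 6 63 base (2058 + 2058) ι 2058 (10 :: 9 :: yE)
    [21, 8, 22, 12, 27, 11, 13, 46793, 87766, 54989, 86806, 476693197, 6141453, 104282, 6669964, 10]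
    [⟨598,0,0,6,[0,1,2]⟩, ⟨913,599,0,4,[3,4,5,6]⟩, ⟨368,914,0,3,[7,8,9,10]⟩, ⟨1458,369,0,1,[11,12]⟩,
    ⟨283,1459,0,1,[13]⟩, ⟨1054,284,0,0,[]⟩, ⟨575,1055,0,0,[]⟩, ⟨24,0,0,1,[14]⟩, ⟨2028,25,0,0,[]⟩,
    ⟨1351,2029,0,0,[]⟩, ⟨630,1352,0,0,[]⟩, ⟨673,631,0,0,[]⟩, ⟨932,674,0,0,[]⟩, ⟨1951,933,0,0,[]⟩,
    ⟨2497,0,0,1,[15]⟩, ⟨2987,2498,0,0,[]⟩]
    4 (pC 7 (.and (.inn (.c 15)) (.ncom (.c 15) (.c 2)))) = true := by decide +kernel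

theorem yk2 : cenT gT 6 63 base (2058 + 2058) ι 2058 (10 :: 9 :: yE)
    [8, 21, 22, 26, 25, 13, 11, 99159, 7706070, 10, 7452426, 425043285, 405627657, 224179725, 94936,
    460641801]
    [⟨2384,0,0,5,[0,1,2]⟩, ⟨3516,2385,0,5,[3,4,5,6]⟩, ⟨2384,3517,0,0,[]⟩, ⟨2426,0,0,1,[5,7]⟩,
    ⟨2402,2427,0,1,[8]⟩, ⟨2426,2403,0,0,[]⟩, ⟨3316,0,0,2,[9,6]⟩, ⟨2676,3317,0,0,[]⟩, ⟨226,0,0,1,[10,11,12]⟩,
    ⟨594,227,0,1,[13,14,15]⟩, ⟨226,595,0,0,[]⟩]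
    1 (pS [16, 18, 20, 22, 24, 26, 28, 30, 32]) = true := by decide +kernel

theorem yd0 {T : Subgroup Om} {j : ℕ} (b : Bas ⊤ G0 T z y j) (hy : Nat.card (centralizer {y}) ≤ 322560)
    (hz : Nat.card (centralizer {z}) = 43008) : YD2 ⊤ G0 z y :=
  have k := cen_eq gd hι (I := [8, 9, 10, 11, 12, 13, 21, 22, 23, 24, 25, 26, 27, 28, 29])
    (cs := [26, 8, 25, 12, 24, 23, 713, 1485, 789, 1420, 841, 120525, 111451, 99159, 10, 94936, 11, 53965,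
    6337994, 376800973, 29350782667])
    (ls := [⟨935,0,0,5,[0,1,2,3]⟩, ⟨2402,0,0,2,[4,5,6]⟩, ⟨3516,2403,0,1,[7,8,9,10]⟩, ⟨2384,3517,0,1,[11,12]⟩,
    ⟨2656,2385,0,1,[13]⟩, ⟨2426,2657,0,0,[]⟩, ⟨1526,0,0,2,[14,15]⟩, ⟨518,1527,0,2,[16,17]⟩,
    ⟨945,519,0,1,[18,19,20]⟩, ⟨109,946,0,0,[]⟩]) hy (by decide +kernel)
  yd_he gd hι V_mem hb (k := 1) (k' := 2) b k.1
    (hz ▸ by norm_num) k.2 (by decide +kernel) (by decide +kernel) yk5 yk7 yk2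

end Cfsg.Lib.StdX.He
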