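import Cfsg.Agent.StdX.Basic
import Cfsg.Agent.StdW.Kit
import Cfsg.Agent.Spor.WMFast
import Cfsg.Agent.SporChar.WFormAct

/-!
# Word models of automorphism groups: doubled action, local permutation models, searches
-/

set_option autoImplicit false

namespace Cfsg.Lib.StdX

open Subgroup Equiv Cfsg.Lib.Spor Cfsg.Lib.Spor.WM Cfsg.Lib.Known Cfsg.Lib.Known.PC
open Cfsg.Lib.Spor.Bulk (wv ltB lt_of_ltB map_wv_of_lt)

/-! ### The doubled action -/

namespace Dbl

variable {G : Type} [Group G] {n : ℕ} (ρ : G →* Perm (Fin n)) (σ : G →* G)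

/-- the action on two copies, twisted on the second one -/
def psi : G →* Perm (Fin (n + n)) :=
  (finSumFinEquiv.permCongrHom.toMonoidHom.comp (Perm.sumCongrHom (Fin n) (Fin n))).comp
    (ρ.prod (ρ.comp σ))

theorem psi_eq_1' : type_of% @psi.eq_1 := @psi.eq_1

/-- the swap of the copies -/
def sw (n : ℕ) : Perm (Fin (n + n)) := finSumFinEquiv.permCongr (sumComm (Fin n) (Fin n))

theorem sw_eq_1' : type_of% @sw.eq_1 := @sw.eq_1

/-- the extension -/
abbrev Om : Type := ↥((psi ρ σ).range ⊔ zpowers (sw n))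

/-- the action of the extension -/
def rho : Om ρ σ →* Perm (Fin (n + n)) := Subgroup.subtype _

theorem rho_eq_1' : type_of% @rho.eq_1 := @rho.eq_1

/-- the embedding -/
def io : G →* Om ρ σ := (psi ρ σ).codRestrict _ fun g => mem_sup_left ⟨g, rfl⟩

theorem io_eq_1' : type_of% @io.eq_1 := @io.eq_1

/-- the outer involution -/
def so : Om ρ σ := ⟨sw n, mem_sup_right (mem_zpowers _)⟩

theorem so_eq_1' : type_of% @so.eq_1 := @so.eq_1

/-- the subgroup of index two -/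
def G0 : Subgroup (Om ρ σ) := (io ρ σ).range

theorem G0_eq_1' : type_of% @G0.eq_1 := @G0.eq_1

/-- the function of an inner letter -/
noncomputable def df (n : ℕ) (f f' : ℕ → ℕ) (x : ℕ) : ℕ :=
  Bool.rec (f x) (Nat.add n (f' (Nat.sub x n))) (Nat.ble n x)

theorem df_eq_1' : type_of% @df.eq_1 := @df.eq_1

/-- the function of the outer involution -/
noncomputable def sf (n x : ℕ) : ℕ := Bool.rec (Nat.add n x) (Nat.sub x n) (Nat.ble n x)

theorem sf_eq_1' : type_of% @sf.eq_1 := @sf.eq_1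

variable {ρ σ}

theorem io_l (g : G) (p : Fin n) : rho ρ σ (io ρ σ g) (Fin.castAdd n p) = Fin.castAdd n (ρ g p) := by
  change finSumFinEquiv (Sum.map (ρ g) (ρ (σ g)) (finSumFinEquiv.symm _)) = _
  rw [finSumFinEquiv_symm_apply_castAdd]; rfl

theorem io_r (g : G) (p : Fin n) :
    rho ρ σ (io ρ σ g) (Fin.natAdd n p) = Fin.natAdd n (ρ (σ g) p) := by
  change finSumFinEquiv (Sum.map (ρ g) (ρ (σ g)) (finSumFinEquiv.symm _)) = _
  rw [finSumFinEquiv_symm_apply_natAdd]; rfl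

theorem so_l (p : Fin n) : rho ρ σ (so ρ σ) (Fin.castAdd n p) = Fin.natAdd n p := by
  change finSumFinEquiv (Sum.swap (finSumFinEquiv.symm _)) = _
  rw [finSumFinEquiv_symm_apply_castAdd]; rfl

theorem so_r (p : Fin n) : rho ρ σ (so ρ σ) (Fin.natAdd n p) = Fin.castAdd n p := by
  change finSumFinEquiv (Sum.swap (finSumFinEquiv.symm _)) = _
  rw [finSumFinEquiv_symm_apply_natAdd]; rfl

theorem rho_inj : Function.Injective (rho ρ σ) := Subtype.val_injective

theorem so_so : so ρ σ * so ρ σ = 1 := rho_inj (Equiv.ext fun p => by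
  rw [map_mul, map_one]
  induction p using Fin.addCases <;> simp only [Perm.mul_apply, Perm.one_apply, so_l, so_r])

theorem acts_io {f f' : ℕ → ℕ} {g : G} (a : Acts ρ f g) (b : Acts ρ f' (σ g)) :
    Acts (rho ρ σ) (df n f f') (io ρ σ g) := fun p => by
  rw [df, brec_eq]
  induction p using Fin.addCases with
  | left p => rw [io_l, if_neg (by simp)]; exact a p
  | right p => rw [io_r, if_pos (by simp)]; simpa [add_comm] using b p

theorem acts_so : Acts (rho ρ σ) (sf n) (so ρ σ) := fun p => by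
  rw [sf, brec_eq]
  induction p using Fin.addCases with
  | left p => rw [so_l, if_neg (by simp)]; rfl
  | right p => rw [so_r, if_pos (by simp)]; simp

theorem io_mem (g : G) : io ρ σ g ∈ G0 ρ σ := ⟨g, rfl⟩

theorem io_inj (hi : Function.Injective ρ) : Function.Injective (io ρ σ) := fun g h e =>
  hi (Equiv.ext fun p => Fin.castAdd_injective _ _ (by rw [← io_l (σ := σ), e, io_l]))

/-- the isomorphism onto the subgroup of index two -/
noncomputable def eqv0 (hi : Function.Injective ρ) : G ≃* G0 ρ σ := MonoidHom.ofInjective (io_inj hi)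

theorem eqv0_eq_1' : type_of% @eqv0.eq_1 := @eqv0.eq_1

theorem coe_eqv0 (hi : Function.Injective ρ) (g : G) : (eqv0 (σ := σ) hi g : Om ρ σ) = io ρ σ g := rfl

theorem simple [IsSimpleGroup G] (hi : Function.Injective ρ) : IsSimpleGroup (G0 ρ σ) :=
  (eqv0 hi).symm.isSimpleGroup

theorem card_G0 (hi : Function.Injective ρ) : Nat.card (G0 ρ σ) = Nat.card G :=
  (Nat.card_congr (eqv0 hi).toEquiv).symm

theorem map_cen (hi : Function.Injective ρ) (g : G) :
    (centralizer {g}).map (io ρ σ) = G0 ρ σ ⊓ centralizer {io ρ σ g} := by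
  ext x
  simp only [mem_map, mem_inf, mem_centralizer_singleton_iff]
  constructor
  · rintro ⟨a, e, rfl⟩
    exact ⟨io_mem a, by rw [← map_mul, e, map_mul]⟩
  · rintro ⟨⟨a, rfl⟩, e⟩
    exact ⟨a, io_inj hi (by rwa [map_mul, map_mul]), rfl⟩

theorem card_inf_cen (hi : Function.Injective ρ) (g : G) :
    Nat.card ↥(G0 ρ σ ⊓ centralizer {io ρ σ g}) = Nat.card (centralizer {g}) := by
  rw [← map_cen hi, card_map_of_injective (io_inj hi)]

theorem cl_io {a b : G} (h : IsConj a b) : StdM.Cl (G0 ρ σ) (io ρ σ a) (io ρ σ b) :=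
  let ⟨c, e⟩ := isConj_iff.1 h
  ⟨_, io_mem c, by rw [← e, map_mul, map_mul, map_inv]⟩

theorem V_pack {T : FT} {b m k : ℕ} {base : List ℕ} (h : Good (rho ρ σ) T b m base) {g : ℕ → G}
    (hk : k ≤ m + 1) (hg : ∀ l < k, Acts (rho ρ σ) (T.fn l) (io ρ σ (g l))) {W : List ℕ}
    (hW : ∀ l ∈ W, l < k) : h.V (pack b W) = io ρ σ (wv g W) :=
  (h.R_pack hk hg hW).trans (WF.wv_map _ g W)

variable (hσ : ∀ g, σ (σ g) = g)
include hσ

theorem so_io (g : G) : so ρ σ * io ρ σ g = io ρ σ (σ g) * so ρ σ := rho_inj (Equiv.ext fun p => by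
  rw [map_mul, map_mul]
  induction p using Fin.addCases <;> simp only [Perm.mul_apply, so_l, so_r, io_l, io_r, hσ])

theorem conj_io (g : G) : so ρ σ * io ρ σ g * (so ρ σ)⁻¹ = io ρ σ (σ g) := by
  rw [so_io hσ, mul_inv_cancel_right]

theorem cases (x : Om ρ σ) : (∃ g, x = io ρ σ g) ∨ ∃ g, x = io ρ σ g * so ρ σ := by
  let S : Subgroup (Om ρ σ) :=
    { carrier := {x | (∃ g, x = io ρ σ g) ∨ ∃ g, x = io ρ σ g * so ρ σ}
      one_mem' := Or.inl ⟨1, (map_one _).symm⟩
      mul_mem' := by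
        rintro _ _ (⟨g, rfl⟩ | ⟨g, rfl⟩) (⟨h, rfl⟩ | ⟨h, rfl⟩)
        · exact Or.inl ⟨_, (map_mul _ _ _).symm⟩
        · exact Or.inr ⟨g * h, by rw [map_mul, mul_assoc]⟩
        · exact Or.inr ⟨g * σ h, by rw [map_mul, mul_assoc, so_io hσ, mul_assoc]⟩
        · exact Or.inl ⟨g * σ h, by
            rw [map_mul, mul_assoc, ← mul_assoc (so ρ σ), so_io hσ, mul_assoc, so_so, mul_one]⟩
      inv_mem' := by
        rintro _ (⟨g, rfl⟩ | ⟨g, rfl⟩)
        · exact Or.inl ⟨_, (map_inv _ _).symm⟩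
        · exact Or.inr ⟨σ g⁻¹, by
            rw [mul_inv_rev, inv_eq_of_mul_eq_one_right so_so, ← map_inv, so_io hσ]⟩ }
  have h : (psi ρ σ).range ⊔ zpowers (sw n) ≤ S.map (rho ρ σ) := sup_le
    (by rintro _ ⟨g, rfl⟩; exact ⟨_, Or.inl ⟨g, rfl⟩, rfl⟩)
    (zpowers_le.2 ⟨so ρ σ, Or.inr ⟨1, by rw [map_one, one_mul]⟩, rfl⟩)
  obtain ⟨y, hy, e⟩ := h x.2
  exact (show y = x from Subtype.ext e) ▸ hy

/-- the inner elements preserve the first copy -/
theorem mem0 (hn : 0 < n) {f : ℕ → ℕ} {x : Om ρ σ} (a : Acts (rho ρ σ) f x) :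
    x ∈ G0 ρ σ ↔ f 0 < n := by
  have k : ∀ {x : Om ρ σ} (g : G), x = io ρ σ g → (rho ρ σ x (Fin.castAdd n ⟨0, hn⟩) : ℕ) < n := by
    rintro _ g rfl; rw [io_l]; exact (ρ g _).is_lt
  rw [show f 0 = _ from a (Fin.castAdd n ⟨0, hn⟩)]
  refine ⟨fun ⟨g, e⟩ => k g e.symm, fun h => ?_⟩
  rcases cases hσ x with ⟨g, rfl⟩ | ⟨g, rfl⟩
  · exact io_mem g
  · rw [map_mul, Perm.mul_apply, so_l, io_r] at h; simp at h

theorem so_not (hn : 0 < n) : so ρ σ ∉ G0 ρ σ := fun h => by
  simpa [sf, brec_eq, hn.ne'] using (mem0 hσ hn acts_so).1 h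

theorem idx (x y : Om ρ σ) (hx : x ∉ G0 ρ σ) (hy : y ∉ G0 ρ σ) : x * y ∈ G0 ρ σ := by
  obtain ⟨g, rfl⟩ := (cases hσ x).resolve_left fun ⟨g, e⟩ => hx ⟨g, e.symm⟩
  obtain ⟨h, rfl⟩ := (cases hσ y).resolve_left fun ⟨g, e⟩ => hy ⟨g, e.symm⟩
  exact ⟨g * σ h, by rw [map_mul, mul_assoc, ← mul_assoc (so ρ σ), so_io hσ, mul_assoc, so_so, mul_one]⟩

theorem index (hn : 0 < n) : (G0 ρ σ).index = 2 :=
  index_eq_two_iff.2 ⟨so ρ σ, fun x => by
    by_cases h : x ∈ G0 ρ σ
    · exact Or.inr ⟨h, fun e => so_not hσ hn ((mul_mem_cancel_left h).1 e)⟩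
    · exact Or.inl ⟨idx hσ _ _ h (so_not hσ hn), h⟩⟩

theorem card (hn : 0 < n) (hi : Function.Injective ρ) : Nat.card (Om ρ σ) = 2 * Nat.card G := by
  rw [← (G0 ρ σ).index_mul_card, index hσ hn, card_G0 hi]

theorem card_le_two (hn : 0 < n) (K : Subgroup (Om ρ σ)) :
    Nat.card K ≤ 2 * Nat.card ↥(G0 ρ σ ⊓ K) := by
  have h := relIndex_mul_relIndex ⊥ (G0 ρ σ ⊓ K) K bot_le inf_le_right
  rw [relIndex_bot_left, relIndex_bot_left, inf_relIndex_right] at h
  rw [← h, mul_comm, ← index hσ hn, ← relIndex_top_right]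
  exact Nat.mul_le_mul_right _ (relIndex_le_of_le_right le_top
    (by rw [relIndex_top_right, index hσ hn]; exact two_ne_zero))

theorem card_cen_le (hn : 0 < n) (hi : Function.Injective ρ) (g : G) :
    Nat.card (centralizer {io ρ σ g}) ≤ 2 * Nat.card (centralizer {g}) :=
  card_inf_cen (σ := σ) hi g ▸ card_le_two hσ hn _

theorem isBase {base : List ℕ} (h : IsBase ρ base) (h0 : ∃ p ∈ base, p < n) :
    IsBase (rho ρ σ) base := fun x hx => by
  obtain ⟨p, hp, hn⟩ := h0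
  rcases cases hσ x with ⟨g, rfl⟩ | ⟨g, rfl⟩
  · rw [h g fun q hq => Fin.castAdd_injective _ _ ((io_l g q).symm.trans (hx _ hq)), map_one]
  · have := congrArg Fin.val (hx (Fin.castAdd n ⟨p, hn⟩) hp)
    rw [map_mul, Perm.mul_apply, so_l, io_r] at this
    simp at this; omega

theorem not_inner (hn : 0 < n) (hc : Gold.Cs (G0 ρ σ) ≤ G0 ρ σ) :
    ¬ ∃ c, ∀ g, σ g = c * g * c⁻¹ := fun ⟨c, e⟩ =>
  so_not hσ hn ((mul_mem_cancel_left (inv_mem (io_mem c))).1 (hc (StdSz.mem_Cs.2 (by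
    rintro _ ⟨g, rfl⟩
    rw [Commute, SemiconjBy, mul_assoc, so_io hσ, e, map_mul, map_mul, map_inv]; group))))

theorem aut (hi : Function.Injective ρ) (ho : ¬ ∃ c, ∀ g, σ g = c * g * c⁻¹)
    (h2 : Nat.card (Cfsg.Out G) = 2) (φ : MulAut (G0 ρ σ)) :
    ∃ g : Om ρ σ, ∀ x : G0 ρ σ, (φ x : Om ρ σ) = g * x * g⁻¹ := by
  let τ : MulAut G := ⟨⟨σ, σ, hσ, hσ⟩, σ.map_mul⟩
  let α : MulAut G := ((eqv0 hi).trans φ).trans (eqv0 hi).symm
  have e : ∀ g, (φ (eqv0 hi g) : Om ρ σ) = io ρ σ (α g) := fun g => by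
    rw [← coe_eqv0 hi]; simp [α]
  have hτ : τ ∉ Inn G := fun ⟨c, k⟩ => ho ⟨c, fun g => (DFunLike.congr_fun k g).symm⟩
  by_cases h : α ∈ Inn G
  · obtain ⟨c, k⟩ := h
    refine ⟨io ρ σ c, fun x => ?_⟩
    obtain ⟨g, rfl⟩ := (eqv0 hi).surjective x
    rw [e, ← k, coe_eqv0]; simp
  · obtain ⟨c, k⟩ := (mul_mem_iff_of_index_two (H := Inn G) h2).2 (iff_of_false h hτ)
    refine ⟨io ρ σ c * so ρ σ, fun x => ?_⟩
    obtain ⟨g, rfl⟩ := (eqv0 hi).surjective x
    have k1 : c * σ g * c⁻¹ = α (σ (σ g)) := DFunLike.congr_fun k (σ g)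
    rw [e, coe_eqv0, ← hσ g, ← k1, hσ, map_mul, map_mul, map_inv, ← conj_io hσ]; group

end Dbl

/-! ### Tools in a model -/

section Model

open Cfsg.Lib.Known.Model

variable {G : Type} [Group G] {X : Type*} {M : Model G X} {O : Ops}

/-- the words `Ws` in the letters `gs` define an endomorphism of order two -/
noncomputable def invoB (O : Ops) (gs : List ℕ) (k : ℕ) (ι : ℕ → ℕ) (R Ws : List (List ℕ)) : Bool :=
  WM.mapK (fun i => wvC O.mul O.one gs (nth [] Ws i)) (List.range k) fun cs =>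
    band (band (ltB k Ws) (Nat.beq (nth O.one cs 0) O.one)) (band (O.rels cs (invRels ι k ++ R))
      (nall (fun l => O.eqv (wvC O.mul O.one cs (nth [] Ws l)) (nth O.one gs l)) k))

theorem invoB_eq_1' : type_of% @invoB.eq_1 := @invoB.eq_1

theorem exists_invo (h : M.Has O) {g : ℕ → G} {k : ℕ} {ι : ℕ → ℕ} {R : List (List ℕ)}
    (hp : Pres g k ι R) {gs : List ℕ} (hg : ∀ l < k, M.R (nth O.one gs l) (g l))
    (hl : gs.length ≤ k) (Ws : List (List ℕ)) (hc : invoB O gs k ι R Ws = true) :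
    ∃ σ : G →* G, (∀ l < k, σ (g l) = wv g (Ws.getD l [])) ∧ ∀ x, σ (σ x) = x := by
  simp only [invoB, WM.mapK_eq, band_iff, nall_iff, Nat.beq_eq, nth_eq [] Ws] at hc
  obtain ⟨⟨c1, c2⟩, c3, c4⟩ := hc
  have lt : ∀ l, ∀ a ∈ Ws.getD l [], a < k := fun l a ha => by
    rcases lt_or_ge l Ws.length with hi | hi
    · rw [List.getD_eq_getElem _ _ hi] at ha
      exact lt_of_ltB c1 _ (List.getElem_mem hi) a ha
    · rw [List.getD_eq_default _ _ hi] at ha; cases ha
  let g' : ℕ → G := fun l => if l < k then g l else 1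
  have r0 : ∀ l, M.R (nth O.one gs l) (g' l) := fun l => by
    by_cases e : l < k
    · simpa only [g', if_pos e] using hg l e
    · rw [nth_eq, List.getD_eq_default _ _ (by omega), ← h.one]
      simpa only [g', if_neg e] using M.R_one
  have wc : ∀ {cs : List ℕ} {a : ℕ → G}, (∀ l, M.R (nth O.one cs l) (a l)) → ∀ W,
      M.R (wvC O.mul O.one cs W) (wv a W) := fun {cs a} ha W => by
    rw [← h.one, ← h.mul]; exact MulModel.R_wvC (M := M.toMulModel) (fun i => h.one ▸ ha i) W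
  let a : ℕ → G := fun l => if l < k then wv g (Ws.getD l []) else 1
  have r1 : ∀ l, M.R (nth O.one ((List.range k).map fun i => wvC O.mul O.one gs (Ws.getD i [])) l)
      (a l) := fun l => by
    by_cases e : l < k
    · rw [nth_eq, List.getD_eq_getElem _ _ (by simpa using e), List.getElem_map, List.getElem_range]
      simp only [a, if_pos e]
      rw [← Bulk.wv_congr (g := g') fun b hb => if_pos (lt l b hb)]
      exact wc r0 _
    · rw [nth_eq, List.getD_eq_default _ _ (by simpa using e), ← h.one]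
      simpa only [a, if_neg e] using M.R_one
  obtain ⟨σ, hσ⟩ := hp.lift G a (h.sat r1 c2 c3)
  refine ⟨σ, fun l hl => (hσ l hl).trans (if_pos hl), fun x => ?_⟩
  refine (MonoidHom.eq_of_eqOn_dense hp.gen (f := σ.comp σ) (g := MonoidHom.id G) ?_ ▸ rfl :
    σ.comp σ x = MonoidHom.id G x)
  rintro _ ⟨l, hl, rfl⟩
  change σ (σ (g l)) = g l
  rw [hσ l hl, show a l = _ from if_pos hl, map_wv_of_lt hσ (lt l)]
  exact h.eq_of (wc r1 _) (hg l hl) (c4 l hl)

/-- the code of a word of the search -/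
noncomputable def codeW (O : Ops) (w : List (ℕ × ℕ)) : ℕ :=
  List.rec O.one (fun s _ r => frc r (O.mul s.1)) w

theorem codeW_eq_1' : type_of% @codeW.eq_1 := @codeW.eq_1

theorem R_codeW (h : M.Has O) {w : List (ℕ × ℕ)} {d : G} (e : M.WVal w d) : M.R (codeW O w) d := by
  induction e with
  | nil => exact (h.one ▸ M.R_one : M.R O.one 1)
  | cons a _ _ ih => exact h.R_mul a ih

/-- all solutions of `d y = z d` in the group with the chain `cs, ls` pass the test `P` -/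
noncomputable def conjAllB (O : Ops) (cs : List ℕ) (N : ℕ) (ls : List ILev) (cy cz : ℕ)
    (P : ℕ → Bool) : Bool :=
  buildLv O.app O.vld O.key O.one O.inv cs N ls [] 1 fun bl => band (srcChk O.app cz bl [])
    (search O.app O.key O.one cy cz (fun _ w => frc (codeW O w) P) bl [] [])

theorem conjAllB_eq_1' : type_of% @conjAllB.eq_1 := @conjAllB.eq_1

theorem conjAll [Finite G] (h : M.Has O) {K : Subgroup G} {cs : List ℕ} (hcs : ∀ c ∈ cs, M.In K c)
    {N : ℕ} (hN : Nat.card K ≤ N) {ls : List ILev} {cy cz : ℕ} {y z : G} (hy : M.R cy y)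
    (hz : M.R cz z) (yK : y ∈ K) (zK : z ∈ K) {P : ℕ → Bool}
    (hc : conjAllB O cs N ls cy cz P = true) :
    ∀ d ∈ K, d * y = z * d → ∃ c, M.R c d ∧ P c = true := fun d hd e => by
  have h' := h.comap K.subtype Subtype.val_injective
  rw [conjAllB, ← h'.app, ← h'.vld, ← h'.one] at hc
  obtain ⟨-, bl, h1, h2⟩ := exact_of_build h'.inv (fun c hc => comap_in (hcs c hc)) hN hc
  obtain ⟨_, w, -, -, k1, k2⟩ := forall_of_search (y := ⟨y, yK⟩) (z := ⟨z, zK⟩) hy hz h1 h2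
    (d := ⟨d, hd⟩) (Subtype.ext e)
  exact ⟨_, R_codeW h' k1, k2⟩

/-- `c` does not commute with some `u ∈ us` (seen on a point of `tp`) or is listed in `L` -/
noncomputable def stdP (O : Ops) (us L tp : List ℕ) (c : ℕ) : Bool :=
  bor (lany (fun u => frc (O.mul c u) fun a => frc (O.mul u c) fun b =>
    lany (fun p => O.dif p a b) tp) us) (lany (O.eqv c) L)

theorem stdP_eq_1' : type_of% @stdP.eq_1 := @stdP.eq_1

theorem of_stdP (h : M.Has O) {us L tp : List ℕ} (hus : ∀ u ∈ us, M.In ⊤ u) (hL : ∀ l ∈ L, M.In ⊤ l)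
    {c : ℕ} {d : G} (hd : M.R c d) (e : stdP O us L tp c = true)
    (hu : ∀ u ∈ us, ∀ g, M.R u g → Commute d g) : ∃ l ∈ L, M.R l d := by
  rcases bor_iff.1 e with e | e
  · obtain ⟨u, h1, h2⟩ := lany_spec e
    obtain ⟨p, -, h3⟩ := lany_spec h2
    obtain ⟨g, -, hg⟩ := hus u h1
    exact absurd (hu u h1 g hg).eq (h.ne (h.R_mul hd hg) (h.R_mul hg hd) h3)
  · obtain ⟨l, h1, h2⟩ := lany_spec e
    obtain ⟨g, -, hg⟩ := hL l h1
    exact ⟨l, h1, h.eq_of hd hg h2 ▸ hg⟩

/-- all elements commuting with `cz` and `cx` pass the test `P`; `cs, ls` is a chain of the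
centraliser of `cz` -/
noncomputable def cenAllB (O : Ops) (cs : List ℕ) (N : ℕ) (ls : List ILev) (cz cx : ℕ)
    (P : ℕ → Bool) : Bool :=
  band (lall (fun c => O.cj c cz cz) (cx :: cs)) (conjAllB O cs N ls cx cx P)

theorem cenAllB_eq_1' : type_of% @cenAllB.eq_1 := @cenAllB.eq_1

theorem in_cen (h : M.Has O) {cs : List ℕ} (hcs : ∀ c ∈ cs, M.In ⊤ c) {cz : ℕ} {z : G}
    (hz : M.R cz z) (e : lall (fun c => O.cj c cz cz) cs = true) :
    ∀ c ∈ cs, M.In (centralizer {z}) c := fun c hc =>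
  let ⟨g, _, hg⟩ := hcs c hc
  ⟨g, mem_centralizer_singleton_iff.2 (h.cj hg hz hz (lall_iff.1 e c hc)), hg⟩

theorem cenAll [Finite G] (h : M.Has O) {cs : List ℕ} (hcs : ∀ c ∈ cs, M.In ⊤ c) {cz cx : ℕ}
    {z x : G} (hz : M.R cz z) (hx : M.R cx x) {N : ℕ} (hN : Nat.card (centralizer {z}) ≤ N)
    {ls : List ILev} {P : ℕ → Bool} (hc : cenAllB O cs N ls cz cx P = true) :
    ∀ d, Commute d z → Commute d x → ∃ c, M.R c d ∧ P c = true := fun d h1 h2 => by
  obtain ⟨c1, c2⟩ := band_iff.1 hc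
  have k := in_cen h (List.forall_mem_cons.2 ⟨⟨x, trivial, hx⟩, hcs⟩) hz c1
  obtain ⟨x', a, b⟩ := k cx List.mem_cons_self
  rw [M.R_fun b hx] at a
  exact conjAll h (fun c hc => k c (List.mem_cons_of_mem _ hc)) hN hx hx a a c2 d
    (mem_centralizer_singleton_iff.2 h1) h2

/-- the points of a chain lie in the image of `pt` -/
noncomputable def fixB (O : Ops) (cs : List ℕ) (N : ℕ) (ls : List ILev) (pt : ℕ → ℕ) (k : ℕ) : Bool :=
  buildLv O.app O.vld O.key O.one O.inv cs N ls [] 1 fun bl =>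
    lall (fun l => nany (fun i => Nat.beq (pt i) l.b) k) bl

theorem fixB_eq_1' : type_of% @fixB.eq_1 := @fixB.eq_1

theorem fix_triv [Finite G] (h : M.Has O) {K : Subgroup G} {cs : List ℕ} (hcs : ∀ c ∈ cs, M.In K c)
    {N : ℕ} (hN : Nat.card K ≤ N) {ls : List ILev} {pt : ℕ → ℕ} {k : ℕ}
    (hc : fixB O cs N ls pt k = true) :
    ∀ x ∈ K, (∀ i < k, ∀ ω, M.P (pt i) ω → M.ρ x ω = ω) → x = 1 := by
  intro x hx e
  have h' := h.comap K.subtype Subtype.val_injective
  rw [fixB, ← h'.app, ← h'.vld, ← h'.one] at hc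
  obtain ⟨-, bl, h1, h2⟩ := exact_of_build h'.inv (fun c hc => comap_in (hcs c hc)) hN hc
  have key : ∀ {prev : List ℕ} {bl : List BLev}, (M.comap K.subtype Subtype.val_injective).Exact O.key prev bl →
      lall (fun l => nany (fun i => Nat.beq (pt i) l.b) k) bl = true →
      (⟨x, hx⟩ : K) ∈ (M.comap K.subtype Subtype.val_injective).fixer prev → x = (1 : G) := by
    intro prev bl a
    induction a with
    | nil a => exact fun _ b => congrArg Subtype.val (show (⟨x, hx⟩ : K) = 1 from mem_bot.1 (a ▸ b))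
    | @cons prev l bl ω _ _ _ _ ih =>
      intro b c
      rw [lall_iff, List.forall_mem_cons, ← lall_iff] at b
      obtain ⟨i, hi, j⟩ := nany_spec b.1
      exact ih b.2 (List.forall_mem_cons.2 ⟨Nat.eq_of_beq_eq_true j ▸ e i hi, c⟩)
  exact key h1 h2 fun _ hb => nomatch hb

/-- the letters `ws` act on the increasing list of points `pt i` like the letters of `Q` -/
noncomputable def embB (O : Ops) (Q : WF.PM) (ws : List ℕ) (pt : ℕ → ℕ) : Bool :=
  band (band (Nat.ble (llen ws) (llen Q.cs)) (nall (fun i => band (O.vld (pt i))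
    (bor (Nat.ble Q.n (Nat.succ i)) (Nat.blt (pt i) (pt (Nat.succ i))))) Q.n))
    (nall (fun l => frc (nth O.one ws l) fun a => frc (nth 0 Q.cs l) fun c =>
      nall (fun i => frc (pt i) fun x => frc (Nat.div (PK.fld Q.w c i) Q.w) fun j =>
        Nat.beq (O.app a x) (pt j)) Q.n) (llen Q.cs))

theorem embB_eq_1' : type_of% @embB.eq_1 := @embB.eq_1

theorem emb (h : M.Has O) {Q : WF.PM} [NeZero Q.n] (ok : Q.ok = true) {ws : List ℕ} {g : ℕ → G}
    (hg : ∀ l, M.R (nth O.one ws l) (g l)) {pt : ℕ → ℕ} (hc : embB O Q ws pt = true)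
    {K : Subgroup G} (hK : ∀ l, g l ∈ K)
    (hf : (∀ x ∈ K, (∀ i < Q.n, ∀ ω, M.P (pt i) ω → M.ρ x ω = ω) → x = 1) ∨
      Finite K ∧ ∃ W, Nat.card K ≤ Nat.card (WF.sub Q.m W)) : WF.Emb Q.m g := by
  simp only [embB, band_iff, bor_iff, nall_iff, frc_eq, Nat.ble_eq, Nat.blt_eq, Nat.beq_eq, llen_eq] at hc
  obtain ⟨⟨c1, c2⟩, c3⟩ := hc
  have C := WF.PM.ctx ok
  choose ω hω using fun i : Fin Q.n => M.P_vld (h.vld ▸ (c2 i i.2).1)
  have inj : Function.Injective ω := fun i j e =>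
    (show StrictMono fun i : Fin Q.n => pt i from fun i j hij => by
      have : ∀ b, (i : ℕ) < b → b < Q.n → pt i < pt b := fun b hb => by
        induction hb with
        | refl => exact fun hb => (c2 i i.2).2.resolve_left hb.not_ge
        | step _ ih =>
          exact fun hb => (ih (Nat.lt_of_succ_lt hb)).trans
            ((c2 _ (Nat.lt_of_succ_lt hb)).2.resolve_left hb.not_ge)
      exact this j hij j.2).injective (M.P_inj (hω i) (e ▸ hω j))
  let E : Subgroup (Perm (Fin Q.n) × G) :=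
    { carrier := {x | x.2 ∈ K ∧ ∀ i, M.ρ x.2 (ω i) = ω (x.1 i)}
      one_mem' := ⟨one_mem K, fun i => by simp⟩
      mul_mem' := fun a b => ⟨mul_mem a.1 b.1, fun i => by simp [a.2, b.2]⟩
      inv_mem' := fun {x} a => ⟨inv_mem a.1, fun i => by
        rw [Prod.snd_inv, map_inv, Perm.inv_eq_iff_eq, a.2]; simp⟩ }
  let D := closure (Set.range fun l => (Q.m l, g l))
  have hD : D ≤ E := (closure_le _).2 (by
    rintro _ ⟨l, rfl⟩
    refine ⟨hK l, fun i => ?_⟩
    change M.ρ (g l) (ω i) = ω (Q.m l i)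
    by_cases hl : l < Q.cs.length
    · obtain ⟨j, hj, e1, e2⟩ := (WF.PM.den ok l).2 i i.2
      have e3 := c3 l hl i i.2
      rw [PK.nth_eq, List.getD_eq_getElem _ _ hl] at e1
      rw [nth_eq 0, List.getD_eq_getElem _ _ hl, e1,
        show Nat.div _ _ = j from Nat.mul_div_cancel_left _ C.wpos, ← h.app] at e3
      have e4 : Q.m l i = ⟨j, hj⟩ := by
        rw [← Fin.ofNat_val_eq_self i]; exact e2.trans (Fin.ext (Nat.mod_eq_of_lt hj))
      exact e4 ▸ M.P_fun (M.P_app (hg l) (hω i)) (e3 ▸ hω ⟨j, hj⟩)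
    · have e1 := hg l
      rw [nth_eq, List.getD_eq_default _ _ (by omega), ← h.one] at e1
      rw [WF.PM.m_eq_one ok (l := l) (by rw [PK.nth_eq, List.getD_eq_default _ _ (by omega)]),
        M.R_fun e1 M.R_one]
      simp)
  have h2 : ∀ x ∈ D, x.2 = 1 → x = 1 := fun x hx e => Prod.ext
    (Equiv.ext fun i => inj (((hD hx).2 i).symm.trans (by simp [e]))) e
  have hm : ∀ l, Q.m l ∈ D.map (MonoidHom.fst _ _) := fun l => ⟨_, subset_closure ⟨l, rfl⟩, rfl⟩
  have h1 : ∀ x ∈ D, x.1 = 1 → x = 1 := fun x hx e => by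
    rcases hf with hf | ⟨_, W, hW⟩
    · exact h2 x hx (hf _ (hD hx).1 fun i hi η hη => by
        rw [M.P_fun hη (hω ⟨i, hi⟩), (hD hx).2, e]; rfl)
    · have k1 : Function.Injective fun y : D => (⟨y.1.2, (hD y.2).1⟩ : K) := fun a b e =>
        inv_mul_eq_one.1 (Subtype.ext (h2 _ (a⁻¹ * b).2
          (inv_mul_eq_one.2 (congrArg Subtype.val e))))
      have := Finite.of_injective _ k1
      have k2 := (MonoidHom.subgroupMap_surjective (MonoidHom.fst _ _) D).bijective_of_nat_card_le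
        ((Nat.card_le_card_of_injective _ k1).trans (hW.trans (card_le_of_le
          (WF.sub_le fun L _ => Bulk.wv_mem _ fun l _ => hm l))))
      exact congrArg Subtype.val ((injective_iff_map_eq_one _).1 k2.1 ⟨x, hx⟩ (Subtype.ext e))
  obtain ⟨φ, a, -⟩ := PK.exists_hom_of_fst_inj D h1 rfl
  refine ⟨_, hm, φ, (injective_iff_map_eq_one φ).2 fun y e => ?_,
    fun l => a (Q.m l, g l) (subset_closure ⟨l, rfl⟩) _⟩
  obtain ⟨_, x, hx, rfl⟩ := y
  exact Subtype.ext (congrArg Prod.fst (h2 x hx ((a x hx _).symm.trans e)))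

end Model

/-! ### The same in a word model -/

section Word

variable {G : Type} [Group G] {n : ℕ} {ρ : G →* Perm (Fin n)} {T : FT} {b m : ℕ} {base : List ℕ}
  (h : Good ρ T b m base) {ι : ℕ → ℕ} (hι : invB T b m base ι = true)
include hι

/-- double centralisers: an element commuting with `cz`, `cx` and `us` is listed in `L` -/
theorem dcen [Finite G] {cs : List ℕ} {cz cx N : ℕ} (hN : Nat.card (centralizer {h.V cz}) ≤ N)
    {ls : List ILev} {us L tp : List ℕ}
    (hc : cenAllB (fops T b m base n ι) cs N ls cz cx (stdP (fops T b m base n ι) us L tp) = true)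
    (d : G) (h1 : Commute d (h.V cz)) (h2 : Commute d (h.V cx)) (h3 : ∀ u ∈ us, Commute d (h.V u)) :
    ∃ l ∈ L, d = h.V l := by
  obtain ⟨c, a1, a2⟩ := cenAll (h.hasF hι) (h.fm_in cs) rfl rfl hN hc d h1 h2
  obtain ⟨l, a3, a4⟩ := of_stdP (h.hasF hι) (h.fm_in us) (h.fm_in L) a1 a2 fun u hu g e =>
    (show h.V u = g from e) ▸ h3 u hu
  exact ⟨l, a3, (show h.V l = d from a4).symm⟩

/-- a local permutation model on a set of points containing the base -/
theorem emb_base {Q : WF.PM} [NeZero Q.n] (ok : Q.ok = true) {ws : List ℕ} {pt : ℕ → ℕ}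
    (hc : embB (fops T b m base n ι) Q ws pt = true)
    (hb : lall (fun p => nany (fun i => Nat.beq (pt i) p) Q.n) base = true) :
    WF.Emb Q.m fun l => h.V (nth 0 ws l) :=
  emb (h.hasF hι) ok (fun _ => rfl) hc (K := ⊤) (fun _ => trivial) (Or.inl fun x _ e =>
    h.base x fun p hp =>
      let ⟨i, hi, k⟩ := nany_spec (lall_iff.1 hb p hp)
      e i hi p (Nat.eq_of_beq_eq_true k))

theorem V_nth {K : Subgroup G} {ws : List ℕ} (hK : ∀ c ∈ ws, h.fm.In K c) (l : ℕ) :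
    h.V (nth 0 ws l) ∈ K :=
  let ⟨_, a, e⟩ := MulModel.in_nth hK l
  (show h.V (nth 0 ws l) = _ from e) ▸ a

/-- a local permutation model inside a subgroup `K` of order at most that of the model -/
theorem emb_card [Finite G] {Q : WF.PM} [NeZero Q.n] (ok : Q.ok = true) {ws : List ℕ} {pt : ℕ → ℕ}
    (hc : embB (fops T b m base n ι) Q ws pt = true) {K : Subgroup G}
    (hK : ∀ c ∈ ws, h.fm.In K c) {W : List (List ℕ)}
    (hW : Nat.card K ≤ Nat.card (WF.sub Q.m W)) : WF.Emb Q.m fun l => h.V (nth 0 ws l) :=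
  emb (h.hasF hι) ok (fun _ => rfl) hc (V_nth h hι hK) (Or.inr ⟨inferInstance, W, hW⟩)

/-- a local permutation model on a set of points containing a base of a subgroup `K` -/
theorem emb_chain [Finite G] {Q : WF.PM} [NeZero Q.n] (ok : Q.ok = true) {ws : List ℕ}
    {pt : ℕ → ℕ} (hc : embB (fops T b m base n ι) Q ws pt = true) {K : Subgroup G}
    (hK : ∀ c ∈ ws, h.fm.In K c) {cs : List ℕ} (hcs : ∀ c ∈ cs, h.fm.In K c) {N : ℕ}
    (hN : Nat.card K ≤ N) {ls : List ILev} (hb : fixB (fops T b m base n ι) cs N ls pt Q.n = true) :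
    WF.Emb Q.m fun l => h.V (nth 0 ws l) :=
  emb (h.hasF hι) ok (fun _ => rfl) hc (V_nth h hι hK) (Or.inl (fix_triv (h.hasF hι) hcs hN hb))

end Word

/-- the inner test on codes -/
theorem Dbl.V_mem {G : Type} [Group G] {n : ℕ} {ρ : G →* Perm (Fin n)} {σ : G →* G}
    (hσ : ∀ g, σ (σ g) = g) (hn : 0 < n) {T : FT} {b m : ℕ} {base : List ℕ}
    (h : Good (Dbl.rho ρ σ) T b m base) (c : ℕ) : h.V c ∈ Dbl.G0 ρ σ ↔ appF T b m c 0 < n :=
  Dbl.mem0 hσ hn (h.acts_appF c)

end Cfsg.Lib.StdX
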