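import Cfsg.Agent.StdX.Kit
import Cfsg.Agent.StdX.ONDTa
import Cfsg.Agent.StdX.ONDTb
import Cfsg.Agent.StdX.ONDTc
import Cfsg.Agent.StdX.ONDTd
import Cfsg.Agent.Spor.ONOut
import Cfsg.Agent.SporChar.ONSyl

/-!
# The word model of the automorphism group of the O'Nan group

Letters (six bits each): `1, …, 8` the generators of the simple group, `9` the outer involution `so`,
`10` the involution `z`, `11, …, 14` generators of a Sylow 2-subgroup of the simple group, and `15`;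
the letters `11, …, 15` generate the centraliser of `z` in the simple group.
-/

set_option autoImplicit false
set_option maxRecDepth 100000
set_option Elab.async false

namespace Cfsg.Lib.StdX.ON

open Subgroup Cfsg.Lib.Spor Cfsg.Lib.Spor.ONP Cfsg.Lib.Spor.Bulk Cfsg.Lib.Spor.WM Cfsg.Lib.Known
open Cfsg.Lib.Known.PC (nth)

/-- the images of the generators under the outer automorphism -/
def sW : List (List ℕ) := [[],
  [6,4,3,4,2,5,4,3,2,6,5,4,3,2,4,5,7,2,1,3,5,4,8,3,5,4,6],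
  [4,8,5,3,1,2,8,2,3,4,5,4,3,2,4,3,2,1,4,5,4,3,7,2,3,5,7,4,3,5,6],
  [4,3,4,3,4,5,4,3,2,4,3,5,7,5,4,3,2,4,3,7,5,4,3,7,5,4,3,2,7,3,2,8],
  [1,2,3,4,8,3,2,8,3,4,3,4,2,5,4,3,2,4,5,7,5,4,3,4,3,5,4,7,2,3],
  [8,3,4,5,3,4,3,2,8,1,6,3,2,5,4,3,2,1,4,6,5,4,3,2,4,5,7,2,3,4,5],
  [4,5,6,3,4,5,8,2,3,4,3,2,7,2,5,7,3,7,2,4,3,5,4],
  [1,2,3,8,1,6,2,4,3,2,1,5,4,7,5,4,3,2,4,3,7,2,4,5,8,2,5],
  [2,3,2,4,5,4,3,2,1,4,3,2,5,6,7,4,5,4,3,2,4,5,8,3,4,5,8,5,3,8]]

/-- the word of `z` -/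
def wZ : List ℕ := [5,7,3,4,5,8,6,2,3,2,5,4,3,2,1,4,3,6,5,4,3,2,4,3,5,6,7,5,4,3,8,5]
/-- the words of the letters `11, …, 15` -/
def wU1 : List ℕ := [4,5,2,8,2,4,3,2,4,5,7,2,5,7,4,3,2,7,2,4,5]
@[inherit_doc wU1] def wU2 : List ℕ := [5,8,5,4,3,4,2,8,3,4,3,4,6,5,4,3,7,2,4,5,4,3,2,4,3,6,5,4,3]
@[inherit_doc wU1] def wU3 : List ℕ := [2,7,5,4,3,4,2,8,3,4,3,4,2,4,5,4,3,2,1,4,7,3,2,5,4,3,2,4,5,6,5]
@[inherit_doc wU1] def wU4 : List ℕ := [7,5,6,4,5,2,8,2,3,5,4,6,7,2,1,3,2,5,4,8,3,2,5,4,7,5,2,8]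
@[inherit_doc wU1] def wE : List ℕ := [6,5,2,3,4,2,3,2,8,2,4,3,4,5,4,3,4,3,2,5,4,7,5,7,4,3,2,1,4,3,4,5]

theorem ex_σ : ∃ σ : Cfsg.Spor.ON →* Cfsg.Spor.ON,
    (∀ l < 9, σ (g0 l) = wv g0 (sW.getD l [])) ∧ ∀ x, σ (σ x) = x :=
  exists_invo (g_good.hasF g_inv) pres (gs := [0,1,2,3,4,5,6,7,8]) (fun l hl => by
    have e : nth (fops g_T 6 63 base 122760 g_i).one [0,1,2,3,4,5,6,7,8] l = l := by
      interval_cases l <;> rfl
    rw [e]
    exact g_good.fm_R (g_good.R_letter (by omega) (g_acts l hl))) (by decide) sW (by decide +kernel)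

/-- the outer automorphism of order two -/
noncomputable def σ : Cfsg.Spor.ON →* Cfsg.Spor.ON := ex_σ.choose

theorem σ_g : ∀ l < 9, σ (g0 l) = wv g0 (sW.getD l []) := ex_σ.choose_spec.1

theorem hσ : ∀ x, σ (σ x) = x := ex_σ.choose_spec.2

/-- images of words under the outer automorphism -/
theorem σ_wv {A B : List ℕ} (h : (ltB 9 [A] && ONT.eqO [(ONT.sbs (ONT.tb sW) A, B)]) = true) :
    σ (wv g0 A) = wv g0 B := by
  rw [Bool.and_eq_true] at h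
  rw [map_wv_of_lt σ_g (lt_of_ltB h.1 _ List.mem_cons_self)]
  refine Eq.trans ?_ (ONT.eqO_sound h.2 _ List.mem_cons_self)
  simp only [ONT.wv_sbs, ONT.tb_eq]

theorem not_inner : ¬ ∃ c, ∀ g, σ g = c * g * c⁻¹ := fun ⟨c, e⟩ => by
  have h1 : σ (wv g0 [4,3]) = wv g0 [5,7,3,4,5,3,2,8,6,4,3,4,2,1,4,5,4,3,2,4,7,5,4,3,2,4,5,8,5] := σ_wv (by decide +kernel)
  have h2 : ρ (wv g0 [4,3]) ⟨0, by norm_num⟩ = ⟨0, by norm_num⟩ := by
    have := g_good.acts_appF (pack 6 [4,3]) ⟨0, by norm_num⟩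
    rw [show g_good.V (pack 6 [4,3]) = _ from R_w (W := [4,3]) (by decide +kernel)] at this
    exact Fin.ext (this.symm.trans (by decide +kernel))
  have h3 := mem_of_fixLeB on_nets on_w (W := [5,7,3,4,5,3,2,8,6,4,3,4,2,1,4,5,4,3,2,4,7,5,4,3,2,4,5,8,5]) (F := []) (by decide +kernel)
    (p := ρ c ⟨0, by norm_num⟩) (by
      rw [← map_wv_of_lt ρ_g0 (by decide), ← h1, e, ← Equiv.Perm.mul_apply, ← map_mul,
        inv_mul_cancel_right, map_mul, Equiv.Perm.mul_apply, h2])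
  cases h3

/-- the automorphism group in the doubled action -/
abbrev Om : Type := Dbl.Om ρ σ

/-- the simple group inside `Om` -/
noncomputable abbrev G0 : Subgroup Om := Dbl.G0 ρ σ

/-- the embedding of the simple group -/
noncomputable abbrev io : Cfsg.Spor.ON →* Om := Dbl.io ρ σ

instance finite_Om : Finite Om := Finite.of_injective _ Dbl.rho_inj

theorem a1 : Acts (Dbl.rho ρ σ) (Dbl.df 122760 (lk t1) (lk s1)) (io (g0 1)) :=
  Dbl.acts_io t1_g ((σ_g 1 (by decide)).symm ▸ s1_ok)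
theorem a2 : Acts (Dbl.rho ρ σ) (Dbl.df 122760 (lk t2) (lk s2)) (io (g0 2)) :=
  Dbl.acts_io t2_g ((σ_g 2 (by decide)).symm ▸ s2_ok)
theorem a3 : Acts (Dbl.rho ρ σ) (Dbl.df 122760 (lk t3) (lk s3)) (io (g0 3)) :=
  Dbl.acts_io t3_g ((σ_g 3 (by decide)).symm ▸ s3_ok)
theorem a4 : Acts (Dbl.rho ρ σ) (Dbl.df 122760 (lk t4) (lk s4)) (io (g0 4)) :=
  Dbl.acts_io t4_g ((σ_g 4 (by decide)).symm ▸ s4_ok)
theorem a5 : Acts (Dbl.rho ρ σ) (Dbl.df 122760 (lk t5) (lk s5)) (io (g0 5)) :=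
  Dbl.acts_io t5_g ((σ_g 5 (by decide)).symm ▸ s5_ok)
theorem a6 : Acts (Dbl.rho ρ σ) (Dbl.df 122760 (lk t6) (lk s6)) (io (g0 6)) :=
  Dbl.acts_io t6_g ((σ_g 6 (by decide)).symm ▸ s6_ok)
theorem a7 : Acts (Dbl.rho ρ σ) (Dbl.df 122760 (lk t7) (lk s7)) (io (g0 7)) :=
  Dbl.acts_io t7_g ((σ_g 7 (by decide)).symm ▸ s7_ok)
theorem a8 : Acts (Dbl.rho ρ σ) (Dbl.df 122760 (lk t8) (lk s8)) (io (g0 8)) :=
  Dbl.acts_io t8_g ((σ_g 8 (by decide)).symm ▸ s8_ok)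
theorem a9 : Acts (Dbl.rho ρ σ) (Dbl.sf 122760) (Dbl.so ρ σ) := Dbl.acts_so
theorem σ_wZ : σ (wv g0 wZ) = wv g0 wZ := σ_wv (by decide +kernel)
theorem a10 : Acts (Dbl.rho ρ σ) (Dbl.df 122760 (lk tz) (lk tz)) (io (wv g0 wZ)) :=
  Dbl.acts_io tz_ok (σ_wZ.symm ▸ tz_ok)
theorem σ_wU1 : σ (wv g0 wU1) = wv g0 wU2 := σ_wv (by decide +kernel)
theorem a11 : Acts (Dbl.rho ρ σ) (Dbl.df 122760 (lk u1) (lk u2)) (io (wv g0 wU1)) :=
  Dbl.acts_io u1_ok (σ_wU1.symm ▸ u2_ok)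
theorem σ_wU2 : σ (wv g0 wU2) = wv g0 wU1 := σ_wv (by decide +kernel)
theorem a12 : Acts (Dbl.rho ρ σ) (Dbl.df 122760 (lk u2) (lk u1)) (io (wv g0 wU2)) :=
  Dbl.acts_io u2_ok (σ_wU2.symm ▸ u1_ok)
theorem σ_wU3 : σ (wv g0 wU3) = wv g0 wU4 := σ_wv (by decide +kernel)
theorem a13 : Acts (Dbl.rho ρ σ) (Dbl.df 122760 (lk u3) (lk u4)) (io (wv g0 wU3)) :=
  Dbl.acts_io u3_ok (σ_wU3.symm ▸ u4_ok)
theorem σ_wU4 : σ (wv g0 wU4) = wv g0 wU3 := σ_wv (by decide +kernel)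
theorem a14 : Acts (Dbl.rho ρ σ) (Dbl.df 122760 (lk u4) (lk u3)) (io (wv g0 wU4)) :=
  Dbl.acts_io u4_ok (σ_wU4.symm ▸ u3_ok)
theorem σ_wE : σ (wv g0 wE) = wv g0 wE := σ_wv (by decide +kernel)
theorem a15 : Acts (Dbl.rho ρ σ) (Dbl.df 122760 (lk te) (lk te)) (io (wv g0 wE)) :=
  Dbl.acts_io te_ok (σ_wE.symm ▸ te_ok)

/-- the tables of the letters -/
noncomputable def gT : FT := (.node (nat_lit 8) (.node (nat_lit 4) (.node (nat_lit 2) (.node (nat_lit 1) (.leaf id)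
    (.leaf (Dbl.df 122760 (lk t1) (lk s1))))
    (.node (nat_lit 3) (.leaf (Dbl.df 122760 (lk t2) (lk s2)))
    (.leaf (Dbl.df 122760 (lk t3) (lk s3)))))
    (.node (nat_lit 6) (.node (nat_lit 5) (.leaf (Dbl.df 122760 (lk t4) (lk s4)))
    (.leaf (Dbl.df 122760 (lk t5) (lk s5))))
    (.node (nat_lit 7) (.leaf (Dbl.df 122760 (lk t6) (lk s6)))
    (.leaf (Dbl.df 122760 (lk t7) (lk s7))))))
    (.node (nat_lit 12) (.node (nat_lit 10) (.node (nat_lit 9) (.leaf (Dbl.df 122760 (lk t8) (lk s8)))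
    (.leaf (Dbl.sf 122760)))
    (.node (nat_lit 11) (.leaf (Dbl.df 122760 (lk tz) (lk tz)))
    (.leaf (Dbl.df 122760 (lk u1) (lk u2)))))
    (.node (nat_lit 14) (.node (nat_lit 13) (.leaf (Dbl.df 122760 (lk u2) (lk u1)))
    (.leaf (Dbl.df 122760 (lk u3) (lk u4))))
    (.node (nat_lit 15) (.leaf (Dbl.df 122760 (lk u4) (lk u3)))
    (.node (nat_lit 16) (.leaf (Dbl.df 122760 (lk te) (lk te)))
    (.leaf id))))))

theorem gd : Good (Dbl.rho ρ σ) gT 6 63 base :=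
  ⟨(.node (.node (.node (.node (.leaf (acts_id _)) (.leaf a1)) (.node (.leaf a2) (.leaf a3))) (.node (.node (.leaf a4) (.leaf a5)) (.node (.leaf a6) (.leaf a7)))) (.node (.node (.node (.leaf a8) (.leaf a9)) (.node (.leaf a10) (.leaf a11))) (.node (.node (.leaf a12) (.leaf a13)) (.node (.leaf a14) (.node (.leaf a15) (.leaf (acts_id _))))))),
    acts_id _, by decide, rfl, Dbl.isBase hσ isBase ⟨0, by decide, by decide⟩⟩

/-- the inverses of the letters -/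
noncomputable def ι : ℕ → ℕ := getN 0 [0,1,2,3,4,5,6,8,7,9,10,11,12,13,14,15]

theorem hι : invB gT 6 63 base ι = true := by decide +kernel

/-- the operations on codes -/
noncomputable abbrev ops : Ops := fops gT 6 63 base (122760 + 122760) ι

theorem has : gd.fm.Has ops := gd.hasF hι

/-- the central involution -/
noncomputable abbrev z : Om := gd.V 10
/-- the second involution (there is only one class in the simple group) -/
noncomputable abbrev y : Om := gd.V 10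
/-- the outer involution -/
noncomputable abbrev so : Om := gd.V 9

theorem so_eq : so = Dbl.so ρ σ := gd.R_letter (by decide) a9
theorem z_eq : z = io (wv g0 wZ) := gd.R_letter (by decide) a10
theorem V11 : gd.V 11 = io (wv g0 wU1) := gd.R_letter (by decide) a11
theorem V12 : gd.V 12 = io (wv g0 wU2) := gd.R_letter (by decide) a12
theorem V13 : gd.V 13 = io (wv g0 wU3) := gd.R_letter (by decide) a13
theorem V14 : gd.V 14 = io (wv g0 wU4) := gd.R_letter (by decide) a14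
theorem V15 : gd.V 15 = io (wv g0 wE) := gd.R_letter (by decide) a15

theorem acts_g : ∀ l < 9, Acts (Dbl.rho ρ σ) (gT.fn l) (io (g0 l)) := fun l hl => by
  interval_cases l
  exacts [by rw [sat.zero, map_one]; exact acts_id _, a1, a2, a3, a4, a5, a6, a7, a8]

/-- words in the generators of the simple group -/
theorem V_w {W : List ℕ} (h : ltB 9 [W] = true) : gd.V (pack 6 W) = io (wv g0 W) :=
  Dbl.V_pack gd (by decide) acts_g (lt_of_ltB h _ List.mem_cons_self)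

theorem V_g {l : ℕ} (hl : l < 9) : gd.V l = io (g0 l) := gd.R_letter (by omega) (acts_g l hl)

theorem simple : IsSimpleGroup G0 :=
  have := ONP.simple
  Dbl.simple injective

theorem aut : ∀ φ : MulAut G0, ∃ g ∈ (⊤ : Subgroup Om), ∀ x : G0, (φ x : Om) = g * x * g⁻¹ := fun φ =>
  let ⟨g, h⟩ := Dbl.aut hσ injective not_inner card_out φ
  ⟨g, trivial, h⟩

theorem idx : ∀ a ∈ (⊤ : Subgroup Om), ∀ b ∈ (⊤ : Subgroup Om), a ∉ G0 → b ∉ G0 → a * b ∈ G0 :=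
  fun a _ b _ => Dbl.idx hσ a b

theorem index_G0 : G0.index = 2 := Dbl.index hσ (by decide)

theorem normal_G0 : G0.Normal := normal_of_index_eq_two index_G0

theorem card_G0 : Nat.card G0 = 460815505920 := (Dbl.card_G0 injective).trans card

theorem card_Om : Nat.card Om = 921631011840 := (Dbl.card hσ (by decide) injective).trans (by rw [card])

/-- the isomorphism onto the subgroup of index two -/
noncomputable def eqv : Cfsg.Spor.ON ≃* G0 := Dbl.eqv0 injective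

theorem coe_eqv (g : Cfsg.Spor.ON) : (eqv g : Om) = io g := rfl

theorem io_inj : Function.Injective io := Dbl.io_inj injective

/-- the inner test on codes -/
theorem V_mem (c : ℕ) : gd.V c ∈ G0 ↔ appF gT 6 63 c 0 < 122760 := Dbl.V_mem hσ (by decide) gd c

theorem V_in {c : ℕ} (h : Nat.blt (appF gT 6 63 c 0) 122760 = true) : gd.V c ∈ G0 :=
  (V_mem c).2 (by simpa using h)

theorem V_out {c : ℕ} (h : Nat.ble 122760 (appF gT 6 63 c 0) = true) : gd.V c ∉ G0 := fun e =>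
  absurd ((V_mem c).1 e) (by simpa using h)

theorem z_mem : z ∈ G0 := z_eq ▸ Dbl.io_mem _

theorem so_not : so ∉ G0 := so_eq ▸ Dbl.so_not hσ (by decide)

theorem so_so : so * so = 1 := so_eq ▸ Dbl.so_so

theorem cases_Om (x : Om) : x ∈ G0 ∨ x * so ∈ G0 :=
  (em _).imp id fun h => idx x trivial so trivial h so_not

end Cfsg.Lib.StdX.ON
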