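import Cfsg.Agent.StdX.OND
import Cfsg.Agent.StdX.VGen
import Cfsg.Agent.SporChar.ONCent

/-!
# The centraliser of the central involution in the automorphism group of the O'Nan group
-/

set_option autoImplicit false
set_option maxRecDepth 100000
set_option Elab.async false

namespace Cfsg.Lib.StdX

section Pc

open Subgroup Cfsg.Lib.Spor Cfsg.Lib.Spor.WM Cfsg.Lib.Known Cfsg.Lib.Known.PC Cfsg.Lib.Gold

theorem card_sup_le_two {G : Type*} [Group G] [Finite G] {H : Subgroup G} {a : G} (h : a ∈ Ns H)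
    (h2 : a * a ∈ H) : Nat.card ↥(zpowers a ⊔ H) ≤ 2 * Nat.card H := by
  have k : ∀ x, x ∈ H ↔ a * x * a⁻¹ ∈ H := mem_normalizer_iff.1 h
  have k' : ∀ x, x ∈ H → a⁻¹ * x * a ∈ H := fun x hx => (k _).2 (by simpa [mul_assoc] using hx)
  let K : Subgroup G :=
    { carrier := {x | x ∈ H ∨ a⁻¹ * x ∈ H}
      one_mem' := Or.inl H.one_mem
      mul_mem' := by
        rintro x y (hx | hx) (hy | hy)
        · exact Or.inl (H.mul_mem hx hy)
        · exact Or.inr (by simpa [mul_assoc] using H.mul_mem (k' x hx) hy)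
        · exact Or.inr (by simpa [mul_assoc] using H.mul_mem hx hy)
        · exact Or.inl (by simpa [mul_assoc] using H.mul_mem (H.mul_mem h2 (k' _ hx)) hy)
      inv_mem' := by
        rintro x (hx | hx)
        · exact Or.inl (H.inv_mem hx)
        · exact Or.inr (by simpa [mul_assoc] using H.mul_mem (k' _ (H.inv_mem hx)) (H.inv_mem h2)) }
  have le : zpowers a ⊔ H ≤ K := sup_le (zpowers_le.2 (Or.inr (by simp))) fun x hx => Or.inl hx
  refine (card_le_of_le le).trans ?_
  rw [two_mul, ← Nat.card_sum]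
  refine Nat.card_le_card_of_surjective (Sum.elim (fun x : H => (⟨x, Or.inl x.2⟩ : K))
    fun x : H => ⟨a * x, Or.inr (by simp)⟩) ?_
  rintro ⟨x, hx | hx⟩
  · exact ⟨.inl ⟨x, hx⟩, rfl⟩
  · exact ⟨.inr ⟨_, hx⟩, Subtype.ext (by simp)⟩

theorem gn_cons {G : Type*} [Group G] (g : ℕ → G) (a : ℕ) (I : List ℕ) :
    gn g (a :: I) = zpowers (g a) ⊔ gn g I :=
  le_antisymm (gn_le (List.forall_mem_cons.2 ⟨mem_sup_left (mem_zpowers _),
    fun _ h => mem_sup_right (mem_gn g h)⟩))
    (sup_le (zpowers_le.2 (mem_gn g List.mem_cons_self)) (gn_le fun _ h => mem_gn g (List.mem_cons_of_mem _ h)))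

/-- the codes `xs` are the words `Ls` in the codes `cs` and their inverses -/
noncomputable def insB (T : FT) (b m : ℕ) (base : List ℕ) (ι : ℕ → ℕ) (cs xs : List ℕ) :
    List (List ℕ) → Bool :=
  List.rec (fun _ => true) (fun x _ ih Ls => List.rec false
    (fun L Ls _ => band (eqvF T b m base x (wdC ι b m cs L)) (ih Ls)) Ls) xs

/-- a polycyclic series with factors of order at most two -/
noncomputable def pcB (T : FT) (b m : ℕ) (base : List ℕ) (ι : ℕ → ℕ) (cs : List ℕ) :
    List (List (List ℕ)) → Bool :=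
  List.rec (fun _ => true) (fun a cs ih C => List.rec false
    (fun Ls C _ => band (insB T b m base ι cs
      (mulF b a a :: cs.map fun c => mulF b (mulF b a c) (invF ι b m a)) Ls) (ih C)) C) cs

variable {G : Type} [Group G] {n : ℕ} {ρ : G →* Equiv.Perm (Fin n)} {T : FT} {b m : ℕ} {base : List ℕ}
  (h : Good ρ T b m base) {ι : ℕ → ℕ} (hι : invB T b m base ι = true)
include hι

theorem mem_of_insB {cs xs : List ℕ} {Ls : List (List ℕ)} (e : insB T b m base ι cs xs Ls = true) :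
    ∀ x ∈ xs, h.V x ∈ gn h.V cs := by
  induction xs generalizing Ls with
  | nil => exact fun _ k => nomatch k
  | cons x xs ih =>
    cases Ls with
    | nil => exact nomatch e
    | cons L Ls =>
      obtain ⟨e1, e2⟩ := band_iff.1 (show band (eqvF T b m base x (wdC ι b m cs L))
        (insB T b m base ι cs xs Ls) = true from e)
      exact List.forall_mem_cons.2 ⟨h.eq_of_eqvF e1 ▸ wdC_mem h hι (fun _ k => mem_gn _ k) L, ih e2⟩

theorem card_le_of_pcB [Finite G] {cs : List ℕ} {C : List (List (List ℕ))}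
    (e : pcB T b m base ι cs C = true) : Nat.card (gn h.V cs) ≤ 2 ^ cs.length := by
  induction cs generalizing C with
  | nil =>
    rw [show gn h.V [] = ⊥ from le_bot_iff.1 (gn_le fun _ k => nomatch k)]
    simp
  | cons a cs ih =>
    cases C with
    | nil => exact nomatch e
    | cons Ls C =>
      obtain ⟨e1, e2⟩ := band_iff.1 (show band (insB T b m base ι cs
        (mulF b a a :: cs.map fun c => mulF b (mulF b a c) (invF ι b m a)) Ls)
        (pcB T b m base ι cs C) = true from e)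
      have k := List.forall_mem_cons.1 (mem_of_insB h hι e1)
      rw [gn_cons, List.length_cons, pow_succ']
      refine (card_sup_le_two (mem_Ns_gn fun l hl => ?_) (V_mulF h a a ▸ k.1)).trans
        (Nat.mul_le_mul_left _ (ih e2))
      have := k.2 _ (List.mem_map_of_mem hl)
      rwa [V_mulF, V_mulF, h.V_invF hι] at this

end Pc

namespace ON

open Subgroup Cfsg.Lib.Spor Cfsg.Lib.Spor.ONP Cfsg.Lib.Spor.WM Cfsg.Lib.Known
open Cfsg.Lib.Known.PC Cfsg.Lib.Gold
open Cfsg.Lib.Spor.Bulk (wv ltB lt_of_ltB wv_mem wv_append)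

theorem hb : ∀ p ∈ base, p < 122760 + 122760 := by decide

/-- all letters of the words lie in `I` -/
noncomputable def lets (I : List ℕ) (Ws : List (List ℕ)) : Bool :=
  band (lall (fun l => Nat.blt l 64) I) (lall (fun W => lall (fun l => lany (Nat.beq l) I) W) Ws)

theorem V_lt {l : ℕ} (hl : l < 64) : gd.V l = gd.lt l := gd.R_letter (by omega) (gd.acts_lt l)

theorem V_lets {I cs : List ℕ} (Ws : List (List ℕ)) (e : cs = Ws.map (pack 6)) (h : lets I Ws = true) :
    ∀ c ∈ cs, gd.V c ∈ gn gd.V I := by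
  subst e
  simp only [lets, band_iff, lall_iff, Nat.blt_eq] at h
  intro c hc
  obtain ⟨W, hW, rfl⟩ := List.mem_map.1 hc
  have k : ∀ l ∈ W, l ∈ I := fun l hl =>
    let ⟨_, a, b⟩ := lany_spec (h.2 W hW l hl)
    Nat.eq_of_beq_eq_true b ▸ a
  rw [show gd.V (pack 6 W) = wv gd.lt W from gd.R_pack (k := 64) (by decide) (fun l _ => gd.acts_lt l)
    fun l hl => h.1 l (k l hl)]
  exact wv_mem _ fun l hl => V_lt (h.1 l (k l hl)) ▸ mem_gn gd.V (k l hl)

/-- strong generators of the centraliser of `z` -/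
def czs : List ℕ := [11,15,9,238867406,222094285,62349,16294659021,16327439180,204268236,905419736012,4284606999491469,10]
/-- levels of the chain of the centraliser of `z` -/
def czl : List ILev := [⟨297, 0, 0, 15, [0,1,2]⟩, ⟨1488, 0, 0, 3, [3,4,5]⟩, ⟨577, 0, 0, 2, [6,7,8,9]⟩, ⟨529, 0, 0, 1, [10]⟩, ⟨10, 0, 0, 1, [11]⟩]
/-- strong generators of the centraliser of `z` in the simple group -/
def c0s : List ℕ := [15,13,11,222094285,54159,205304780,62349,16327439180,16294659021,204268236,4284606999491469,10]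
/-- levels of the chain of the centraliser of `z` in the simple group -/
def c0l : List ILev := [⟨297, 0, 0, 8, [0,1,2]⟩, ⟨1488, 0, 0, 3, [3,4,5,6]⟩, ⟨577, 0, 0, 3, [7,8,9]⟩, ⟨529, 0, 0, 1, [10]⟩, ⟨10, 0, 0, 1, [11]⟩]
/-- strong generators of the Sylow subgroup `T` -/
def tts : List ℕ := [11,12,13,204268236,237614095538369291,187749131,10]
/-- levels of the chain of the Sylow subgroup `T` -/
def ttl : List ILev := [⟨297, 0, 0, 7, [0,1,2]⟩, ⟨529, 0, 0, 1, [3,4,5]⟩, ⟨10, 0, 0, 1, [6]⟩]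
/-- strong generators of the Sylow subgroup `S` -/
def sss : List ℕ := [9,11,13,187749131,204268236,237614095538369291,10]
/-- levels of the chain of the Sylow subgroup `S` -/
def ssl : List ILev := [⟨297, 0, 0, 9, [0,1,2]⟩, ⟨529, 0, 0, 1, [3,4,5]⟩, ⟨10, 0, 0, 1, [6]⟩]

@[inherit_doc czs] abbrev cys : List ℕ := czs
@[inherit_doc czl] abbrev cyl : List ILev := czl

theorem cz_build : ops.build czs 322560 czl = true := by decide +kernel
theorem c0_build : ops.build c0s 161280 c0l = true := by decide +kernel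
theorem tt_build : ops.build tts 512 ttl = true := by decide +kernel
theorem ss_build : ops.build sss 1024 ssl = true := by decide +kernel

theorem cz_in : ∀ c ∈ czs, gd.V c ∈ gn gd.V [9,10,11,12,13,14,15] :=
  V_lets [[11],[15],[9],[14,15,13,15,14],[13,15,14,15,13],[13,14,15],[13,15,12,15,11,15],[12,13,15,12,13,15],[12,11,14,11,12],[12,15,12,14,15,11,13],[13,14,15,13,14,15,13,14,15],[10]] (by decide +kernel) (by decide +kernel)

theorem c0_in : ∀ c ∈ c0s, gd.V c ∈ gn gd.V [10,11,12,13,14,15] :=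
  V_lets [[15],[13],[11],[13,15,14,15,13],[15,14,13],[12,15,11,15,12],[13,14,15],[12,13,15,12,13,15],[13,15,12,15,11,15],[12,11,14,11,12],[13,14,15,13,14,15,13,14,15],[10]] (by decide +kernel) (by decide +kernel)

theorem tt_in : ∀ c ∈ tts, gd.V c ∈ gn gd.V [10,11,12,13,14] :=
  V_lets [[11],[12],[13],[12,11,14,11,12],[11,12,11,12,14,11,12,11,12,13],[11,12,13,12,11],[10]] (by decide +kernel) (by decide +kernel)

theorem ss_in : ∀ c ∈ sss, gd.V c ∈ gn gd.V [9,10,11,12,13,14] :=
  V_lets [[9],[11],[13],[11,12,13,12,11],[12,11,14,11,12],[11,12,11,12,14,11,12,11,12,13],[10]] (by decide +kernel) (by decide +kernel)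

theorem le_card {K : Subgroup Om} {cs : List ℕ} (h : ∀ c ∈ cs, gd.V c ∈ K) {N : ℕ} {ls : List ILev}
    (e : ops.build cs N ls = true) : N ≤ Nat.card K :=
  has.le_card (fun c hc => ⟨_, h c hc, rfl⟩) e

/-- codes commuting with a code -/
theorem V_cen {cs : List ℕ} {a : ℕ} (e : lall (fun c => ops.cj c a a) cs = true) :
    ∀ c ∈ cs, gd.V c ∈ C1 (gd.V a) := fun c hc =>
  let ⟨_, k, r⟩ := in_cen has (gd.fm_in cs) (z := gd.V a) rfl e c hc
  (show gd.V c = _ from r) ▸ k

/-- inner codes -/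
theorem V_ins {cs : List ℕ} (e : lall (fun c => Nat.blt (appF gT 6 63 c 0) 122760) cs = true) :
    ∀ c ∈ cs, gd.V c ∈ G0 := fun c hc => V_in (lall_iff.1 e c hc)

theorem gn_le_cz : gn gd.V [9,10,11,12,13,14,15] ≤ C1 z := gn_le (V_cen (by decide +kernel))

theorem gn_le_c0 : gn gd.V [10,11,12,13,14,15] ≤ G0 ⊓ C1 z :=
  gn_le fun l hl => ⟨V_ins (by decide +kernel) l hl, V_cen (by decide +kernel) l hl⟩

/-- a Sylow 2-subgroup of the simple group -/
noncomputable abbrev T : Subgroup Om := gn gd.V [11,12,13,14]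
/-- a Sylow 2-subgroup of the automorphism group -/
noncomputable abbrev S : Subgroup Om := gn gd.V [9,11,12,13,14]

/-- a polycyclic sequence of `T` -/
def pcT : List ℕ := [13,54029,221295373,53965,12,49868,909,11,10]

theorem ins {cs xs : List ℕ} (Ls : List (List ℕ)) (e : insB gT 6 63 base ι cs xs Ls = true) :
    ∀ x ∈ xs, gd.V x ∈ gn gd.V cs := mem_of_insB gd hι e

theorem gn_mono {cs xs : List ℕ} (Ls : List (List ℕ)) (e : insB gT 6 63 base ι cs xs Ls = true) :
    gn gd.V xs ≤ gn gd.V cs := gn_le (ins Ls e)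

theorem gn10_le_T : gn gd.V [10,11,12,13,14] ≤ T :=
  gn_mono [[4,6,4,6],[0],[2],[4],[6]] (by decide +kernel)

theorem gn10_le_S : gn gd.V [9,10,11,12,13,14] ≤ S :=
  gn_mono [[0],[6,8,6,8],[2],[4],[6],[8]] (by decide +kernel)

theorem z_mem_T : z ∈ T := gn10_le_T (mem_gn _ List.mem_cons_self)

theorem T_le_S : T ≤ S := gn_le fun _ h => mem_gn _ (List.mem_cons_of_mem _ h)

theorem tts_mem : ∀ c ∈ tts, gd.V c ∈ T := fun c hc => gn10_le_T (tt_in c hc)

theorem sss_mem : ∀ c ∈ sss, gd.V c ∈ S := fun c hc => gn10_le_S (ss_in c hc)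

theorem T_le_pc : T ≤ gn gd.V pcT := gn_mono [[14],[8],[0],[0,13]] (by decide +kernel)

theorem card_T : Nat.card T = 512 :=
  ((card_le_of_le T_le_pc).trans (card_le_of_pcB gd hι (C := [[[],[6],[8],[12],[0],[2],[11],[4],[14]],[[],[2],[0],[4,8],[6,12],[9],[10],[12]],[[],[0],[2,10],[4,7],[7],[7,8],[10]],[[],[0],[2,4],[5],[4,6],[8]],[[],[4],[3],[0],[6]],[[],[1],[2],[4]],[[2],[0,2],[2]],[[],[0]],[[]]])
    (by decide +kernel))).antisymm (le_card tts_mem tt_build)

theorem T_eq_pc : T = gn gd.V pcT :=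
  eq_of_le_of_card_ge T_le_pc ((card_le_of_pcB gd hι (C := [[[],[6],[8],[12],[0],[2],[11],[4],[14]],[[],[2],[0],[4,8],[6,12],[9],[10],[12]],[[],[0],[2,10],[4,7],[7],[7,8],[10]],[[],[0],[2,4],[5],[4,6],[8]],[[],[4],[3],[0],[6]],[[],[1],[2],[4]],[[2],[0,2],[2]],[[],[0]],[[]]])
    (by decide +kernel)).trans card_T.ge)

theorem so_mem_Ns : so ∈ Ns T := mem_Ns_gn fun l hl => by
  have k := ins (cs := [11,12,13,14]) (xs := [11,12,13,14].map fun c => mulF 6 (mulF 6 9 c) (invF ι 6 63 9))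
    [[2],[0],[6],[4]] (by decide +kernel) _ (List.mem_map_of_mem hl)
  rwa [V_mulF, V_mulF, gd.V_invF hι] at k

theorem S_eq : S = zpowers so ⊔ T := gn_cons _ _ _

theorem card_S : Nat.card S = 1024 :=
  (S_eq ▸ (card_sup_le_two so_mem_Ns (so_so ▸ T.one_mem)).trans (by rw [card_T])).antisymm
    (le_card sss_mem ss_build)

theorem T_le_c0 : T ≤ G0 ⊓ C1 z :=
  (gn_le fun _ h => mem_gn _ (List.mem_cons_of_mem _ (List.mem_append_left [15] h))).trans gn_le_c0

theorem S_le_cz : S ≤ C1 z := gn_le (V_cen (by decide +kernel))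

theorem conj_z : wv g0 [2,8,4,5,4,3,2,4,3,4,5,4,3,2,6,7,2,1,3,4,3,2,5,8,4,3,2,8,5,4] * wv g0 wZ *
    (wv g0 [2,8,4,5,4,3,2,4,3,4,5,4,3,2,6,7,2,1,3,4,3,2,5,8,4,3,2,8,5,4])⁻¹ = g0 6 :=
  mul_inv_eq_iff_eq_mul.2 ((g_good.hasF g_inv).cj (R_w (by decide +kernel)) (R_w (by decide +kernel))
    (by simpa using R_w (W := [6]) (by decide +kernel)) (by decide +kernel))

theorem card_cen_conj {G : Type*} [Group G] (c a : G) :
    Nat.card (centralizer {c * a * c⁻¹}) = Nat.card (centralizer {a}) := by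
  refine (Nat.card_congr ((MulAut.conj c).toEquiv.subtypeEquiv fun x => ?_)).symm
  rw [mem_centralizer_singleton_iff, mem_centralizer_singleton_iff,
    ← (MulAut.conj c).injective.eq_iff, map_mul, map_mul]
  rfl

theorem card_cen_ON : Nat.card (centralizer {wv g0 wZ}) = 161280 := by
  have h0 : Nat.card (centralizer {wv g0 wZ}) = Nat.card (centralizer {g0 6}) := by
    rw [← conj_z, card_cen_conj]
  have h1 := h0.trans_lt ONT.card_cent_lt
  have h2 := card_dvd_of_le T_le_c0
  rw [z_eq, Dbl.card_inf_cen injective, card_T] at h2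
  obtain ⟨M, h, -⟩ := ONT.cext_j
  have e0 := ONT.eq_jW _ List.mem_cons_self
  simp only [wv_append, Bulk.wv_cons, Bulk.wv_nil, one_mul] at e0
  have h3 := card_dvd_of_le (show M ≤ centralizer {g0 6} from fun x hx => mem_centralizer_singleton_iff.2
    (e0 ▸ (show Commute x _ from h.cent x hx).mul_right (h.cent x hx)))
  rw [h.card, MP.card_M21, ← h0] at h3
  obtain ⟨k, hk⟩ : 161280 ∣ _ := Nat.lcm_dvd h2 ((dvd_mul_left _ _).trans h3)
  have := Nat.card_pos (α := centralizer {wv g0 wZ})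
  omega

theorem card_c0 : Nat.card ↥(G0 ⊓ C1 z) = 161280 := by
  rw [z_eq, Dbl.card_inf_cen injective, card_cen_ON]

theorem card_cz_le : Nat.card (centralizer {gd.V 10}) ≤ 322560 := by
  have := Dbl.card_cen_le hσ (by decide) injective (wv g0 wZ)
  rw [card_cen_ON, ← z_eq] at this
  exact this

theorem cz_eq : C1 z = gn gd.V [9,10,11,12,13,14,15] :=
  (eq_of_le_of_card_ge gn_le_cz (card_cz_le.trans (le_card cz_in cz_build))).symm

theorem c0_eq : G0 ⊓ C1 z = gn gd.V [10,11,12,13,14,15] :=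
  (eq_of_le_of_card_ge gn_le_c0 (card_c0.le.trans (le_card c0_in c0_build))).symm

theorem card_cz : Nat.card (centralizer {z}) = 322560 :=
  card_cz_le.antisymm (le_card (fun c hc => gn_le_cz (cz_in c hc)) cz_build)

theorem czs_mem : ∀ c ∈ czs, gd.V c ∈ C1 z := fun c hc => gn_le_cz (cz_in c hc)

theorem c0s_mem : ∀ c ∈ c0s, gd.V c ∈ G0 ⊓ C1 z := fun c hc => gn_le_c0 (c0_in c hc)

end ON

end Cfsg.Lib.StdX
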