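import Cfsg.Agent.StdX.Defs2
import Cfsg.Agent.StdM.EndC

/-!
# Standard subgroups with two classes of involutions: the product Sylow subgroup, first part
-/

set_option autoImplicit false

namespace Cfsg.Lib.StdX

open Subgroup Cfsg.Lib.Gold Cfsg.Lib.Trans Cfsg.Lib.StdSz Cfsg.Lib.StdW
open Cfsg.Lib.StdM (Cl Tr)
open scoped commutatorElement
open StdW.EndC (ctrl)
open StdM.EndC (cmm_mul)

variable {G Ω : Type*} [Group G] [Group Ω]

namespace PQ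

variable {B T B' T' M : Subgroup G} {z z' y y' t : G} {n N : ℕ}

section one

variable (h : PQ B T B' T' z y n N)
include h

theorem twoT : IsPGroup 2 T := IsPGroup.of_card h.cardT

theorem rep {a : G} (ha : a ∈ T) (a2 : a * a = 1) :
    ∃ l ∈ B, ∃ s, (s = 1 ∨ s = z ∨ s = y) ∧ l * a * l⁻¹ = s := by
  rcases h.cls a ha a2 with e | ⟨l, hl, e⟩ | ⟨l, hl, e⟩
  · exact ⟨1, one_mem _, 1, Or.inl rfl, by simp [e]⟩
  · exact ⟨l⁻¹, inv_mem hl, z, Or.inr (Or.inl rfl), by rw [← e]; group⟩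
  · exact ⟨l⁻¹, inv_mem hl, y, Or.inr (Or.inr rfl), by rw [← e]; group⟩

theorem rep_mem {s : G} (hs : s = 1 ∨ s = z ∨ s = y) : s ∈ T := by
  rcases hs with rfl | rfl | rfl
  exacts [one_mem _, h.zT, h.yT]

theorem comm {a b : G} (ha : a ∈ T) (hb : b ∈ T') : Commute a b :=
  h.commB a (h.TB ha) b (h.T'B' hb)

theorem le_Cs : T' ≤ Cs T := fun b hb => StdSz.mem_Cs.2 fun a ha => (h.comm ha hb).symm

theorem mem_S {x : G} : x ∈ T ⊔ T' ↔ ∃ a ∈ T, ∃ b ∈ T', a * b = x :=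
  Solv.mem_sup_of_le_normalizer (h.le_Cs.trans (StdJ4.Cs_le_Ns T))

theorem eq_one {a b : G} (ha : a ∈ T) (hb : b ∈ T') (e : a * b = 1) : a = 1 ∧ b = 1 := by
  have h1 := h.disj a ha (eq_inv_of_mul_eq_one_left e ▸ inv_mem hb)
  exact ⟨h1, by simpa [h1] using e⟩

theorem right_eq_one {a b : G} (ha : a ∈ T) (hb : b ∈ T') (e : a * b ∈ T) : b = 1 :=
  h.disj b ((mul_mem_cancel_left ha).1 e) hb

theorem sq {a b : G} (ha : a ∈ T) (hb : b ∈ T') : a * b * (a * b) = a * a * (b * b) :=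
  (h.comm ha hb).symm.mul_mul_mul_comm a b ▸ rfl

theorem z_Cs : z ∈ Cs (T ⊔ T') := StdSz.mem_Cs.2 fun s hs => by
  obtain ⟨a, ha, b, hb, rfl⟩ := h.mem_S.1 hs
  exact (StdSz.mem_Cs.1 h.zc a ha).mul_right (h.comm h.zT hb)

theorem S_le_Ns : T ⊔ T' ≤ Ns T := sup_le le_normalizer (h.le_Cs.trans (StdJ4.Cs_le_Ns T))

theorem cm {u u' v v' : G} (hu : u ∈ T) (hu' : u' ∈ T') (hv : v ∈ T) (hv' : v' ∈ T') :
    ⁅u * u', v * v'⁆ = ⁅u, v⁆ * ⁅u', v'⁆ :=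
  cmm_mul (h.comm hu hv') (h.comm hv hu').symm (h.comm hu hu') (h.comm hv hv')

/-- commuting elements have commuting components -/
theorem comm_comp {u u' v v' : G} (hu : u ∈ T) (hu' : u' ∈ T') (hv : v ∈ T) (hv' : v' ∈ T')
    (e : Commute (u * u') (v * v')) : Commute u v ∧ Commute u' v' := by
  have := commutatorElement_eq_one_iff_commute.2 e
  rw [h.cm hu hu' hv hv'] at this
  exact (h.eq_one (commutator_le_self T (commutator_mem_commutator hu hv))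
    (commutator_le_self T' (commutator_mem_commutator hu' hv')) this).imp
    commutatorElement_eq_one_iff_commute.1 commutatorElement_eq_one_iff_commute.1

/-- a nontrivial normal subgroup of `T` contains `z` -/
theorem z_mem [Finite G] {U : Subgroup G} (h1 : U ≤ T) (h2 : T ≤ Ns U) : U = ⊥ ∨ z ∈ U := by
  have : Fact (Nat.Prime 2) := ⟨Nat.prime_two⟩
  refine or_iff_not_imp_left.2 fun e => ?_
  obtain ⟨u, hu, u1, u2⟩ := Solv.PG.exists_not_mem_commutator_mem (H := ⊥) h.twoT.isNilpotent h1 h2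
    (mt le_bot_iff.1 e)
  rcases h.cent u (h1 hu) (StdSz.mem_Cs.2 fun a ha =>
    commutatorElement_eq_one_iff_commute.1 (mem_bot.1 (u2 a ha).1)) with rfl | rfl
  exacts [absurd (one_mem _) u1, hu]

theorem z_mem_cj [Finite G] {k : G} {U : Subgroup G} (e : cj k T ≤ Ns U) :
    U ⊓ cj k T = ⊥ ∨ k * z * k⁻¹ ∈ U := by
  rcases h.z_mem (U := T ⊓ cj k⁻¹ U) inf_le_left (fun a ha => mem_normalizer_of_cj_le
    (cj_le_iff.2 fun x hx => ⟨T.mul_mem (T.mul_mem ha hx.1) (T.inv_mem ha), mem_cj_inv.2 (by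
      have := mem_normalizer_conj (cj_le_iff.1 e a ha) (mem_cj_inv.1 hx.2)
      rwa [show k * a * k⁻¹ * (k * x * k⁻¹) * (k * a * k⁻¹)⁻¹ = k * (a * x * a⁻¹) * k⁻¹ by group]
        at this)⟩)) with h1 | h1
  · refine Or.inl (eq_bot_iff.2 fun x hx => ?_)
    have := mem_bot.1 (h1.le (x := k⁻¹ * x * k) ⟨mem_cj.1 hx.2, mem_cj_inv.2 (by simpa [mul_assoc] using hx.1)⟩)
    exact mem_bot.2 (by simpa [mul_assoc] using congrArg (fun x => k * x * k⁻¹) this)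
  · exact Or.inr (mem_cj_inv.1 h1.2)

end one

section two

variable [Finite G] (h : PQ B T B' T' z y n N) (h' : PQ B' T' B T z' y' n N)
include h h'

omit [Finite G] in
theorem two_S : IsPGroup 2 (T ⊔ T' : Subgroup G) :=
  h.twoT.to_sup_of_normal_left' h'.twoT (h.le_Cs.trans (StdJ4.Cs_le_Ns T))

/-- a complement of `T'` projects onto `T` -/
theorem cen_proj {H : Subgroup G} (hH : H ≤ T ⊔ T') (hc : Nat.card H = 2 ^ n) (hd : T' ⊓ H = ⊥)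
    {c d : G} (h1 : c ∈ T) (h2 : d ∈ T') (h3 : c * d ∈ Cs H) : c = 1 ∨ c = z := by
  have hN : H ≤ Ns T' := hH.trans (sup_comm T' T ▸ h'.S_le_Ns)
  have e : T' ⊔ H = T ⊔ T' := Subgroup.eq_of_le_of_card_ge (sup_le le_sup_right hH) (by
    rw [Solv.card_sup_of_disjoint_of_le_normalizer hN hd,
      Solv.card_sup_of_disjoint_of_le_normalizer (h.le_Cs.trans (StdJ4.Cs_le_Ns T))
      (eq_bot_iff.2 fun a ha => h.disj a ha.1 ha.2), h.cardT, h'.cardT, hc])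
  refine h.cent c h1 (StdSz.mem_Cs.2 fun a ha => ?_)
  obtain ⟨b, hb, x, hx, e1⟩ := (Solv.mem_sup_of_le_normalizer hN).1 (e.ge (mem_sup_left ha))
  refine (h.comm_comp h1 h2 ha (inv_mem hb) ?_).1
  rw [(h.comm ha (inv_mem hb)).eq, ← e1, inv_mul_cancel_left]
  exact StdSz.mem_Cs.1 h3 x hx

theorem not_prod {m : G} (hn : m ∈ Ns (T ⊔ T')) : m * z * m⁻¹ ≠ z * z' := fun e => by
  have : Fact (Nat.Prime 2) := ⟨Nat.prime_two⟩
  have hz : ∀ {x : G}, x ∈ zpowers z → x = 1 ∨ x = z := fun hx =>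
    h.cent _ (zpowers_le.2 h.zT hx) (zpowers_le.2 h.zc hx)
  obtain ⟨u, hu, u1, u2⟩ := Solv.PG.exists_not_mem_commutator_mem (S := T) (N := T)
    (H := zpowers z) h.twoT.isNilpotent le_rfl le_normalizer fun hle => by
      have := Subgroup.card_le_of_le hle
      rw [h.cardT, Nat.card_zpowers, orderOf_eq_prime (by rw [pow_two, h.z2]) h.z1] at this
      have h4 := Nat.pow_le_pow_right (n := 2) (by norm_num) h.n2
      omega
  have key : ∀ s ∈ T ⊔ T', ⁅m * u * m⁻¹, s⁆ = 1 ∨ ⁅m * u * m⁻¹, s⁆ = z * z' := fun s hs => by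
    obtain ⟨a, ha, b, hb, e1⟩ := h.mem_S.1 (mem_normalizer_conj' hn hs)
    have e2 : ⁅m * u * m⁻¹, s⁆ = m * ⁅u, a⁆ * m⁻¹ := by
      rw [show s = m * (a * b) * m⁻¹ by rw [e1]; group, StdSz.conj_comm, commutatorElement_def,
        commutatorElement_def, mul_assoc (u * (a * b)), ← mul_inv_rev, mul_assoc a b u,
        ← (h.comm hu hb).eq]
      group
    rcases hz (u2 a ha).1 with e3 | e3
    · exact Or.inl (by rw [e2, e3]; group)
    · exact Or.inr (by rw [e2, e3, e])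
  obtain ⟨a, ha, b, hb, e1⟩ := h.mem_S.1 (mem_normalizer_conj hn (mem_sup_left hu))
  have k1 : ∀ s ∈ T, Commute (a * b) s := fun s hs => by
    have e2 : ⁅a * b, s⁆ = ⁅a, s⁆ := by
      rw [commutatorElement_def, commutatorElement_def, mul_assoc a, ← (h.comm hs hb).eq]; group
    rcases key s (mem_sup_left hs) with e3 | e3
    · exact commutatorElement_eq_one_iff_commute.1 (e1 ▸ e3)
    · rw [← e1, e2] at e3
      exact absurd (h.right_eq_one h.zT h'.zT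
        (e3 ▸ commutator_le_self T (commutator_mem_commutator ha hs))) h'.z1
  have k2 : ∀ s ∈ T', Commute (a * b) s := fun s hs => by
    have e2 : ⁅a * b, s⁆ = ⁅b, s⁆ := by
      rw [(h.comm ha hb).eq, commutatorElement_def, commutatorElement_def, mul_assoc b,
        (h.comm ha hs).eq]; group
    rcases key s (mem_sup_right hs) with e3 | e3
    · exact commutatorElement_eq_one_iff_commute.1 (e1 ▸ e3)
    · rw [← e1, e2, (h.comm h.zT h'.zT).eq] at e3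
      exact absurd (h'.right_eq_one h'.zT h.zT
        (e3 ▸ commutator_le_self T' (commutator_mem_commutator hb hs))) h.z1
  have k3 : u ∈ Cs T := StdSz.mem_Cs.2 fun s hs => by
    obtain ⟨a', ha', b', hb', e2⟩ := h.mem_S.1 (mem_normalizer_conj hn (mem_sup_left hs))
    have := commute_conj ((k1 a' ha').mul_right (k2 b' hb')) m⁻¹
    rw [e1, e2] at this
    simpa [mul_assoc] using this
  rcases h.cent u hu k3 with rfl | rfl
  exacts [u1 (one_mem _), u1 (mem_zpowers _)]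

variable (hS : IsSylowIn 2 (T ⊔ T') M)
include hS

theorem ctrlS {g d : G} (hg : g ∈ M) (hd : d ∈ Cs (T ⊔ T')) (hgd : g * d * g⁻¹ ∈ Cs (T ⊔ T')) :
    ∃ m ∈ M, m ∈ Ns (T ⊔ T') ∧ m * d * m⁻¹ = g * d * g⁻¹ :=
  ctrl hS le_rfl (fun k _ hk => Subgroup.eq_of_le_of_card_ge hk (card_cj k _).ge) hg hd hgd

theorem not_conj1 {g : G} (hg : g ∈ M) : g * z * g⁻¹ ≠ z' := fun e => by
  have : Fact (Nat.Prime 2) := ⟨Nat.prime_two⟩
  have zc := h.z_Cs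
  have zc' : z' ∈ Cs (T ⊔ T') := sup_comm T' T ▸ h'.z_Cs
  obtain ⟨m, n1, n2, n3⟩ := h.ctrlS h' hS hg zc (e ▸ zc')
  rw [e] at n3
  have zz : z ≠ z' := fun e => h.z1 (h.disj z h.zT (e ▸ h'.zT))
  have n4 : m * z' * m⁻¹ = z := by
    obtain ⟨a, ha, b, hb, e1⟩ := h.mem_S.1 (mem_normalizer_conj n2 (mem_sup_right h'.zT))
    have c1 : a * b ∈ Cs (T ⊔ T') := e1 ▸ mem_normalizer_conj
      (normalizer_le_normalizer_centralizer _ n2) zc'
    have c2 : a ∈ Cs T := (mul_mem_cancel_right (h.le_Cs hb)).1 (StdJ4.Cs_anti le_sup_left c1)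
    have c3 : b ∈ Cs T' := (mul_mem_cancel_left (h'.le_Cs ha)).1 (StdJ4.Cs_anti le_sup_right c1)
    rcases h.cent a ha c2 with rfl | rfl <;> rcases h'.cent b hb c3 with rfl | rfl
    · exact absurd (conj_eq_one_iff.1 (e1.symm.trans (one_mul 1))) h'.z1
    · exact absurd (mul_left_cancel (mul_right_cancel (n3.trans ((one_mul _).symm.trans e1)))) zz
    · rw [← e1, mul_one]
    · exact absurd (e1.symm.trans (h.comm ha hb).eq) (h'.not_prod h (sup_comm T T' ▸ n2))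
  obtain ⟨k, _, ⟨j, rfl⟩, e1⟩ := Nat.exists_eq_two_pow_mul_odd (orderOf_pos m).ne'
  have p1 : (m ^ (2 * j + 1)) ^ 2 ^ k = 1 := by rw [← pow_mul, mul_comm, ← e1, pow_orderOf_eq_one]
  have p2 : m ^ (2 * j + 1) ∈ T ⊔ T' := (hS.eq_of_le ((h.two_S h').to_sup_of_normal_left'
    (two_zpowers p1) (zpowers_le.2 (pow_mem n2 _))) le_sup_left
    (sup_le hS.le (zpowers_le.2 (pow_mem n1 _)))).le (mem_sup_right (mem_zpowers _))
  have p3 : Commute (m ^ 2) z' := commute_of_conj_eq (by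
    rw [pow_two, show m * m * z' * (m * m)⁻¹ = m * (m * z' * m⁻¹) * m⁻¹ by group, n4, n3])
  have p4 := conj_eq_of_commute (StdSz.mem_Cs.1 zc _ p2).symm
  rw [pow_succ, pow_mul, show (m ^ 2) ^ j * m * z * ((m ^ 2) ^ j * m)⁻¹ =
    (m ^ 2) ^ j * (m * z * m⁻¹) * ((m ^ 2) ^ j)⁻¹ by group, n3,
    conj_eq_of_commute (p3.pow_left j)] at p4
  exact zz p4.symm

theorem not_conj_prod {g : G} (hg : g ∈ M) : g * z * g⁻¹ ≠ z * z' := fun e => by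
  have zc := h.z_Cs
  have zc' : z' ∈ Cs (T ⊔ T') := sup_comm T' T ▸ h'.z_Cs
  obtain ⟨m, -, n2, n3⟩ := h.ctrlS h' hS hg zc (e ▸ mul_mem zc zc')
  exact h.not_prod h' n2 (n3.trans e)

theorem not_conj {g : G} (hg : g ∈ M) : g * z * g⁻¹ ≠ z' ∧ g * z * g⁻¹ ≠ z * z' :=
  ⟨h.not_conj1 h' hS hg, h.not_conj_prod h' hS hg⟩

theorem pull {k : G} (hk : k ∈ M) (e : cj k (T ⊔ T' ⊓ C1 y') ≤ T ⊔ T') :
    k * z * k⁻¹ = z ∧ k * y' * k⁻¹ ∈ T' := by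
  have hH : cj k T ≤ T ⊔ T' := (cj_mono k le_sup_left).trans e
  have hc : Nat.card (cj k T) = 2 ^ n := (card_cj k T).trans h.cardT
  have zc : k * z * k⁻¹ ∈ Cs (cj k T) := by rw [← StdJ4.cj_Cs]; exact conj_mem_cj.2 h.zc
  have k1 : ∀ {a}, k * a * k⁻¹ = 1 → a = 1 := conj_eq_one_iff.1
  obtain ⟨c, hc1, d, hd, e1⟩ := h.mem_S.1 (hH (conj_mem_cj.2 h.zT))
  have p2 : T ⊓ cj k T = ⊥ → d = 1 ∨ d = z' := fun e2 =>
    h'.cen_proj h (sup_comm T T' ▸ hH) hc e2 hd hc1 (by rw [← (h.comm hc1 hd).eq, e1]; exact zc)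
  obtain ⟨n1, n2⟩ := h.not_conj h' hS hk
  have hd' : T' ⊓ cj k T = ⊥ := by
    refine (h.z_mem_cj (hH.trans (sup_comm T' T ▸ h'.S_le_Ns))).resolve_right fun e2 => ?_
    have c1 : c = 1 := h.disj c hc1 ((mul_mem_cancel_right hd).1 (e1 ▸ e2))
    rw [c1, one_mul] at e1
    rcases h.z_mem_cj (hH.trans h.S_le_Ns) with e3 | e3
    · rcases p2 e3 with e4 | e4
      · exact h.z1 (k1 (e1.symm.trans e4))
      · exact n1 (e1.symm.trans e4)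
    · exact h.z1 (k1 (h.disj _ e3 e2))
  have c1 : c = z := (h.cen_proj h' hH hc hd' hc1 hd (e1 ▸ zc)).resolve_left fun c1 => by
    rw [c1, one_mul] at e1
    exact h.z1 (k1 (mem_bot.1 (hd'.le ⟨e1 ▸ hd, conj_mem_cj.2 h.zT⟩)))
  have d1 : d = 1 := by
    rcases h.z_mem_cj (hH.trans h.S_le_Ns) with e3 | e3
    · exact (p2 e3).resolve_right fun e4 => n2 (by rw [← e1, c1, e4])
    · exact h.right_eq_one hc1 hd (e1 ▸ e3)
  refine ⟨by rw [← e1, c1, d1, mul_one], mem_cj_inv.1 (commutator_le.2 (fun r hr s hs => ?_) h'.yder)⟩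
  have key : ∀ r ∈ T' ⊓ C1 y', ∃ a ∈ T, a ∈ Cs T ∧ ∃ b ∈ T', a * b = k * r * k⁻¹ := fun r hr => by
    obtain ⟨a, ha, b, hb, e2⟩ := h.mem_S.1 (e (conj_mem_cj.2 (mem_sup_right hr)))
    refine ⟨a, ha, ?_, b, hb, e2⟩
    rcases h.cen_proj h' hH hc hd' ha hb (by
      rw [e2, ← StdJ4.cj_Cs]; exact conj_mem_cj.2 (h.le_Cs hr.1)) with rfl | rfl
    exacts [one_mem _, h.zc]
  obtain ⟨a, ha, a1, b, hb, e2⟩ := key r hr
  obtain ⟨a', ha', -, b', hb', e3⟩ := key s hs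
  rw [mem_cj_inv, ← StdSz.conj_comm, ← e2, ← e3, h.cm ha hb ha' hb',
    commutatorElement_eq_one_iff_commute.2 (StdSz.mem_Cs.1 a1 a' ha'), one_mul]
  exact commutator_le_self T' (commutator_mem_commutator hb hb')

omit h h' in
/-- extremal conjugation -/
theorem extr {c u g : G} (hc : c ∈ Cs (T ⊔ T')) (hg : g ∈ M) (e : g * c * g⁻¹ = u) {Q : Subgroup G}
    (hQ : IsPGroup 2 Q) (h1 : Q ≤ M) (h2 : Q ≤ C1 u) :
    ∃ k ∈ M, k * u * k⁻¹ = c ∧ cj k Q ≤ T ⊔ T' := by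
  have : Fact (Nat.Prime 2) := ⟨Nat.prime_two⟩
  obtain ⟨x, hx, h3⟩ := (hS.mono (K := M ⊓ C1 c) (le_inf hS.le fun s hs =>
    StdSz.mem_C1.2 (StdSz.mem_Cs.1 hc s hs).symm) inf_le_left).exists_cj_le
    (isPGroup_cj hQ g⁻¹) (le_inf (cj_le_of_mem_of_le (inv_mem hg) h1)
      (cj_le_iff.2 fun x hx => StdSz.mem_C1.2 (by
        have := commute_conj (StdSz.mem_C1.1 (h2 hx)) g⁻¹
        rwa [← e, show g⁻¹ * (g * c * g⁻¹) * g⁻¹⁻¹ = c by group] at this)))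
  rw [cj_cj] at h3
  refine ⟨x * g⁻¹, mul_mem hx.1 (inv_mem hg), ?_, h3⟩
  rw [← e, show x * g⁻¹ * (g * c * g⁻¹) * (x * g⁻¹)⁻¹ = x * c * x⁻¹ by group,
    conj_eq_of_commute (StdSz.mem_C1.1 hx.2)]

omit [Finite G] hS in
theorem le_C1 {a : G} (ha : a = 1 ∨ a = z) : T ⊔ T' ⊓ C1 y' ≤ C1 (a * y') := by
  have a1 : a ∈ T ∧ a ∈ Cs T := by
    rcases ha with rfl | rfl
    exacts [⟨one_mem _, one_mem _⟩, ⟨h.zT, h.zc⟩]
  exact sup_le (fun x hx => StdSz.mem_C1.2 ((StdSz.mem_Cs.1 a1.2 x hx).symm.mul_right (h.comm hx h'.yT)))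
    fun x hx => StdSz.mem_C1.2 ((h.comm a1.1 hx.1).symm.mul_right (StdSz.mem_C1.1 hx.2))

theorem gamma (ht : t ∈ Ns M) (e1 : t * z * t⁻¹ = z') (e2 : t * (y * y') * t⁻¹ = y * y') {g a b : G}
    (hg : g ∈ M) (ha : a = 1 ∨ a = z ∨ a = y) (hb : b = z' ∨ b = y') : g * z * g⁻¹ ≠ a * b := by
  intro e
  have hS' : IsSylowIn 2 (T' ⊔ T) M := sup_comm T T' ▸ hS
  have l1 : T ⊔ T' ⊓ C1 y' ≤ T ⊔ T' := sup_le_sup_left inf_le_left T
  have l2 : T' ⊔ T ⊓ C1 y ≤ T ⊔ T' := sup_comm T' T ▸ sup_le_sup_left inf_le_left T'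
  rcases or_assoc.2 ha with ha | rfl <;> rcases hb with rfl | rfl
  · rcases ha with rfl | rfl
    exacts [h.not_conj1 h' hS hg (e.trans (one_mul _)), h.not_conj_prod h' hS hg e]
  · obtain ⟨k, hk, k1, k2⟩ := extr hS h.z_Cs hg e (hS.isPGroup.to_le l1) (l1.trans hS.le)
      (h.le_C1 h' ha)
    obtain ⟨k3, k4⟩ := h.pull h' hS hk k2
    have k5 : k * a * k⁻¹ ∈ T := by
      rcases ha with rfl | rfl
      · simpa using one_mem T
      · exact k3.symm ▸ h.zT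
    rw [← conj_mul] at k1
    exact h'.y1 (conj_eq_one_iff.1 (h.right_eq_one k5 k4 (k1.symm ▸ h.zT)))
  · obtain ⟨k, hk, k1, k2⟩ := extr hS h.z_Cs hg e (hS.isPGroup.to_le l2) (l2.trans hS.le)
      ((h.comm h.yT h'.zT).eq ▸ h'.le_C1 h (Or.inr rfl))
    obtain ⟨k3, k4⟩ := h'.pull h hS' hk (sup_comm T T' ▸ k2)
    rw [← conj_mul, k3] at k1
    exact h'.z1 (h.right_eq_one k4 h'.zT (k1.symm ▸ h.zT))
  · refine h.not_conj1 h' hS (mul_mem (inv_mem (mem_normalizer_conj ht hg)) hg) ?_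
    calc _ = t * g⁻¹ * (t⁻¹ * (g * z * g⁻¹) * t) * g * t⁻¹ := by group
      _ = t * g⁻¹ * (g * z * g⁻¹) * g * t⁻¹ := by
        rw [e]; conv_lhs => rw [← e2]
        group
      _ = _ := by rw [← e1]; group

omit hS in
/-- normal form of an involution of the product -/
theorem norm (hB : B ≤ M) (hB' : B' ≤ M) {u : G} (hu : u ∈ T ⊔ T') (u2 : u * u = 1) :
    u ∈ T ∨ ∃ l ∈ M, ∃ a b, (a = 1 ∨ a = z ∨ a = y) ∧ (b = z' ∨ b = y') ∧ l * u * l⁻¹ = a * b := by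
  obtain ⟨a, ha, b, hb, rfl⟩ := h.mem_S.1 hu
  rw [h.sq ha hb] at u2
  obtain ⟨a2, b2⟩ := h.eq_one (mul_mem ha ha) (mul_mem hb hb) u2
  obtain ⟨l, hl, s, hs, l1⟩ := h.rep ha a2
  obtain ⟨k, hk, s', hs', k1⟩ := h'.rep hb b2
  rcases hs' with rfl | hs'
  · rw [conj_eq_one_iff.1 k1, mul_one]; exact Or.inl ha
  have sT' := h'.rep_mem (Or.inr hs')
  have k2 : k * a * k⁻¹ = a := conj_eq_of_commute (h'.commB k hk a (h.TB ha))
  have l2 : l * s' * l⁻¹ = s' := conj_eq_of_commute (h.commB l hl s' (h'.TB sT'))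
  refine Or.inr ⟨l * k, mul_mem (hB hl) (hB' hk), s, s', hs, hs', ?_⟩
  calc _ = l * (k * a * k⁻¹) * l⁻¹ * (l * (k * b * k⁻¹) * l⁻¹) := by group
    _ = _ := by rw [k2, k1, l1, l2]

theorem conj_z_mem (hB : B ≤ M) (hB' : B' ≤ M) (ht : t ∈ Ns M) (e1 : t * z * t⁻¹ = z')
    (e2 : t * (y * y') * t⁻¹ = y * y') {g : G} (hg : g ∈ M) (e : g * z * g⁻¹ ∈ T ⊔ T') :
    g * z * g⁻¹ ∈ T := by
  refine (h.norm h' hB hB' e (by rw [conj_sq, h.z2]; group)).resolve_right ?_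
  rintro ⟨l, hl, a, b, ha, hb, e3⟩
  exact h.gamma h' hS ht e1 e2 (mul_mem hl hg) ha hb (by rw [← e3]; group)

end two

end PQ

namespace PrA

variable [Finite G] {Γ Γ0 T0 : Subgroup Ω} {z0 y0 : Ω} {n : ℕ} {B : Subgroup G} {σ : G → Ω}

theorem half (b : Bas Γ Γ0 T0 z0 y0 n) (m : Mdl Γ Γ0 B σ) {T : Subgroup G} {z y : G}
    (mem : ∀ a, a ∈ T ↔ a ∈ B ∧ σ a ∈ T0 ∧ ∃ k, a ^ 2 ^ k = 1) (hc : Nat.card T = Nat.card T0)
    (sur : ∀ γ ∈ T0, ∃ a ∈ T, σ a = γ) (hz : z ∈ B) (z2 : z * z = 1) (ez : σ z = z0) (hy : y ∈ B)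
    (y2 : y * y = 1) (ey : σ y = y0) {B' T' : Subgroup G} (hB : ∀ a ∈ B, ∀ b ∈ B', Commute a b)
    (hT' : T' ≤ B') : PF B T B' T' z y n := by
  have hT : T ≤ B := fun a ha => ((mem a).1 ha).1
  have N : ∀ {a}, a ∈ T → a ∈ Ns B := fun ha => le_normalizer (hT ha)
  have sq1 : ∀ {a : G}, a * a = 1 → a ^ 2 ^ 1 = 1 := fun e => by rw [pow_one, pow_two, e]
  have pw : ∀ a ∈ T, ∃ k, a ^ 2 ^ k = 1 := fun a ha => ((mem a).1 ha).2.2
  have m0 : ∀ {a}, a ∈ T → σ a ∈ T0 := fun ha => ((mem _).1 ha).2.1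
  have inj : ∀ {a a'}, a ∈ T → a' ∈ T → σ a = σ a' → a = a' := fun ha ha' e =>
    let ⟨_, hk⟩ := pw _ ha
    let ⟨_, hl⟩ := pw _ ha'
    m.eq_of_two (hT ha) (hT ha') hk hl e
  have zT : z ∈ T := (mem z).2 ⟨hz, ez ▸ b.zT, 1, sq1 z2⟩
  have yT : y ∈ T := (mem y).2 ⟨hy, ey ▸ b.yT, 1, sq1 y2⟩
  have z1 : z ≠ 1 := fun e => b.z1 (by rw [← ez, e, m.one])
  have cm : ∀ {a a'}, a ∈ T → a' ∈ T → Commute (σ a) (σ a') → Commute a a' := fun ha ha' e =>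
    let ⟨_, hl⟩ := pw _ ha'
    m.comm_of (N ha) (hT ha') hl e
  have img : ∀ {U a}, U ≤ T → a ∈ T → σ a ∈ m.img U → a ∈ U := fun hU ha e =>
    let ⟨_, hx, _, e'⟩ := m.mem_img.1 e
    inj (hU hx) ha e' ▸ hx
  have clo : ∀ {X : Set G} {X0 : Set Ω}, X ⊆ T → (∀ γ ∈ X0, ∃ c ∈ X, σ c = γ) → ∀ a ∈ T,
      σ a ∈ closure X0 → a ∈ closure X := fun {X X0} h1 h2 a ha e =>
    img ((closure_le _).2 h1) ha ((closure_le (m.img (closure X))).2 (fun γ hγ =>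
      let ⟨c, hc, e'⟩ := h2 γ hγ
      m.mem_img.2 ⟨c, subset_closure hc, N (h1 hc), e'⟩) e)
  have der : ∀ {U : Subgroup G} {U0 : Subgroup Ω}, U ≤ T → (∀ γ ∈ U0, ∃ c ∈ U, σ c = γ) →
      ⁅U0, U0⁆ ≤ m.img ⁅U, U⁆ := fun hU h2 => commutator_le.2 fun γ hγ δ hδ => by
    obtain ⟨c, hc, rfl⟩ := h2 γ hγ
    obtain ⟨d, hd, rfl⟩ := h2 δ hδ
    exact m.mem_img.2 ⟨_, commutator_mem_commutator hc hd,
      N (commutator_le_self T (commutator_mem_commutator (hU hc) (hU hd))), m.comm (N (hU hc)) (N (hU hd))⟩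
  have der' : ∀ a ∈ ⁅T, T⁆, σ a ∈ ⁅T0, T0⁆ := fun a ha => by
    have h1 : ⁅T, T⁆ ≤ (⁅T0, T0⁆.comap m.hom).map (Ns B).subtype := commutator_le.2 fun c hc d hd =>
      ⟨⟨_, N (commutator_le_self T (commutator_mem_commutator hc hd))⟩, by
        change σ ⁅c, d⁆ ∈ ⁅T0, T0⁆
        rw [m.comm (N hc) (N hd)]
        exact commutator_mem_commutator (m0 hc) (m0 hd), rfl⟩
    obtain ⟨x, hx, rfl⟩ := h1 ha
    exact hx
  have surR : ∀ γ ∈ T0 ⊓ C1 y0, ∃ c ∈ T ⊓ C1 y, σ c = γ := fun γ hγ => by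
    obtain ⟨c, hc, rfl⟩ := sur γ hγ.1
    exact ⟨c, ⟨hc, StdSz.mem_C1.2 (cm hc yT (ey ▸ StdSz.mem_C1.1 hγ.2))⟩, rfl⟩
  have toR : ∀ {c}, c ∈ B → Commute c y → σ c ∈ C1 y0 := fun hc e =>
    StdSz.mem_C1.2 (ey ▸ m.commute (le_normalizer hc) (le_normalizer hy) e)
  have card : ∀ Q ≤ B, IsPGroup 2 Q → Nat.card Q = Nat.card (m.img Q) := fun Q hQ h2 => by
    rw [m.card_img (hQ.trans le_normalizer), show Q ⊓ Cs B = ⊥ from eq_bot_iff.2 fun a ha =>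
      let ⟨_, hk⟩ := h2 ⟨a, ha.1⟩
      m.eq_one (hQ ha.1) (congrArg Subtype.val hk) ha.2, card_bot, one_mul]
  have sq0 : ∀ {c}, c ∈ T → σ c * σ c = 1 → c * c = 1 := fun hc e =>
    inj (mul_mem hc hc) (one_mem _) (by rw [m.mul _ (N hc) _ (N hc), e, m.one])
  refine ⟨hT, hc.trans b.cardT, b.n9, hB, hT', fun a ha ha' => ?_, zT, z2, z1,
    StdSz.mem_Cs.2 fun a ha => cm zT ha (ez ▸ StdSz.mem_Cs.1 b.zc _ (m0 ha)), fun a ha hc => ?_, yT, y2,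
    fun e => b.y1 (by rw [← ey, e, m.one]), fun a ha a2 => ?_, fun a ha => ?_, fun a ha => ?_,
    img (commutator_le_self T) zT (ez ▸ der le_rfl sur b.zder), fun a ha c hc => ?_, ?_,
    fun Q hQ h2 => ?_, fun a ha => ?_,
    img ((commutator_le_self _).trans inf_le_left) yT (ey ▸ der inf_le_left surR b.yder), m.perf,
    fun e => z1 (m.eq_one hz (sq1 z2) e)⟩
  · obtain ⟨k, hk⟩ := pw a ha
    exact m.eq_one (hT ha) hk (StdSz.mem_Cs.2 fun c hc => (hB c hc a (hT' ha')).symm)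
  · have h1 : σ a ∈ Γ ⊓ Cs T0 := ⟨b.le (m.mem a (hT ha)), StdSz.mem_Cs.2 fun γ hγ => by
      obtain ⟨c, hc', rfl⟩ := sur γ hγ
      exact m.commute (N ha) (N hc') (StdSz.mem_Cs.1 hc c hc')⟩
    exact (b.mem_zp (b.centT h1)).imp (fun e => inj ha (one_mem _) (e.trans m.one.symm))
      fun e => inj ha zT (e.trans ez.symm)
  · exact (b.cls (σ a) (m.mem a (hT ha)) (by rw [← m.mul _ (N ha) _ (N ha), a2, m.one])).imp
      (fun e => inj ha (one_mem _) (e.trans m.one.symm)) (Or.imp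
        (fun e => Bas.cl_lift m hz (hT ha) z2 a2 (ez.symm ▸ e))
        fun e => Bas.cl_lift m hy (hT ha) y2 a2 (ey.symm ▸ e))
  · refine clo (fun _ h => h.1) (fun γ hγ => ?_) a ha (b.genT (m0 ha))
    obtain ⟨c, hc, rfl⟩ := sur γ hγ.1
    exact ⟨c, ⟨hc, sq0 hc hγ.2⟩, rfl⟩
  · refine clo (fun _ h => h.1) (fun γ hγ => ?_) a (commutator_le_self T ha) (b.derJ (der' a ha))
    obtain ⟨c, hc, rfl⟩ := sur γ hγ.1
    refine ⟨c, ⟨hc, Bas.cl_lift m hz (hT hc) z2 (sq0 hc ?_) (ez.symm ▸ hγ.2)⟩, rfl⟩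
    obtain ⟨d, -, e⟩ := hγ.2
    rw [← e, conj_sq, b.z2]; group
  · have k : ∀ a ∈ T ⊓ Cs ⁅T, T⁆, σ a ∈ T0 ⊓ Cs ⁅T0, T0⁆ := fun a ha =>
      ⟨m0 ha.1, StdSz.mem_Cs.2 fun γ hγ => by
        obtain ⟨x, hx, hx', rfl⟩ := m.mem_img.1 (der le_rfl sur hγ)
        exact m.commute (N ha.1) hx' (StdSz.mem_Cs.1 ha.2 x hx)⟩
    exact cm ha.1 hc.1 (b.abC _ (k a ha) _ (k c hc))
  · rw [card _ (inf_le_left.trans hT) (fun a => (pw a a.2.1).imp fun _ e => Subtype.ext e), ← b.cardR]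
    refine congrArg (fun U : Subgroup Ω => Nat.card U) (le_antisymm (fun γ hγ => ?_) fun γ hγ => ?_)
    · obtain ⟨x, hx, -, rfl⟩ := m.mem_img.1 hγ
      exact ⟨m0 hx.1, toR (hT hx.1) (StdSz.mem_C1.1 hx.2)⟩
    · obtain ⟨c, hc, e⟩ := surR γ hγ
      exact m.mem_img.2 ⟨c, hc, N hc.1, e⟩
  · rw [card Q (hQ.trans inf_le_left) h2]
    refine b.sylR _ (fun γ hγ => ?_) (m.two_img h2)
    obtain ⟨x, hx, -, rfl⟩ := m.mem_img.1 hγ
    exact ⟨m.mem x (hQ hx).1, toR (hQ hx).1 (StdSz.mem_C1.1 (hQ hx).2)⟩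
  · refine clo (fun _ h => h.1.1) (fun γ hγ => ?_) a ha.1
      (b.genR ⟨m0 ha.1, toR (hT ha.1) (StdSz.mem_C1.1 ha.2)⟩)
    obtain ⟨c, hc, rfl⟩ := surR γ hγ.1
    exact ⟨c, ⟨hc, sq0 hc.1 hγ.2⟩, rfl⟩

end PrA

theorem exists_pf [Finite G] [Finite Ω] {Γ Γ0 T : Subgroup Ω} {z y : Ω} {n : ℕ} {B : Subgroup G}
    {ρ' : G → Ω} {t : G} (b : Bas Γ Γ0 T z y n) (m : Mdl Γ Γ0 B ρ') (w : Sw B t) :
    ∃ (T : Subgroup G) (z y : G),
    PF B T (cj t B) (cj t T) z y n ∧ PF (cj t B) (cj t T) B T (t * z * t⁻¹) (t * y * t⁻¹) n := by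
  obtain ⟨S, hS, -, hc, mem, sur⟩ := m.lift_sub b.T0 b.twoT
  obtain ⟨ζ, hz, z2, ez⟩ := m.lift_inv b.z0 b.z2
  obtain ⟨η, hy, y2, ey⟩ := m.lift_inv b.y0 b.y2
  have c : ∀ a ∈ B, ∀ b ∈ cj t B, Commute a b := fun a ha => StdSz.mem_Cs.1 (w.comm ha)
  have e : ∀ x : G, t⁻¹ * (t * x * t⁻¹) * t = x := fun x => by group
  refine ⟨S, ζ, η, PrA.half b m mem hc sur hz z2 ez hy y2 ey c (cj_mono t hS),
    PrA.half b (m.cjg t) (fun a => ?_) ((card_cj t S).trans hc) (fun γ hγ => ?_) (conj_mem_cj.2 hz)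
      (by rw [conj_sq, z2]; group) (by rw [e, ez]) (conj_mem_cj.2 hy) (by rw [conj_sq, y2]; group)
      (by rw [e, ey]) (fun a ha b hb => (c b hb a ha).symm) hS⟩
  · rw [mem_cj, mem_cj, mem]
    refine and_congr_right fun _ => and_congr_right fun _ => exists_congr fun k => ?_
    rw [show t⁻¹ * a * t = t⁻¹ * a * t⁻¹⁻¹ by rw [inv_inv], conj_pow, conj_eq_one_iff]
  · obtain ⟨a, ha, rfl⟩ := sur γ hγ
    exact ⟨_, conj_mem_cj.2 ha, by rw [e]⟩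

end Cfsg.Lib.StdX
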