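import Cfsg.Agent.StdX.Tm
import Cfsg.Agent.Spor.FmPcs

/-!
# Sylow 2-subgroups in a word model: polycyclic series and classes of involutions

The letters `1, …, N` are a polycyclic sequence of a Sylow 2-subgroup; `1` is an outer involution and
`N` a central involution. All checks are equations between words, decided by an oracle `e`.
-/

set_option autoImplicit false

namespace Cfsg.Lib.StdX.SG

open Subgroup Cfsg.Lib.Gold Cfsg.Lib.Spor Cfsg.Lib.Known Cfsg.Lib.Known.PC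
open Cfsg.Lib.Spor.Bulk (wv wv_mem wv_cons wv_nil wv_append)
open Cfsg.Lib.Spor.Fm (pcT Pc pcT_mem pcT_le pcT_anti pcT_bot)
open Cfsg.Lib.StdM (Cl)
open scoped commutatorElement

/-- all letters lie in `[i, N]` -/
noncomputable def inR (i N : ℕ) (W : List ℕ) : Bool :=
  lall (fun l => band (Nat.ble i l) (Nat.ble l N)) W

theorem inR_eq_1' : type_of% @inR.eq_1 := @inR.eq_1

/-- certificates for the classes of involutions -/
inductive Dt
  | leaf (r : ℕ) (c : List ℕ) (ms : List (ℕ × List ℕ × List ℕ)) : Dt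
  | prune (t : List ℕ) : Dt
  | merge (c t : List ℕ) (d : Dt) : Dt
  | spl (a b : Dt) : Dt

section
variable (e : List ℕ → List ℕ → Bool) (N : ℕ)

/-- the relations of the series -/
noncomputable def pcB (k : ℕ) (P : List (List ℕ)) (C : List (List (List ℕ))) : Bool :=
  nall (fun i => bor (Nat.beq i 0) (band (band (inR (Nat.succ i) N (nth [] P i)) (e [i, i] (nth [] P i)))
    (nall (fun l => bor (Nat.beq l 0) (band (band (inR (Nat.succ i) N (nth [] (nth [] C i) l))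
      (bor (Nat.beq l 1) (inR k N (nth [] (nth [] C i) l))))
      (e [i, l] (l :: i :: nth [] (nth [] C i) l)))) i))) (Nat.succ N)

theorem pcB_eq_1' : type_of% @pcB.eq_1 := @pcB.eq_1

/-- the commutator of `c` and `x` is `t * h i` -/
noncomputable def mgB (x : List ℕ) (i : ℕ) (c t : List ℕ) : Bool :=
  band (band (Nat.ble i N) (band (inR (Nat.succ i) N t) (inR 1 N c))) (e (x ++ c) (c ++ (x ++ i :: t)))

theorem mgB_eq_1' : type_of% @mgB.eq_1 := @mgB.eq_1

/-- the check of a certificate -/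
noncomputable def Dt.chk (lf : ℕ → List ℕ → List (ℕ × List ℕ × List ℕ) → List ℕ → Bool) (d : Dt) :
    ℕ → List ℕ → Bool :=
  Dt.rec (fun r c ms i x => band (Nat.blt N i) (lf r c ms x))
    (fun t i x => band (Nat.ble i N) (band (inR (Nat.succ i) N t) (e (x ++ x) (i :: t))))
    (fun c t _ f i x => band (mgB e N x i c t) (frc (Nat.succ i) fun j => f j x))
    (fun _ _ f f' i x => band (Nat.ble i N) (frc (Nat.succ i) fun j => band (f j x) (f' j (x ++ [i])))) d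

theorem Dt.chk_eq_1' : type_of% @Dt.chk.eq_1 := @Dt.chk.eq_1

/-- commutators with `x` at increasing levels -/
noncomputable def cenB (x : List ℕ) (ms : List (ℕ × List ℕ × List ℕ)) : ℕ → Bool :=
  List.rec (fun _ => true) (fun a _ r i => band (band (Nat.ble i a.1) (mgB e N x a.1 a.2.1 a.2.2))
    (r (Nat.succ a.1))) ms

theorem cenB_eq_1' : type_of% @cenB.eq_1 := @cenB.eq_1

/-- the check of a leaf -/
noncomputable def lfB (u ly ls r : ℕ) (c : List ℕ) (ms : List (ℕ × List ℕ × List ℕ)) (x : List ℕ) : Bool :=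
  band (e (c ++ x) (nth [] [[], [N], [ly], [1], [ls]] r ++ c))
    (bor (Nat.blt r 3) (band (Nat.ble N (Nat.add u (llen ms))) (cenB e N x ms 1)))

theorem lfB_eq_1' : type_of% @lfB.eq_1 := @lfB.eq_1

theorem Dt.chk_spl {lf : ℕ → List ℕ → List (ℕ × List ℕ × List ℕ) → List ℕ → Bool} {a b : Dt} {i : ℕ}
    {x : List ℕ} (h : Nat.ble i N = true) (h1 : a.chk e N lf (i + 1) x = true)
    (h2 : b.chk e N lf (i + 1) (x ++ [i]) = true) : (Dt.spl a b).chk e N lf i x = true :=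
  band_iff.2 ⟨h, band_iff.2 ⟨h1, h2⟩⟩

end

variable {G : Type} [Group G] {g : ℕ → G} {e : List ℕ → List ℕ → Bool} {N : ℕ}

theorem mem_of_inR {i : ℕ} {W : List ℕ} (h : inR i N W = true) : wv g W ∈ pcT g N i :=
  wv_mem _ fun l hl =>
    have := band_iff.1 (lall_iff.1 h l hl)
    pcT_mem (Nat.le_of_ble_eq_true this.1) (Nat.le_of_ble_eq_true this.2)

theorem two_mul_le [Finite G] {H K : Subgroup G} (h : H < K) : 2 * Nat.card H ≤ Nat.card K := by
  obtain ⟨k, hk⟩ := card_dvd_of_le h.le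
  have h1 : Nat.card H ≠ Nat.card K := fun c => h.ne (eq_of_le_of_card_ge h.le c.ge)
  have h2 : 0 < Nat.card K := Nat.card_pos
  rw [hk, mul_comm]
  refine Nat.mul_le_mul_left _ ?_
  rcases k with _ | _ | k
  · omega
  · omega
  · omega

/-- the stabiliser of a coset -/
def Cz [Finite G] (P : Pc 2 1 N g) (x : G) (i : ℕ) : Subgroup G where
  carrier := {c | c ∈ pcT g N 1 ∧ c * x * c⁻¹ * x⁻¹ ∈ pcT g N i}
  one_mem' := ⟨one_mem _, by simp⟩
  mul_mem' := fun {a b} ha hb => ⟨mul_mem ha.1 hb.1, by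
    simpa [mul_assoc] using mul_mem (P.conj_mem ha.1 hb.2) ha.2⟩
  inv_mem' := fun {a} ha => ⟨inv_mem ha.1, by
    simpa [mul_assoc] using P.conj_mem (inv_mem ha.1) (inv_mem ha.2)⟩

theorem Cz_eq_1' : type_of% @Cz.eq_1 := @Cz.eq_1

theorem mem_Cz [Finite G] {P : Pc 2 1 N g} {x c : G} {i : ℕ} :
    c ∈ Cz P x i ↔ c ∈ pcT g N 1 ∧ c * x * c⁻¹ * x⁻¹ ∈ pcT g N i := Iff.rfl

variable (he : ∀ A B, e A B = true ↔ wv g A = wv g B)
include he

theorem pc_of {k : ℕ} {P : List (List ℕ)} {C : List (List (List ℕ))} (h : pcB e N k P C = true) :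
    Pc 2 1 N g ∧ ∀ l i, 2 ≤ l → l < i → i ≤ N → g l * g i * (g l)⁻¹ * (g i)⁻¹ ∈ pcT g N k := by
  simp only [pcB, nall_iff, bor_iff, band_iff, Nat.beq_eq, he, wv_cons, wv_nil, one_mul] at h
  have k1 : ∀ l i, 1 ≤ l → l < i → i ≤ N → ∃ t, (inR (i + 1) N t = true ∧ (l = 1 ∨ inR k N t = true)) ∧
      g l * g i * (g l)⁻¹ * (g i)⁻¹ = wv g t := fun l i h1 h2 h3 =>
    let ⟨a, b⟩ := (((h i (by omega)).resolve_left (by omega)).2 l h2).resolve_left (by omega)
    ⟨_, a, by rw [b]; group⟩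
  refine ⟨⟨fun i h1 h2 => ?_, fun l i h1 h2 h3 => ?_⟩, fun l i h1 h2 h3 => ?_⟩
  · obtain ⟨a, b⟩ := ((h i (by omega)).resolve_left (by omega)).1
    rw [pow_two, b]; exact mem_of_inR a
  · obtain ⟨t, a, b⟩ := k1 l i h1 h2 h3
    exact b ▸ mem_of_inR a.1
  · obtain ⟨t, a, b⟩ := k1 l i (by omega) h2 h3
    exact b ▸ mem_of_inR (a.2.resolve_left (by omega))

theorem of_mgB {x c t : List ℕ} {i : ℕ} (h : mgB e N x i c t = true) :
    i ≤ N ∧ wv g t ∈ pcT g N (i + 1) ∧ wv g c ∈ pcT g N 1 ∧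
      wv g c * wv g x * (wv g c)⁻¹ = wv g t * g i * wv g x := by
  simp only [mgB, band_iff, he, wv_append, wv_cons, Nat.ble_eq] at h
  exact ⟨h.1.1, mem_of_inR h.1.2.1, mem_of_inR h.1.2.2, by rw [h.2]; group⟩

variable [Finite G] (P : Pc 2 1 N g) (hc : 2 ^ (N + 1 - 1) ≤ Nat.card (pcT g N 1))
include P hc

theorem chk_sound {Φ : G → Prop} (h1 : Φ 1) (hΦ : ∀ c ∈ pcT g N 1, ∀ x, Φ x → Φ (c * x * c⁻¹))
    {lf : ℕ → List ℕ → List (ℕ × List ℕ × List ℕ) → List ℕ → Bool}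
    (hl : ∀ r c ms x, lf r c ms x = true → Φ (wv g x)) (d : Dt) : ∀ i x, d.chk e N lf i x = true →
      1 ≤ i → wv g x ∈ pcT g N 1 → ∀ t ∈ pcT g N i, (t * wv g x) ^ 2 = 1 → Φ (t * wv g x) := by
  induction d with
  | leaf r c ms =>
    intro i x h _ _ t ht _
    obtain ⟨a, b⟩ := band_iff.1 h
    rw [pcT_bot (Nat.blt_eq.mp a), mem_bot] at ht
    rw [ht, one_mul]; exact hl _ _ _ _ b
  | prune s =>
    intro i x h hi hx t ht h2
    obtain ⟨a, b⟩ := band_iff.1 h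
    obtain ⟨b, c⟩ := band_iff.1 b
    rw [he, wv_append, wv_cons] at c
    obtain h3 | ⟨_, h3, -⟩ := P.good_prune (R := ∅) Nat.prime_two hc hi (Nat.le_of_ble_eq_true a) hx
      one_pos one_lt_two (mem_of_inR b) (by rw [pow_two, pow_one, c]) t ht h2
    exacts [h3 ▸ h1, h3.elim]
  | merge c s d ih =>
    intro i x h hi hx t ht h2
    obtain ⟨a, b⟩ := band_iff.1 h
    obtain ⟨a1, a2, a3, a4⟩ := of_mgB he a
    have ih' := ih (i + 1) x b (by omega) hx
    obtain ⟨k, hk, u, hu, rfl⟩ := P.step two_pos hi a1 ht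
    interval_cases k
    · simpa using ih' u hu (by simpa using h2)
    · have e1 : u * g i ^ 1 * wv g x = wv g c * ((wv g c)⁻¹ * (u * (wv g s)⁻¹) * (wv g c)⁻¹⁻¹ * wv g x) *
          (wv g c)⁻¹ := by
        rw [show u * g i ^ 1 * wv g x = u * (wv g s)⁻¹ * (wv g s * g i * wv g x) by group, ← a4]; group
      rw [e1] at h2 ⊢
      exact hΦ _ a3 _ (ih' _ (P.conj_mem (inv_mem a3) (mul_mem hu (inv_mem a2)))
        (by rwa [conj_pow, conj_eq_one_iff] at h2))
  | spl a b iha ihb =>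
    intro i x h hi hx t ht h2
    obtain ⟨a1, b⟩ := band_iff.1 h
    obtain ⟨b1, b2⟩ := band_iff.1 b
    have a2 := Nat.le_of_ble_eq_true a1
    obtain ⟨k, hk, u, hu, rfl⟩ := P.step two_pos hi a2 ht
    interval_cases k
    · simpa using iha (i + 1) x b1 (by omega) hx u hu (by simpa using h2)
    · simpa [mul_assoc] using ihb (i + 1) _ b2 (by omega)
        (by simpa using mul_mem (pcT_mem hi a2) hx) u hu (by simpa [mul_assoc] using h2)

theorem cen_sound {x : List ℕ} (ms : List (ℕ × List ℕ × List ℕ)) : ∀ i, cenB e N x ms i = true → 1 ≤ i →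
    2 ^ ms.length * Nat.card ↥(pcT g N 1 ⊓ C1 (wv g x)) ≤ Nat.card (Cz P (wv g x) i) := by
  induction ms with
  | nil =>
    intro i _ _
    simpa using card_le_of_le (H := pcT g N 1 ⊓ C1 (wv g x)) (K := Cz P (wv g x) i) fun c hc =>
      mem_Cz.2 ⟨hc.1, by rw [(StdSz.mem_C1.1 hc.2).eq]; simp⟩
  | cons a ms ih =>
    intro i h hi
    obtain ⟨b, b3⟩ := band_iff.1 h
    obtain ⟨b1, b2⟩ := band_iff.1 b
    obtain ⟨a1, a2, a3, a4⟩ := of_mgB he b2
    have b4 := Nat.le_of_ble_eq_true b1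
    have e1 : wv g a.2.1 * wv g x * (wv g a.2.1)⁻¹ * (wv g x)⁻¹ = wv g a.2.2 * g a.1 ^ 1 := by
      rw [a4]; group
    have k : Cz P (wv g x) (a.1 + 1) < Cz P (wv g x) i := SetLike.lt_iff_le_and_exists.2
      ⟨fun c hc => mem_Cz.2 ⟨hc.1, pcT_anti (by omega) hc.2⟩, _, mem_Cz.2 ⟨a3, e1 ▸ mul_mem
        (pcT_anti (by omega) a2) (pow_mem (pcT_mem b4 a1) 1)⟩, fun k =>
          P.not_mem Nat.prime_two hc (by omega) a1 one_pos one_lt_two a2 (e1 ▸ (mem_Cz.1 k).2)⟩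
    rw [List.length_cons, pow_succ', mul_assoc]
    exact (Nat.mul_le_mul_left _ (ih _ b3 (by omega))).trans (two_mul_le k)

omit he hc in
theorem der_le {k : ℕ}
    (h : ∀ l i, 2 ≤ l → l < i → i ≤ N → g l * g i * (g l)⁻¹ * (g i)⁻¹ ∈ pcT g N k) :
    ⁅pcT g N 2, pcT g N 2⁆ ≤ pcT g N k := by
  have k1 : ∀ i, 2 ≤ i → i ≤ N → pcT g N 2 ≤ Cz P (g i) k := fun i h1 h2 => pcT_le fun l h3 h4 =>
    mem_Cz.2 ⟨pcT_mem (by omega) h4, by
      rcases lt_trichotomy l i with a | rfl | a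
      · exact h l i h3 a h2
      · simp
      · simpa [mul_assoc] using inv_mem (h i l h1 a h4)⟩
  refine commutator_le.2 fun a ha x hx => ?_
  refine (mem_Cz.1 (pcT_le (K := Cz P x k) (fun l h3 h4 => mem_Cz.2 ⟨pcT_mem (by omega) h4, ?_⟩) ha)).2
  simpa [mul_assoc] using inv_mem (mem_Cz.1 (k1 l h3 h4 hx)).2

omit he in
theorem lf_sound {u : ℕ} {x : List ℕ} {ms : List (ℕ × List ℕ × List ℕ)}
    (he : ∀ A B, e A B = true ↔ wv g A = wv g B)
    (h : band (Nat.ble N (Nat.add u (llen ms))) (cenB e N x ms 1) = true) :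
    Nat.card ↥(pcT g N 1 ⊓ C1 (wv g x)) ≤ 2 ^ u := by
  obtain ⟨a, b⟩ := band_iff.1 h
  rw [Nat.ble_eq, llen_eq, Nat.add_eq] at a
  have h1 := (cen_sound he P hc ms 1 b le_rfl).trans ((card_le_of_le (K := pcT g N 1)
    fun _ h => (mem_Cz.1 h).1).trans
    ((P.card_le two_pos le_rfl (by omega)).trans (Nat.pow_le_pow_right two_pos (show _ ≤ ms.length + u by omega))))
  rw [pow_add] at h1
  exact Nat.le_of_mul_le_mul_left h1 (by positivity)

end Cfsg.Lib.StdX.SG
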