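import Cfsg.Agent.StdX.SGen

/-!
# Sylow 2-subgroups in a word model: the basic facts and the outer involutions
-/

set_option autoImplicit false

namespace Cfsg.Lib.StdX.SG

open Subgroup Cfsg.Lib.Gold Cfsg.Lib.Trans Cfsg.Lib.Spor Cfsg.Lib.Spor.WM Cfsg.Lib.Known Cfsg.Lib.Known.PC
open Cfsg.Lib.Spor.Bulk (wv wv_mem wv_cons wv_nil wv_append)
open Cfsg.Lib.Spor.Fm (pcT Pc pcT_mem pcT_le pcT_anti pcT_bot)
open Cfsg.Lib.Spor.WF (sub sb sg wv_sb sub_le wv_mem_sub sg_of_le)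
open Cfsg.Lib.StdM (Cl)
open scoped commutatorElement

section
variable (e : List ℕ → List ℕ → Bool) (inn : List ℕ → Bool) (N : ℕ)

/-- facts on the letters -/
noncomputable def miB (ly ls : ℕ) (Y oy : List ℕ) : Bool :=
  band (band (bnot (inn [1])) (nall (fun l => bor (Nat.blt l 2) (inn [l])) (Nat.succ N)))
    (band (band (band (inR 2 N Y) (e [ly] Y)) (band (e [ly, ly] []) (bnot (e [ly] []))))
      (band (band (bnot (e [N] [])) (e [1, 1] []))
        (band (band (bnot (inn oy)) (e (oy ++ [ly]) (ly :: oy))) (bnot (inn [ls])))))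

theorem miB_eq_1' : type_of% @miB.eq_1 := @miB.eq_1

/-- `x` is the commutator of `a` and `b` -/
noncomputable def cmB (x a b : List ℕ) : Bool := e (a ++ (b ++ x)) (b ++ a)

theorem cmB_eq_1' : type_of% @cmB.eq_1 := @cmB.eq_1

/-- an entry of the list of commutators -/
noncomputable def tr (D : List (List ℕ × List ℕ × List ℕ)) (i : ℕ) : List ℕ × List ℕ × List ℕ :=
  nth ([], [], []) D i

theorem tr_eq_1' : type_of% @tr.eq_1 := @tr.eq_1

/-- commutators -/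
noncomputable def deB (D : List (List ℕ × List ℕ × List ℕ)) (cb : List ℕ) : Bool :=
  band (lall (fun t => band (band (inR 2 N t.2.1) (inR 2 N t.2.2)) (cmB e t.1 t.2.1 t.2.2)) D)
    (band (band (e (tr D 0).1 [N]) (band (e (cb ++ (tr D 1).1) (N :: cb)) (bnot (e (tr D 1).1 [N]))))
      (band (e (tr D 3).2.1 (tr D 2).1) (bnot (e (tr D 3).1 []))))

theorem deB_eq_1' : type_of% @deB.eq_1 := @deB.eq_1

/-- the centraliser of the derived group -/
noncomputable def laB (a : ℕ) (L : List (List ℕ)) : Bool :=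
  band (band (Nat.ble 2 a) (nall (fun i => nall (fun l => bor (Nat.blt l a) (e [i, l] [l, i])) i) (Nat.succ N)))
    (lall (fun W => band (inR a N W) (bor (e W []) (bor (e W [N])
      (nany (fun l => band (Nat.ble 2 l) (bnot (e (l :: W) (W ++ [l])))) (Nat.succ N))))) L)

theorem laB_eq_1' : type_of% @laB.eq_1 := @laB.eq_1

/-- generation by involutions -/
noncomputable def geB (k : ℕ) (I : List (List ℕ)) (Z : List (List ℕ × List ℕ)) (L : List (List ℕ)) : Bool :=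
  band (band (lall (fun W => band (inR 2 N W) (e (W ++ W) [])) I)
    (lall (fun p => band (inR 2 N p.1) (e (p.2 ++ p.1) (N :: p.2))) Z))
    (nall (fun l => bor (Nat.blt l 2) (bor (band (Nat.blt l k) (e [l] (sb I (nth [] L l))))
      (e [l] (sb (Z.map Prod.fst) (nth [] L l))))) (Nat.succ N))

theorem geB_eq_1' : type_of% @geB.eq_1 := @geB.eq_1

/-- the centraliser of `y` -/
noncomputable def ryB (ly : ℕ) (R : List (List ℕ)) (a b : List ℕ) : Bool :=
  band (lall (fun W => band (band (inR 2 N W) (e (W ++ W) [])) (e (ly :: W) (W ++ [ly]))) R)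
    (cmB e [ly] (sb R a) (sb R b))

theorem ryB_eq_1' : type_of% @ryB.eq_1 := @ryB.eq_1

/-- generation by two centralisers -/
noncomputable def alB (α : List ℕ) (Z A : List (List ℕ)) (W : List (List ℕ × List ℕ)) : Bool :=
  band (band (lall (fun c => band (inn c) (e (N :: c) (c ++ [N]))) Z)
    (lall (fun c => band (inn c) (e (α ++ c) (c ++ α))) A))
    (lall (fun p => e p.1 (sb (Z ++ A) p.2)) W)

theorem alB_eq_1' : type_of% @alB.eq_1 := @alB.eq_1

end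

variable {G : Type} [Group G] {g : ℕ → G} {e : List ℕ → List ℕ → Bool} {inn : List ℕ → Bool} {N : ℕ}
  {G0 : Subgroup G}

theorem sb_mem {D : List (List ℕ)} {K : Subgroup G} (h : ∀ W ∈ D, wv g W ∈ K) (L : List ℕ) :
    wv g (sb D L) ∈ K := by
  rw [wv_sb]
  refine wv_mem _ fun l _ => ?_
  rcases lt_or_ge l D.length with a | a
  · rw [sg, List.getD_eq_getElem _ _ a]; exact h _ (List.getElem_mem a)
  · rw [sg_of_le _ a]; exact one_mem _

theorem cl_all (hi : G0.index = 2) {r o x : G} (ho : o ∉ G0) (hc : Commute o r) (c : G)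
    (h : Cl G0 r x) : Cl G0 r (c * x * c⁻¹) := by
  by_cases a : c ∈ G0
  · exact h.conj a
  · obtain ⟨d, hd, rfl⟩ := h
    refine ⟨c * d * o, (mul_mem_iff_of_index_two hi).2 (iff_of_false (by
      rwa [mul_mem_cancel_right hd]) ho), ?_⟩
    calc _ = c * d * (o * r * o⁻¹) * d⁻¹ * c⁻¹ := by group
      _ = _ := by rw [hc.eq]; group

theorem cl_mem {r x : G} (h : Cl G0 r x) : x ∈ G0 ↔ r ∈ G0 := by
  obtain ⟨d, hd, rfl⟩ := h
  rw [mul_mem_cancel_right (inv_mem hd), mul_mem_cancel_left hd]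

theorem card_two [Finite G] {Q H : Subgroup G} {k : ℕ} (hQ : Q ≤ H) (h2 : IsPGroup 2 Q)
    (h : ¬ 2 ^ (k + 1) ∣ Nat.card H) : Nat.card Q ≤ 2 ^ k := by
  have : Fact (Nat.Prime 2) := ⟨Nat.prime_two⟩
  obtain ⟨j, hj⟩ := IsPGroup.iff_card.1 h2
  rw [hj]
  exact Nat.pow_le_pow_right two_pos (not_lt.1 fun a =>
    h ((pow_dvd_pow 2 a).trans (hj ▸ card_dvd_of_le hQ)))

variable (he : ∀ A B, e A B = true ↔ wv g A = wv g B) (hin : ∀ A, inn A = true ↔ wv g A ∈ G0)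
include he

theorem of_cmB {x a b : List ℕ} (h : cmB e x a b = true) : wv g x = ⁅wv g a, wv g b⁆ := by
  rw [cmB, he, wv_append, wv_append, wv_append] at h
  rw [commutatorElement_def, ← h]; group

include hin

theorem classes [Finite G] (hi : G0.index = 2) {n : ℕ} (hn : N = n + 1) (n9 : 9 ≤ n)
    (hG : ¬ 2 ^ (n + 1) ∣ Nat.card G0)
    (P : Pc 2 1 N g) (hc : 2 ^ N ≤ Nat.card (pcT g N 1)) {u ly ls : ℕ} {Y oy : List ℕ} {d : Dt}
    (c1 : miB e inn N ly ls Y oy = true) (c2 : d.chk e N (lfB e N u ly ls) 1 [] = true) :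
    (∀ a ∈ G0, a * a = 1 → a = 1 ∨ Cl G0 (g N) a ∨ Cl G0 (g ly) a) ∧
    (∀ x, x ∉ G0 → x * x = 1 → Cl G0 (g 1) x ∨ Cl G0 (g ls) x) ∧
    ∀ Q ≤ ⊤ ⊓ C1 (g 1), IsPGroup 2 Q → Nat.card Q ≤ 2 ^ u := by
  have : Fact (Nat.Prime 2) := ⟨Nat.prime_two⟩
  simp only [miB, band_iff, bor_iff, bnot_iff, nall_iff, he, hin, wv_cons, wv_nil, wv_append, one_mul,
    Nat.blt_eq] at c1
  obtain ⟨⟨m1, m2⟩, ⟨⟨m3, m4⟩, -⟩, ⟨-, m5⟩, ⟨m6, m7⟩, m8⟩ := c1
  have T0 : pcT g N 2 ≤ G0 := pcT_le fun l h1 h2 => (m2 l (by omega)).resolve_left (by omega)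
  have z0 : g N ∈ G0 := T0 (pcT_mem (by omega) le_rfl)
  have y0 : g ly ∈ G0 := m4 ▸ T0 (mem_of_inR m3)
  have s1 : g 1 ∈ pcT g N 1 := pcT_mem le_rfl (by omega)
  have cz : Commute (g 1) (g N) := by
    have := P.cen (i := N) (by omega) le_rfl s1
    rw [pcT_bot (by omega), mem_bot] at this
    exact commutatorElement_eq_one_iff_commute.1 this
  have k1 := fun c x => cl_all hi (x := x) m1 cz c
  have k2 := fun c x => cl_all hi (r := g ly) (x := x) m6 m7.symm c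
  have k3 := fun c x => cl_all hi (x := x) m1 (Commute.refl _) c
  have k4 := fun c x => cl_all hi (x := x) m8 (Commute.refl _) c
  have rf : ∀ r : G, Cl G0 r r := fun r => ⟨1, one_mem _, by simp⟩
  have cS := P.card_eq two_pos hc le_rfl (by omega)
  have key := chk_sound he P hc (Φ := fun x => x = 1 ∨ Cl G0 (g N) x ∨ Cl G0 (g ly) x ∨
    ((Cl G0 (g 1) x ∨ Cl G0 (g ls) x) ∧ ∃ c ∈ pcT g N 1, ∃ x0, x = c * x0 * c⁻¹ ∧
      Nat.card ↥(pcT g N 1 ⊓ C1 x0) ≤ 2 ^ u)) (Or.inl rfl)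
    (fun c hc x h => h.imp (fun a => by simp [a]) (Or.imp (k1 c x) (Or.imp (k2 c x)
      fun ⟨a, c', h1, x0, h2, h3⟩ => ⟨a.imp (k3 c x) (k4 c x), c * c', mul_mem hc h1, x0,
        by rw [h2]; group, h3⟩)))
    (lf := lfB e N u ly ls) (fun r c ms x h => by
      obtain ⟨a, b⟩ := band_iff.1 h
      rw [he, wv_append, wv_append, ← eq_mul_inv_iff_mul_eq] at a
      have b' := fun k : ¬ r < 3 => lf_sound P hc he ((bor_iff.1 b).resolve_left (by simpa using k))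
      rcases r with _ | _ | _ | _ | _ | r
      · exact Or.inl (by simpa [nth] using a)
      · exact Or.inr (Or.inl (a ▸ k1 _ _ (by simpa [nth] using rf _)))
      · exact Or.inr (Or.inr (Or.inl (a ▸ k2 _ _ (by simpa [nth] using rf _))))
      · exact Or.inr (Or.inr (Or.inr ⟨Or.inl (a ▸ k3 _ _ (by simpa [nth] using rf _)), 1, one_mem _, _,
          by simp, b' (by omega)⟩))
      · exact Or.inr (Or.inr (Or.inr ⟨Or.inr (a ▸ k4 _ _ (by simpa [nth] using rf _)), 1, one_mem _, _,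
          by simp, b' (by omega)⟩))
      · exact Or.inl (by simpa [nth] using a)) d 1 [] c2 le_rfl (one_mem _)
  simp only [wv_nil, mul_one] at key
  have syl : IsSylowIn 2 (pcT g N 1) ⊤ := ⟨le_top, IsPGroup.of_card cS, fun h => hG (by
    rw [relIndex_top_right] at h
    have h1 := (pcT g N 1).card_mul_index
    rw [← G0.index_mul_card, hi, cS, Nat.add_sub_cancel] at h1
    refine Nat.dvd_of_mul_dvd_mul_left two_pos ?_
    rw [← h1, mul_comm, ← hn]; exact Nat.mul_dvd_mul_left _ h)⟩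
  have inv : ∀ x : G, x * x = 1 → ∃ c, c * x * c⁻¹ ∈ pcT g N 1 ∧ (c * x * c⁻¹) ^ 2 = 1 := fun x h =>
    let ⟨c, _, k⟩ := syl.exists_cj_le (StdSz.two_zpowers (x := x) (k := 1) (by rw [pow_one, pow_two, h])) le_top
    ⟨c, cj_le_iff.1 k x (mem_zpowers x), by rw [conj_pow, pow_two, h]; simp⟩
  have nm := normal_of_index_eq_two hi
  have bk : ∀ c x : G, c⁻¹ * (c * x * c⁻¹) * c⁻¹⁻¹ = x := fun c x => by group
  refine ⟨fun a ha h => ?_, fun x hx h => ?_, fun Q hQ h => ?_⟩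
  · obtain ⟨c, h1, h2⟩ := inv a h
    have h3 := nm.conj_mem a ha c
    rcases key _ h1 h2 with k | k | k | ⟨k | k, -⟩
    · exact Or.inl (by simpa using k)
    · exact Or.inr (Or.inl (bk c a ▸ k1 _ _ k))
    · exact Or.inr (Or.inr (bk c a ▸ k2 _ _ k))
    · exact absurd ((cl_mem k).1 h3) m1
    · exact absurd ((cl_mem k).1 h3) m8
  · obtain ⟨c, h1, h2⟩ := inv x h
    have h3 : c * x * c⁻¹ ∉ G0 := fun k => hx (bk c x ▸ nm.conj_mem _ k c⁻¹)
    rcases key _ h1 h2 with k | k | k | ⟨k | k, -⟩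
    · exact absurd (k ▸ one_mem _) h3
    · exact absurd ((cl_mem k).2 z0) h3
    · exact absurd ((cl_mem k).2 y0) h3
    · exact Or.inl (bk c x ▸ k3 _ _ k)
    · exact Or.inr (bk c x ▸ k4 _ _ k)
  · obtain ⟨c, -, k⟩ := syl.exists_cj_le (h.to_sup_of_normal_right'
      (StdSz.two_zpowers (x := g 1) (k := 1) (by rw [pow_one, pow_two, m5]))
      (fun q hq => centralizer_le_normalizer _ (StdSz.mem_Cs.2 fun a ⟨j, hj⟩ =>
        hj ▸ (StdSz.mem_C1.1 (hQ hq).2).zpow_right j))) le_top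
    rw [cj_le_iff] at k
    have h3 : c * g 1 * c⁻¹ ∉ G0 := fun k => m1 (bk c (g 1) ▸ nm.conj_mem _ k c⁻¹)
    rcases key _ (k _ (mem_sup_right (mem_zpowers _))) (by rw [conj_pow, pow_two, m5]; simp) with
      j | j | j | ⟨-, c', j1, x0, j2, j3⟩
    · exact absurd (j ▸ one_mem _) h3
    · exact absurd ((cl_mem j).2 z0) h3
    · exact absurd ((cl_mem j).2 y0) h3
    · refine ((card_cj (c'⁻¹ * c) Q).ge.trans (card_le_of_le (K := pcT g N 1 ⊓ C1 x0)
        (cj_le_iff.2 fun q hq => mem_inf.2 ⟨?_, ?_⟩))).trans j3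
      · simpa [mul_assoc] using P.conj_mem (inv_mem j1) (k q (mem_sup_left hq))
      · rw [← bk c' x0, ← j2]
        simpa [mul_assoc] using StdSz.mem_C1.2 ((StdSz.mem_C1.1 (hQ hq).2).map (MulAut.conj (c'⁻¹ * c)))

theorem bas [Finite G] (hi : G0.index = 2) {n : ℕ} (hn : N = n + 1) (n9 : 9 ≤ n) (n13 : n ≤ 13)
    (hG : ¬ 2 ^ (n + 1) ∣ Nat.card G0) (simple : IsSimpleGroup G0)
    (aut : ∀ φ : MulAut G0, ∃ g ∈ (⊤ : Subgroup G), ∀ x : G0, (φ x : G) = g * x * g⁻¹)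
    {k a u ly ls : ℕ} (hk : 2 ≤ k) {Y oy cb ra rb : List ℕ} {d : Dt} {P L I LI R Z A : List (List ℕ)}
    {C : List (List (List ℕ))} {D : List (List ℕ × List ℕ × List ℕ)} {ZI W : List (List ℕ × List ℕ)}
    (c0 : pcB e N k P C = true) (hc : 2 ^ N ≤ Nat.card (pcT g N 1))
    (c1 : miB e inn N ly ls Y oy = true) (c2 : d.chk e N (lfB e N u ly ls) 1 [] = true)
    (c3 : deB e N D cb = true) (c4 : laB e N a L = true) (c5 : geB e N k I ZI LI = true)
    (c6 : ryB e N ly R ra rb = true) (c7 : alB e inn N (tr D 3).1 Z A W = true)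
    (hA : ∀ x, (∀ i, Commute x (wv g (tr D i).1)) → ∃ w ∈ L, x = wv g w)
    (hR : 512 ≤ Nat.card (sub g R)) (hy : ¬ 2 ^ (9 + 1) ∣ Nat.card ↥(G0 ⊓ C1 (g ly)))
    (hW : G0 ≤ sub g (W.map Prod.fst)) : Bas ⊤ G0 (pcT g N 2) (g N) (g ly) n := by
  obtain ⟨Q, der⟩ := pc_of he c0
  have cls := (classes he hin hi hn n9 hG Q hc c1 c2).1
  simp only [miB, deB, laB, geB, ryB, alB, band_iff, bor_iff, bnot_iff, nall_iff, lall_iff, he, hin, wv_cons,
    wv_nil, wv_append, one_mul, Nat.blt_eq, Nat.ble_eq] at c1 c3 c4 c5 c6 c7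
  obtain ⟨⟨m1, m2⟩, ⟨⟨m3, m4⟩, m5, m6⟩, ⟨m7, -⟩, -⟩ := c1
  obtain ⟨d0, ⟨d1, d2, d3⟩, d4, d5⟩ := c3
  obtain ⟨⟨l1, l2⟩, l3⟩ := c4
  obtain ⟨⟨g1, g2⟩, g3⟩ := c5
  obtain ⟨r1, r2⟩ := c6
  obtain ⟨⟨a1, a2⟩, a3⟩ := c7
  have T0 : pcT g N 2 ≤ G0 := pcT_le fun l h1 h2 => (m2 l (by omega)).resolve_left (by omega)
  have zT : g N ∈ pcT g N 2 := pcT_mem (by omega) le_rfl
  have yT : g ly ∈ pcT g N 2 := m4 ▸ mem_of_inR m3
  have cT : Nat.card (pcT g N 2) = 2 ^ n := by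
    rw [Q.card_eq two_pos hc one_le_two (by omega), hn]; rfl
  have z2 : g N * g N = 1 := by
    have := Q.pow N (by omega) le_rfl
    rwa [pcT_bot (by omega), mem_bot, pow_two] at this
  have zc : ∀ c ∈ pcT g N 1, Commute c (g N) := fun c hc => by
    have := Q.cen (i := N) (by omega) le_rfl hc
    rw [pcT_bot (by omega), mem_bot] at this
    exact commutatorElement_eq_one_iff_commute.1 this
  have clz : ∀ c, Cl G0 (g N) (c * g N * c⁻¹) := fun c =>
    cl_all hi m1 (zc _ (pcT_mem le_rfl (by omega))) c ⟨1, one_mem _, by simp⟩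
  have dd : ∀ i, wv g (tr D i).2.1 ∈ pcT g N 2 ∧ wv g (tr D i).2.2 ∈ pcT g N 2 ∧
      wv g (tr D i).1 = ⁅wv g (tr D i).2.1, wv g (tr D i).2.2⁆ := fun i => by
    rw [tr, nth_eq]
    rcases lt_or_ge i D.length with b | b
    · rw [List.getD_eq_getElem _ _ b]
      obtain ⟨⟨b1, b2⟩, b3⟩ := d0 _ (List.getElem_mem b)
      exact ⟨mem_of_inR b1, mem_of_inR b2, of_cmB he b3⟩
    · rw [List.getD_eq_default _ _ b]; simp
  have dm : ∀ i, wv g (tr D i).1 ∈ ⁅pcT g N 2, pcT g N 2⁆ := fun i =>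
    (dd i).2.2 ▸ commutator_mem_commutator (dd i).1 (dd i).2.1
  have hL : ∀ x ∈ Cs ⁅pcT g N 2, pcT g N 2⁆, ∃ w ∈ L, x = wv g w := fun x hx =>
    hA x fun i => StdSz.mem_Cs.1 hx _ (dm i)
  have hA' : Cs ⁅pcT g N 2, pcT g N 2⁆ ≤ pcT g N a := fun x hx =>
    let ⟨w, h1, h2⟩ := hL x hx
    h2 ▸ mem_of_inR (l3 w h1).1
  have zi : ∀ p ∈ ZI, wv g p.1 ∈ pcT g N 2 ∧ Cl G0 (g N) (wv g p.1) := fun p hp => by
    exact ⟨mem_of_inR (g2 p hp).1, eq_mul_inv_of_mul_eq (g2 p hp).2 ▸ clz _⟩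
  have sylR : ∀ Q ≤ G0 ⊓ C1 (g ly), IsPGroup 2 Q → Nat.card Q ≤ 512 := fun Q h1 h2 => card_two h1 h2 hy
  have two : IsPGroup 2 (pcT g N 2) := IsPGroup.of_card cT
  have eR : sub g R = pcT g N 2 ⊓ C1 (g ly) := eq_of_le_of_card_ge
    (sub_le fun w hw => ⟨mem_of_inR (r1 w hw).1.1, StdSz.mem_C1.2 (r1 w hw).2⟩)
    ((sylR _ (inf_le_inf_right _ T0) (two.to_le inf_le_left)).trans hR)
  have zJ : ∀ w ∈ ZI.map Prod.fst, wv g w ∈ pcT g N 2 ∧ Cl G0 (g N) (wv g w) := fun w hw => by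
    obtain ⟨p, hp, rfl⟩ := List.mem_map.1 hw; exact zi p hp
  refine ⟨le_top, fun x _ y _ h1 h2 => (mul_mem_iff_of_index_two hi).2 (iff_of_false h1 h2), simple, aut,
    T0, cT, fun Q h1 h2 => card_two h1 h2 hG, n9, n13, zT, z2, m7, StdSz.mem_Cs.2 fun c hc => ?_,
    fun x hx => ?_, d1 ▸ dm 0, yT, m5, m6, cls, pcT_le fun l h1 h2 => ?_,
    (der_le Q der).trans (pcT_le fun l h1 h2 => ?_), fun x hx y hy => ?_,
    fun x hx => pcT_anti l1 (hA' hx.2), ⟨_, dm 1, d3, ?_⟩,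
    ⟨_, (dd 2).1, _, (dd 2).2.1, _, (dd 3).2.1, ?_⟩, ?_, sylR, ?_, ?_⟩
  · exact (zc c (pcT_anti one_le_two hc)).symm
  · obtain ⟨w, h1, rfl⟩ := hL x (StdJ4.Cs_anti (commutator_le.2 fun u hu v hv =>
      mul_mem (mul_mem (mul_mem hu hv) (inv_mem hu)) (inv_mem hv)) hx.2)
    rcases (l3 w h1).2 with b | b | b
    · exact b ▸ one_mem _
    · exact b ▸ mem_zpowers _
    · obtain ⟨l, h2, b⟩ := nany_spec b
      simp only [band_iff, bnot_iff, he, wv_cons, wv_nil, wv_append, one_mul, Nat.ble_eq] at b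
      exact absurd (StdSz.mem_Cs.1 hx.2 _ (pcT_mem b.1 (by omega))).eq b.2
  · rcases (g3 l (by omega)).resolve_left (by omega) with b | b
    · rw [b.2]
      refine sb_mem (fun w hw => Subgroup.subset_closure ?_) _
      exact ⟨mem_of_inR (g1 w hw).1, (g1 w hw).2⟩
    · rw [b]
      refine sb_mem (fun w hw => Subgroup.subset_closure ?_) _
      refine ⟨(zJ w hw).1, ?_⟩
      obtain ⟨c, -, e⟩ := (zJ w hw).2
      rw [← e, conj_mul, z2]; simp
  · exact ((g3 l (by omega)).resolve_left (by omega)).resolve_left (fun b => by omega) ▸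
      sb_mem (fun w hw => subset_closure (zJ w hw)) _
  · refine StdSz.mem_Cs.1 (pcT_le (K := Cs (pcT g N a)) (fun l h1 h2 => StdSz.mem_Cs.2 fun v hv =>
      (StdSz.mem_C1.1 (pcT_le (K := C1 (g l)) (fun j h3 h4 => StdSz.mem_C1.2 ?_) hv)).symm) (hA' hx.2))
      y (hA' hy.2)
    rcases lt_trichotomy j l with b | rfl | b
    · exact (l2 l (by omega) j b).resolve_left (by omega)
    · exact Commute.refl _
    · exact Commute.symm ((l2 j (by omega) l b).resolve_left (by omega))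
  · exact eq_mul_inv_of_mul_eq d2 ▸ clz _
  · rw [← (dd 2).2.2, ← d4, ← (dd 3).2.2]
    refine ⟨d5, hW.trans (sub_le fun w hw => ?_)⟩
    obtain ⟨p, hp, rfl⟩ := List.mem_map.1 hw
    refine a3 p hp ▸ sb_mem (fun c hc => (List.mem_append.1 hc).elim (fun b => mem_sup_left ?_)
      fun b => mem_sup_right ?_) _
    exacts [⟨(a1 c b).1, StdSz.mem_C1.2 (a1 c b).2⟩, ⟨(a2 c b).1, StdSz.mem_C1.2 (a2 c b).2⟩]
  · exact le_antisymm (sylR _ (inf_le_inf_right _ T0) (two.to_le inf_le_left)) (eR ▸ hR)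
  · exact eR.ge.trans (sub_le fun w hw => subset_closure ⟨eR ▸ wv_mem_sub g hw, (r1 w hw).1.2⟩)
  · have := of_cmB he r2
    rw [wv_cons, wv_nil, one_mul] at this
    rw [← eR]
    exact this ▸ commutator_mem_commutator (sb_mem (fun _ => wv_mem_sub g) _) (sb_mem (fun _ => wv_mem_sub g) _)

omit he hin

/-! ### The oracles of a word model -/

/-- the code of a word in the letters `ws` -/
noncomputable def wc (b : ℕ) (ws W : List ℕ) : ℕ := List.rec 0 (fun l _ r => mulF b r (nth 0 ws l)) W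

theorem wc_eq_1' : type_of% @wc.eq_1 := @wc.eq_1

/-- equality of words -/
noncomputable def eW (T : FT) (b m : ℕ) (base ws A B : List ℕ) : Bool :=
  eqvF T b m base (wc b ws A) (wc b ws B)

theorem eW_eq_1' : type_of% @eW.eq_1 := @eW.eq_1

/-- the inner test -/
noncomputable def iW (T : FT) (b m n0 : ℕ) (ws A : List ℕ) : Bool := Nat.blt (appF T b m (wc b ws A) 0) n0

theorem iW_eq_1' : type_of% @iW.eq_1 := @iW.eq_1

variable {n : ℕ} {ρ : G →* Equiv.Perm (Fin n)} {T : FT} {b m : ℕ} {base : List ℕ} (h : Good ρ T b m base)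

theorem V_wc (ws W : List ℕ) : h.V (wc b ws W) = wv (fun l => h.V (nth 0 ws l)) W := by
  induction W with
  | nil => exact V_zero h
  | cons l W ih => rw [wv_cons, ← ih]; exact V_mulF h _ _

theorem eW_iff (hb : ∀ p ∈ base, p < n) (ws A B : List ℕ) : eW T b m base ws A B = true ↔
    wv (fun l => h.V (nth 0 ws l)) A = wv (fun l => h.V (nth 0 ws l)) B := by
  rw [← V_wc, ← V_wc]
  exact ⟨h.eq_of_eqvF, fun k => not_not.1 fun a => ne_of_eqvF h hb (bnot_iff.2 a) k⟩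

theorem iW_iff {n0 : ℕ} (hH : ∀ c, h.V c ∈ G0 ↔ appF T b m c 0 < n0) (ws A : List ℕ) :
    iW T b m n0 ws A = true ↔ wv (fun l => h.V (nth 0 ws l)) A ∈ G0 := by
  rw [← V_wc, hH, iW, Nat.blt_eq]

variable [Finite G] {ι : ℕ → ℕ} (hι : invB T b m base ι = true)
include hι

theorem low {ws : List ℕ} {W : List (List ℕ)} {M : ℕ} {ls : List ILev}
    (hc : (fops T b m base n ι).build (W.map (wc b ws)) M ls = true) :
    M ≤ Nat.card (sub (fun l => h.V (nth 0 ws l)) W) :=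
  (h.hasF hι).le_card (fun c hc => by
    obtain ⟨w, hw, rfl⟩ := List.mem_map.1 hc
    exact ⟨_, wv_mem_sub _ hw, V_wc h ws w⟩) hc

theorem low_pc {ws : List ℕ} {W : List (List ℕ)} {ls : List ILev}
    (hc : band (lall (inR 1 N) W) ((fops T b m base n ι).build (W.map (wc b ws)) (2 ^ N) ls) = true) :
    2 ^ N ≤ Nat.card (pcT (fun l => h.V (nth 0 ws l)) N 1) :=
  (low h hι (band_iff.1 hc).2).trans (Subgroup.card_le_of_le (sub_le fun w hw =>
    mem_of_inR (lall_iff.1 (band_iff.1 hc).1 w hw)))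

theorem dcen_tr {ws cs : List ℕ} {cz M : ℕ} (hM : Nat.card (centralizer {h.V cz}) ≤ M) {ls : List ILev}
    {D : List (List ℕ × List ℕ × List ℕ)} {L : List (List ℕ)} {U tp : List ℕ}
    (hc : band (eqvF T b m base cz (wc b ws (tr D 0).1)) (cenAllB (fops T b m base n ι) cs M ls cz
      (wc b ws (tr D 4).1) (stdP (fops T b m base n ι) (U.map fun i => wc b ws (tr D i).1)
        (L.map (wc b ws)) tp)) = true) (x : G)
    (hx : ∀ i, Commute x (wv (fun l => h.V (nth 0 ws l)) (tr D i).1)) :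
    ∃ w ∈ L, x = wv (fun l => h.V (nth 0 ws l)) w := by
  obtain ⟨c1, c2⟩ := band_iff.1 hc
  obtain ⟨l, h1, h2⟩ := dcen h hι hM c2 x (by rw [h.eq_of_eqvF c1, V_wc]; exact hx 0)
    (by rw [V_wc]; exact hx 4) fun u hu => by
      obtain ⟨i, -, rfl⟩ := List.mem_map.1 hu
      rw [V_wc]; exact hx i
  obtain ⟨w, hw, rfl⟩ := List.mem_map.1 h1
  exact ⟨w, hw, h2.trans (V_wc h ws w)⟩

end Cfsg.Lib.StdX.SG
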