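import Cfsg.Agent.StdX.SuzD2
import Cfsg.Agent.StdX.ClqL

/-! A generating set of involutions in relation. -/

set_option autoImplicit false
set_option maxRecDepth 100000

namespace Cfsg.Lib.StdX.Suz

open Subgroup Cfsg.Lib.Spor Cfsg.Lib.Spor.WM Cfsg.Lib.Known Cfsg.Lib.Known.PC Cfsg.Lib.Gold
open Cfsg.Lib.Spor.SuzP (base)

namespace Cq

theorem card_cz_le : Nat.card (centralizer {gd.V 9}) ≤ 6635520 := card_cz.le

/-- the codes of the elements -/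
def E : List ℕ := [9, 308606030, 168246847526721, 11028444182, 591962649, 290280585, 9887090196, 421630536, 26060334677, 9697233626213,
        5716962572814, 254857935, 1600297732176, 10944566485, 411928779, 21866026315, 12099879702, 221041353, 205349650, 18446285919059,
        841298015696, 308606030, 257520462, 1006382950990, 178428426, 662019220547137, 4985609069156, 1475918573990082, 22742336720, 16698192975,
        17404089363, 375743372, 138486728, 9, 11562556372615, 292060200858626, 150872158232834, 626860613510849, 76588605889, 360290262, 90446296257,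
        2206808211936, 164119861568577, 429258788583297, 5913140639644, 103328612641217, 431908833562882, 2890657563961601, 118895835944386,
        80228421736385, 5733976240999, 71227240374593, 1, 2, 3, 4, 5, 6, 7, 4699237652417, 581319113128385, 26887126259665, 428058409018626]

/-- the elements -/
noncomputable def e (i : ℕ) : Om := gd.V (nth 0 E i)

theorem hh (p : Pf) (k : p.ev gT 6 63 base ι 1782 (nth 0 E) = true) : p.sem G0 e :=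
  StdX.holds gd hι V_mem hb E p k

theorem cen1 : ∀ d, Commute d (e 0) → Commute d (e 3) → Pf.sem G0 (WF.upd e 999 d)
    (.or (.ncom (.c 999) (.c 3)) (.or (.ncom (.c 999) (.c 4)) (.or (.ncom (.c 999) (.c 5)) (.or (.ncom (.c 999) (.c 6)) (.and (.inn (.c 999)) (.or
        (.ncom (.c 999) (.c 2)) (.or (.eq (.c 999) .one) (.eq (.c 999) .one)))))))) :=
  holds_cen gd hι V_mem hb card_cz_le (cs := [10926736912, 20773221073, 11060721226, 9014400593, 409272982, 9870288150, 26109862545, 221078998,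
        255116560, 8927622613, 308061257, 5551503, 224200137, 589394768, 193791432, 0, 4018902, 3998672, 140301347, 423727882, 9])
    (ls := [⟨2228, 0, 0, 4, [0, 1, 2, 3]⟩, ⟨2838, 2229, 0, 3, [4, 5, 6, 7]⟩, ⟨2847, 2839, 0, 3, [8, 9, 10]⟩, ⟨3057, 2848, 0, 2, [11, 12, 13, 14]⟩,
        ⟨3236, 3058, 0, 2, [15, 16, 17, 18]⟩, ⟨3343, 3237, 0, 1, [19, 15, 15, 15]⟩, ⟨2790, 3344, 0, 0, []⟩, ⟨2159, 2791, 0, 0, []⟩, ⟨2881, 2160, 0,
        0, []⟩, ⟨3206, 2882, 0, 0, []⟩, ⟨2574, 3207, 0, 0, []⟩, ⟨2854, 2575, 0, 0, []⟩, ⟨3000, 0, 0, 1, [15, 15, 20, 15]⟩, ⟨3288, 3001, 0, 0, []⟩])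
    E 3 999 _ (by decide +kernel)

theorem T2 : Tr3 ⊤ G0 (e 0) (e 1) 1 := by
  obtain ⟨h1, h2, h3, h4, h5, h6, h7, h8, h9⟩ := hh (.and (.inn (.c 0)) (.and (.com (.c 0) (.c 1)) (.and (.inn (.c 2)) (.and (.eq (.cj (.c 2) (.c 0))
        (.c 1)) (.and (.eq (.cj (.c 2) (.c 1)) (.mul (.c 0) (.c 1))) (.and (.and (.inn (.c 3)) (.and (.com (.c 3) (.c 0)) (.com (.c 3) (.c 1))))
        (.and (.and (.inn (.c 4)) (.and (.com (.c 4) (.c 0)) (.com (.c 4) (.c 1)))) (.and (.and (.inn (.c 5)) (.and (.com (.c 5) (.c 0)) (.com (.c 5)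
        (.c 1)))) (.and (.inn (.c 6)) (.and (.com (.c 6) (.c 0)) (.com (.c 6) (.c 1)))))))))))) (by decide +kernel)
  exact tr3_of (g := (e 2)) h1 h2 h3 h4 h5 h6 h6 h7 h8 h9 cen1

theorem M2 : MuD ⊤ G0 (e 0) (e 0) (e 1) := by
  obtain ⟨h1, h2, h3⟩ := hh (.and (.ne (.c 7) (.c 0)) (.and (.ne (.c 7) (.c 1)) (.ne (.c 7) (.mul (.c 0) (.c 1))))) (by decide +kernel)
  exact .cube (c := (e 7)) ⟨1, one_mem _, by simp⟩ T2
    (T2.cj2 (c := (e 8)) (hh (.and (.inn (.c 8)) (.and (.eq (.cj (.c 8) (.c 0)) (.c 0)) (.eq (.cj (.c 8) (.c 1)) (.mul (.c 1) (.c 7))))) (by decide +kernel)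
       ))
    (T2.cj2 (c := (e 9)) (hh (.and (.inn (.c 9)) (.and (.eq (.cj (.c 9) (.c 0)) (.mul (.c 0) (.c 1))) (.eq (.cj (.c 9) (.c 1)) (.c 7)))) (by decide +kernel)
       ))
    (T2.cj2 (c := (e 10)) (hh (.and (.inn (.c 10)) (.and (.eq (.cj (.c 10) (.c 0)) (.c 1)) (.eq (.cj (.c 10) (.c 1)) (.c 7)))) (by decide +kernel)))
        h1 h2 h3

theorem cen2 : ∀ d, Commute d (e 0) → Commute d (e 13) → Pf.sem G0 (WF.upd e 999 d)
    (.or (.ncom (.c 999) (.c 13)) (.or (.ncom (.c 999) (.c 14)) (.or (.ncom (.c 999) (.c 15)) (.or (.ncom (.c 999) (.c 16)) (.and (.inn (.c 999))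
        (.or (.ncom (.c 999) (.c 12)) (.or (.eq (.c 999) .one) (.eq (.c 999) .one)))))))) :=
  holds_cen gd hι V_mem hb card_cz_le (cs := [15289906574, 21679613266, 18643768200, 13263233874, 9838081042, 13125891028, 356574603, 19567575947,
        408761681, 12034049615, 424195210, 3180750, 391725842, 325383497, 239146444, 395118793, 0, 590406408, 4236236, 9, 4244426])
    (ls := [⟨3236, 0, 0, 4, [0, 1, 2, 3]⟩, ⟨3087, 3237, 0, 3, [4, 5, 6, 7]⟩, ⟨3025, 3088, 0, 3, [8, 9, 10, 11]⟩, ⟨2703, 3026, 0, 2, [12, 13, 14,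
        15]⟩, ⟨2714, 2704, 0, 1, [16, 17]⟩, ⟨3555, 2715, 0, 0, []⟩, ⟨3126, 3556, 0, 0, []⟩, ⟨3224, 3127, 0, 0, []⟩, ⟨2857, 3225, 0, 0, []⟩, ⟨2507,
        2858, 0, 0, []⟩, ⟨1965, 0, 0, 1, [18, 19, 16, 20]⟩, ⟨2015, 1966, 0, 0, []⟩])
    E 13 999 _ (by decide +kernel)

theorem T0 : Tr3 ⊤ G0 (e 0) (e 11) 1 := by
  obtain ⟨h1, h2, h3, h4, h5, h6, h7, h8, h9⟩ := hh (.and (.inn (.c 0)) (.and (.com (.c 0) (.c 11)) (.and (.inn (.c 12)) (.and (.eq (.cj (.c 12) (.c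
        0)) (.c 11)) (.and (.eq (.cj (.c 12) (.c 11)) (.mul (.c 0) (.c 11))) (.and (.and (.inn (.c 13)) (.and (.com (.c 13) (.c 0)) (.com (.c 13) (.c
        11)))) (.and (.and (.inn (.c 14)) (.and (.com (.c 14) (.c 0)) (.com (.c 14) (.c 11)))) (.and (.and (.inn (.c 15)) (.and (.com (.c 15) (.c 0))
        (.com (.c 15) (.c 11)))) (.and (.inn (.c 16)) (.and (.com (.c 16) (.c 0)) (.com (.c 16) (.c 11)))))))))))) (by decide +kernel)
  exact tr3_of (g := (e 12)) h1 h2 h3 h4 h5 h6 h6 h7 h8 h9 cen2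

theorem M0 : MuD ⊤ G0 (e 0) (e 0) (e 11) := by
  obtain ⟨h1, h2, h3⟩ := hh (.and (.ne (.c 17) (.c 0)) (.and (.ne (.c 17) (.c 11)) (.ne (.c 17) (.mul (.c 0) (.c 11))))) (by decide +kernel)
  exact .cube (c := (e 17)) ⟨1, one_mem _, by simp⟩ T0
    (T0.cj2 (c := (e 18)) (hh (.and (.inn (.c 18)) (.and (.eq (.cj (.c 18) (.c 0)) (.c 0)) (.eq (.cj (.c 18) (.c 11)) (.mul (.c 11) (.c 17))))) 
        (by decide +kernel)))
    (T2.cj2 (c := (e 19)) (hh (.and (.inn (.c 19)) (.and (.eq (.cj (.c 19) (.c 0)) (.mul (.c 0) (.c 11))) (.eq (.cj (.c 19) (.c 1)) (.c 17)))) 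
        (by decide +kernel)))
    (T2.cj2 (c := (e 20)) (hh (.and (.inn (.c 20)) (.and (.eq (.cj (.c 20) (.c 0)) (.c 11)) (.eq (.cj (.c 20) (.c 1)) (.c 17)))) (by decide +kernel)
       )) h1 h2 h3

theorem cen3 : ∀ d, Commute d (e 0) → Commute d (e 29) → Pf.sem G0 (WF.upd e 999 d)
    (.or (.ncom (.c 999) (.c 29)) (.or (.ncom (.c 999) (.c 21)) (.or (.ncom (.c 999) (.c 22)) (.or (.ncom (.c 999) (.c 30)) (.or (.ncom (.c 999) (.c
        31)) (.or (.ncom (.c 999) (.c 32)) (.or (.ncom (.c 999) (.c 29)) (.and (.inn (.c 999)) (.or (.ne (.mul (.c 999) (.c 999)) .one) (.or (.ncom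
        (.c 999) (.c 28)) (.or (.eq (.c 999) .one) (.eq (.c 999) (.c 33))))))))))))) :=
  holds_cen gd hι V_mem hb card_cz_le (cs := [10003506256, 357614544, 358449699, 16312317069, 15371412494, 307033486, 12118971979, 222917840,
        26041746387, 15337829842, 4798033, 138818314, 409273871, 258016856, 139261192, 205837452, 0, 16328790736])
    (ls := [⟨633, 0, 0, 5, [0, 1, 2, 3]⟩, ⟨1595, 634, 0, 0, []⟩, ⟨3446, 0, 0, 3, [4, 5, 6, 7]⟩, ⟨3203, 3447, 0, 3, [8, 9, 10, 11]⟩, ⟨3266, 3204, 0,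
        3, [12, 13, 14, 15]⟩, ⟨2905, 3267, 0, 2, [16, 16, 17, 16]⟩, ⟨2763, 2906, 0, 0, []⟩])
    E 29 999 _ (by decide +kernel)

theorem B0 : Bad ⊤ G0 (e 0) (e 23) (e 24) ((e 25) * (e 33) * (e 25)⁻¹) ((e 26) * (e 33) * (e 26)⁻¹) ((e 27) * (e 33) * (e 27)⁻¹) :=
  .inr (.inl (M0.cj2 (c := (e 34)) (hh (.and (.inn (.c 34)) (.and (.eq (.cj (.c 34) (.c 0)) (.c 23)) (.eq (.cj (.c 34) (.c 11)) (.mul (.c 23) (.cj
        (.cj (.c 26) (.c 33)) (.c 23)))))) (by decide +kernel))))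

theorem R : RlD ⊤ G0 (e 0) (e 21) (e 22) := by
  obtain ⟨h1, h2, h3, h4, h5, h6, h7, h8, h9, h10⟩ := hh (.and (.eq (.cj (.c 21) (.c 22)) (.mul (.c 22) (.c 0))) (.and (.inn (.c 25)) (.and (.inn (.c
        26)) (.and (.inn (.c 27)) (.and (.and (.inn (.c 0)) (.and (.com (.c 0) (.c 21)) (.com (.c 0) (.c 22)))) (.and (.and (.inn (.c 29)) (.and
        (.com (.c 29) (.c 21)) (.com (.c 29) (.c 22)))) (.and (.and (.inn (.c 30)) (.and (.com (.c 30) (.c 21)) (.com (.c 30) (.c 22)))) (.and (.and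
        (.inn (.c 31)) (.and (.com (.c 31) (.c 21)) (.com (.c 31) (.c 22)))) (.and (.and (.inn (.c 32)) (.and (.com (.c 32) (.c 21)) (.com (.c 32)
        (.c 22)))) (.and (.inn (.c 29)) (.and (.com (.c 29) (.c 21)) (.com (.c 29) (.c 22))))))))))))) (by decide +kernel)
  exact trip_of (a₁ := (e 23)) (a₂ := (e 24)) (q₀ := e 0) (g₁ := (e 25)) (g₂ := (e 26)) (g₃ := (e 27)) (s := (e 28))
    (fun d => d = (e 33))
    (M2.cj2 (c := (e 35)) (hh (.and (.inn (.c 35)) (.and (.eq (.cj (.c 35) (.c 0)) (.c 21)) (.eq (.cj (.c 35) (.c 1)) (.c 0)))) (by decide +kernel)))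
    (M2.cj2 (c := (e 36)) (hh (.and (.inn (.c 36)) (.and (.eq (.cj (.c 36) (.c 0)) (.c 22)) (.eq (.cj (.c 36) (.c 1)) (.c 0)))) (by decide +kernel)))
        h1
    (M2.cj2 (c := (e 37)) (hh (.and (.inn (.c 37)) (.and (.eq (.cj (.c 37) (.c 0)) (.c 23)) (.eq (.cj (.c 37) (.c 1)) (.c 24)))) (by decide +kernel)
       )) h2 h3 h4
    (.inl (hh (.and (.eq (.cj (.c 25) (.c 21)) (.c 23)) (.eq (.cj (.c 25) (.c 22)) (.c 0))) (by decide +kernel)))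
    (.inl (hh (.and (.eq (.cj (.c 26) (.c 21)) (.c 24)) (.eq (.cj (.c 26) (.c 22)) (.c 0))) (by decide +kernel)))
    (.inl (hh (.and (.eq (.cj (.c 27) (.c 21)) (.mul (.c 23) (.c 24))) (.eq (.cj (.c 27) (.c 22)) (.c 0))) (by decide +kernel)))
    (.inr (hh (.and (.inn (.c 28)) (.and (.eq (.cj (.c 28) (.c 21)) (.c 22)) (.eq (.cj (.c 28) (.c 22)) (.c 21)))) (by decide +kernel))) h5 h6 h7 h8
        h9 h10
    (fun d k l => (cen3 d k l).resolve_left (not_not.2 l)) (by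
      rintro d (rfl)
      exacts [B0])

theorem P01 : RlD ⊤ G0 (e 0) (e 0) (e 38) :=
  (R.cj2 (c := (e 42)) (hh (.and (.inn (.c 42)) (.and (.eq (.cj (.c 42) (.c 21)) (.c 0)) (.eq (.cj (.c 42) (.c 22)) (.c 38)))) (by decide +kernel)))

theorem P02 : RlD ⊤ G0 (e 0) (e 0) (e 39) :=
  (R.cj2 (c := (e 43)) (hh (.and (.inn (.c 43)) (.and (.eq (.cj (.c 43) (.c 21)) (.c 0)) (.eq (.cj (.c 43) (.c 22)) (.c 39)))) (by decide +kernel)))

theorem P03 : RlD ⊤ G0 (e 0) (e 0) (e 40) :=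
  (R.cj2 (c := (e 44)) (hh (.and (.inn (.c 44)) (.and (.eq (.cj (.c 44) (.c 21)) (.c 0)) (.eq (.cj (.c 44) (.c 22)) (.c 40)))) (by decide +kernel)))

theorem P04 : RlD ⊤ G0 (e 0) (e 0) (e 41) :=
  (R.cj2 (c := (e 45)) (hh (.and (.inn (.c 45)) (.and (.eq (.cj (.c 45) (.c 21)) (.c 0)) (.eq (.cj (.c 45) (.c 22)) (.c 41)))) (by decide +kernel)))

theorem P12 : RlD ⊤ G0 (e 0) (e 38) (e 39) :=
  (R.cj2 (c := (e 46)) (hh (.and (.inn (.c 46)) (.and (.eq (.cj (.c 46) (.c 21)) (.c 38)) (.eq (.cj (.c 46) (.c 22)) (.c 39)))) (by decide +kernel)))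

theorem P13 : RlD ⊤ G0 (e 0) (e 38) (e 40) :=
  (.mu (M2.cj2 (c := (e 47)) (hh (.and (.inn (.c 47)) (.and (.eq (.cj (.c 47) (.c 0)) (.c 38)) (.eq (.cj (.c 47) (.c 1)) (.c 40)))) (by decide +kernel)
       )))

theorem P14 : RlD ⊤ G0 (e 0) (e 38) (e 41) :=
  (R.cj2 (c := (e 48)) (hh (.and (.inn (.c 48)) (.and (.eq (.cj (.c 48) (.c 21)) (.c 38)) (.eq (.cj (.c 48) (.c 22)) (.c 41)))) (by decide +kernel)))

theorem P23 : RlD ⊤ G0 (e 0) (e 39) (e 40) :=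
  (R.cj2 (c := (e 49)) (hh (.and (.inn (.c 49)) (.and (.eq (.cj (.c 49) (.c 21)) (.c 39)) (.eq (.cj (.c 49) (.c 22)) (.c 40)))) (by decide +kernel)))

theorem P24 : RlD ⊤ G0 (e 0) (e 39) (e 41) :=
  (R.cj2 (c := (e 50)) (hh (.and (.inn (.c 50)) (.and (.eq (.cj (.c 50) (.c 21)) (.c 39)) (.eq (.cj (.c 50) (.c 22)) (.c 41)))) (by decide +kernel)))

theorem P34 : RlD ⊤ G0 (e 0) (e 40) (e 41) :=
  (R.cj2 (c := (e 51)) (hh (.and (.inn (.c 51)) (.and (.eq (.cj (.c 51) (.c 21)) (.c 40)) (.eq (.cj (.c 51) (.c 22)) (.c 41)))) (by decide +kernel)))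

theorem gen : G0 ≤ gn e [0, 38, 39, 40, 41] := by
  obtain ⟨h1, h2, h3, h4, h5, h6, h7⟩ := hh (.and (.mem (.c 52) [0, 38, 39, 40, 41] [4, 0, 2, 0, 4, 0, 8, 2, 0, 2, 8, 0, 4, 0, 2, 0, 4]) (.and (.mem
        (.c 53) [0, 38, 39, 40, 41] [0, 8, 6, 2, 4, 8, 0, 4, 0, 8, 4, 6, 2, 8, 0]) (.and (.mem (.c 54) [0, 38, 39, 40, 41] [4, 6, 4, 2, 8, 6, 8, 2,
        0, 2, 0, 8, 6, 8, 2, 4, 6, 4]) (.and (.mem (.c 55) [0, 38, 39, 40, 41] [0, 2, 4, 2, 8, 2, 4, 6, 8, 0, 4, 0, 8, 4, 6, 4, 0, 4, 6, 2, 0]) (.and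
        (.mem (.c 56) [0, 38, 39, 40, 41] [6, 0, 2, 4, 2, 8, 4, 0, 6, 0, 4, 8, 4, 6, 2, 0, 8, 2, 8, 0, 4, 0]) (.and (.mem (.c 57) [0, 38, 39, 40, 41]
        [6, 0, 2, 0, 4, 8, 6, 0, 8, 0, 6, 8, 4, 0, 2, 0, 6]) (.mem (.c 58) [0, 38, 39, 40, 41] [6, 4, 0, 6, 4, 8, 2, 0, 4, 0, 2, 0, 6, 8, 2,
        0]))))))) (by decide +kernel)
  refine G0_le ?_
  simp only [List.forall_mem_cons]
  exact ⟨h1, h2, h3, h4, h5, h6, h7, fun _ h => nomatch h⟩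

theorem clq : Clq ⊤ G0 (e 0) := by
  refine clq_gn e [0, 38, 39, 40, 41] gen ?_ ?_
  · simp only [List.forall_mem_cons]
    exact ⟨⟨1, one_mem _, by simp⟩, ⟨(e 59), hh (.and (.inn (.c 59)) (.eq (.cj (.c 59) (.c 0)) (.c 38))) (by decide +kernel)⟩, ⟨(e 60), hh (.and
        (.inn (.c 60)) (.eq (.cj (.c 60) (.c 0)) (.c 39))) (by decide +kernel)⟩, ⟨(e 61), hh (.and (.inn (.c 61)) (.eq (.cj (.c 61) (.c 0)) (.c 40)))
        (by decide +kernel)⟩, ⟨(e 62), hh (.and (.inn (.c 62)) (.eq (.cj (.c 62) (.c 0)) (.c 41))) (by decide +kernel)⟩, fun _ h => nomatch h⟩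
  · simp only [List.pairwise_cons, List.forall_mem_cons]
    exact ⟨⟨P01, P02, P03, P04, fun _ h => nomatch h⟩, ⟨P12, P13, P14, fun _ h => nomatch h⟩, ⟨P23, P24, fun _ h => nomatch h⟩, ⟨P34, fun _ h =>
        nomatch h⟩, (fun _ h => nomatch h), .nil⟩

end Cq

theorem clq : Clq ⊤ G0 z := Cq.clq

end Cfsg.Lib.StdX.Suz
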