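import Cfsg.Agent.StdX.SuzD
import Cfsg.Agent.StdX.DK2

/-! The centralisers of the involutions. -/

set_option autoImplicit false
set_option maxRecDepth 100000

namespace Cfsg.Lib.StdX.Suz

open Subgroup Cfsg.Lib.Spor Cfsg.Lib.Spor.WM Cfsg.Lib.Known Cfsg.Lib.Known.PC Cfsg.Lib.Gold
open Cfsg.Lib.Spor.SuzP (ρ g0 base)

theorem cz_le : Nat.card (centralizer {z}) ≤ 6635520 :=
  card_cen_of_cenO (gd.hasF hι) (gd.fm_in [1,2,3,4,5,6,7,8,33372598686,35024577494,2684865496270,1556473770061,285653620936,99127027586,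
    46461318714244,5184051898336,699350193229,1756917416963,784142194789,1748346952002,1876121683612,
    42232013634,1124699363348,2172301436368,41249009950,215059620107,158143173076,21717628114,
    414618354724,866125206875,160181627047,376437510409,244119759,163631695170,157611347,2076068373599,
    17869064784,622928218053,6616403,9417027565641,576655615407041,156329551,171750224,6274532819970]) card_Om.le
    (ls := [⟨570, 0, 0, 7, [0,1,2,3,4,5,6,7]⟩, ⟨873, 0, 0, 4, [8,9,10,11,12,13,14,15]⟩, ⟨1344, 0, 0, 4, [16,17,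
    18,19,20,21,22,23]⟩, ⟨792, 0, 0, 3, [24,25,26,27,28,29,30]⟩, ⟨15, 0, 0, 1, [31,32,33,34,35,36,37,
    38]⟩, ⟨729, 16, 0, 0, []⟩, ⟨44, 0, 0, 1, [39,40,41]⟩, ⟨1584, 45, 0, 0, []⟩, ⟨9, 0, 0, 1, [42]⟩,
     ⟨1097, 10, 0, 1, [43]⟩]) (cz := 9) rfl (by decide +kernel)
/-- letters generating the centraliser -/
def czI : List ℕ := [8,9,35,11,12,13,14,15,16,17,18,19,20,21,22,23,24,25]
theorem czI_eq_1' : type_of% @czI.eq_1 := @czI.eq_1
/-- strong generators of the centraliser -/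
def czs : List ℕ := [35,18,23,70872,190915788,274531608,254837640,422933337,221848271,341882057,19466957963,27185726987,
    15235953417]
theorem czs_eq_1' : type_of% @czs.eq_1 := @czs.eq_1
/-- a chain of the centraliser -/
def czl : List ILev := [⟨2489, 0, 0, 8, [0,1,2]⟩, ⟨921, 0, 0, 6, [3,4]⟩, ⟨445, 0, 0, 5, [5,6]⟩, ⟨41, 0, 0, 3, [7,8]⟩, ⟨1556,
     0, 0, 3, [9,10]⟩, ⟨1097, 0, 0, 1, [11]⟩, ⟨19, 0, 0, 1, [12]⟩]
theorem czl_eq_1' : type_of% @czl.eq_1 := @czl.eq_1
theorem cz_spec : Nat.card (centralizer {z}) = 6635520 ∧ centralizer {z} = gn gd.V czI :=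
  cen_eq gd hι cz_le (cs := czs) (ls := czl) (by decide +kernel)
theorem card_cz : Nat.card (centralizer {z}) = 6635520 := cz_spec.1
theorem cz_eq : centralizer {z} = gn gd.V czI := cz_spec.2
theorem czs_in : ∀ c ∈ czs, gd.fm.In (centralizer {z}) c :=
  in_cen (gd.hasF hι) (gd.fm_in _) (cz := 9) rfl (by decide +kernel)
theorem card_c0z : Nat.card ↥(G0 ⊓ C1 z) = 3317760 := by
  have := card_two (K := C1 z) (cz_eq.ge (mem_gn gd.V (by decide : 8 ∈ czI)))
    (fun h => absurd ((V_mem 8).1 h) (by decide +kernel))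
  rw [card_cz] at this
  omega
/-- letters generating the centraliser in the simple group -/
def c0zI : List ℕ := [9,11,12,13,14,15,16,17,18,19,20,21,22,23,24,25]
theorem c0zI_eq_1' : type_of% @c0zI.eq_1 := @c0zI.eq_1
/-- strong generators of the centraliser in the simple group -/
def c0zs : List ℕ := [18,21,275063561,321721424,188540370,424248720,274785808,6346191,17552442766,190133070,20641006808,
    1391809885001]
theorem c0zs_eq_1' : type_of% @c0zs.eq_1 := @c0zs.eq_1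
/-- a chain of the centraliser in the simple group -/
def c0zl : List ILev := [⟨711, 0, 0, 8, [0,1]⟩, ⟨1561, 0, 0, 5, [2,3]⟩, ⟨1388, 0, 0, 5, [4,5]⟩, ⟨816, 0, 0, 4, [6,7]⟩, ⟨255,
     0, 0, 4, [8,9]⟩, ⟨23, 0, 0, 1, [10]⟩, ⟨1736, 0, 0, 1, [11]⟩]
theorem c0zl_eq_1' : type_of% @c0zl.eq_1 := @c0zl.eq_1
theorem c0z_eq : G0 ⊓ C1 z = gn gd.V c0zI :=
  (sub_eq gd hι (K := G0 ⊓ C1 z) (fun l hl => ⟨(V_mem l).2 ((by decide +kernel : ∀ l ∈ c0zI, appF gT 6 63 l 0 < 1782) l hl),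
    cz_eq.ge (mem_gn gd.V ((by decide : ∀ l ∈ c0zI, l ∈ czI) l hl))⟩) card_c0z.le
    (cs := c0zs) (ls := c0zl) (by decide +kernel)).2
theorem cy_le : Nat.card (centralizer {y}) ≤ 322560 :=
  card_cen_of_cenO (gd.hasF hι) (gd.fm_in [1,2,3,4,5,6,7,8,26894987987,2414009505875,2549509636304,2751155245857,2556681941266,1318812799312,
    868012622081,351303221991,2651743347350,1410045949962,709953684372,169958343510,1391913964169,
    36369121309382,10464993285927,10757342802447,1479171913689,1321081861662,912181856590,2625627521416,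
    1035579003138,34585052637,1310052898762,29018321942,22819012698,356869305093,1064237540073,
    14537028189,5457161294569,2847600117903,90707890279,1067705182057,7386954,323532711552834,
    686530440352321]) card_Om.le
    (ls := [⟨1305, 0, 0, 7, [0,1,2,3,4,5,6,7]⟩, ⟨725, 0, 0, 4, [8,9,10,11,12,13,14,15]⟩, ⟨1541, 0, 0, 4, [16,17,
    18,19,20,21,22,23]⟩, ⟨1976, 0, 0, 2, [24,25,26,27,28,29]⟩, ⟨2095, 1977, 0, 2, [30,31,32,33,34,35]⟩,
     ⟨791, 0, 0, 2, [36,37,38,39,40]⟩, ⟨127, 0, 0, 1, [41,42]⟩, ⟨1497, 128, 0, 0, []⟩]) (cz := 10) rfl (by decide +kernel)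
/-- letters generating the centraliser -/
def cyI : List ℕ := [10,11,12,13,14,35,26,27,28,29,30,31,32,33,34]
theorem cyI_eq_1' : type_of% @cyI.eq_1 := @cyI.eq_1
/-- strong generators of the centraliser -/
def cys : List ℕ := [14,35,28,3020938,8705674,6871003,7983948,10,127838,511846091,123743,144099,13]
theorem cys_eq_1' : type_of% @cys.eq_1 := @cys.eq_1
/-- a chain of the centraliser -/
def cyl : List ILev := [⟨1571, 0, 0, 6, [0,1,2]⟩, ⟨1344, 0, 0, 4, [3]⟩, ⟨3123, 0, 0, 2, [4,5]⟩, ⟨1899, 0, 0, 2, [6]⟩, ⟨1376,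
     0, 0, 2, [7,8]⟩, ⟨2925, 0, 0, 2, [9,10]⟩, ⟨3323, 0, 0, 2, [11,12]⟩]
theorem cyl_eq_1' : type_of% @cyl.eq_1 := @cyl.eq_1
theorem cy_spec : Nat.card (centralizer {y}) = 322560 ∧ centralizer {y} = gn gd.V cyI :=
  cen_eq gd hι cy_le (cs := cys) (ls := cyl) (by decide +kernel)
theorem card_cy : Nat.card (centralizer {y}) = 322560 := cy_spec.1
theorem cy_eq : centralizer {y} = gn gd.V cyI := cy_spec.2
theorem cys_in : ∀ c ∈ cys, gd.fm.In (centralizer {y}) c :=
  in_cen (gd.hasF hι) (gd.fm_in _) (cz := 10) rfl (by decide +kernel)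
theorem card_c0y : Nat.card ↥(G0 ⊓ C1 y) = 161280 := by
  have := card_two (K := C1 y) (cy_eq.ge (mem_gn gd.V (by decide : 35 ∈ cyI)))
    (fun h => absurd ((V_mem 35).1 h) (by decide +kernel))
  rw [card_cy] at this
  omega
/-- letters generating the centraliser in the simple group -/
def c0yI : List ℕ := [10,11,12,13,14,26,27,28,29,30,31,32,33,34]
theorem c0yI_eq_1' : type_of% @c0yI.eq_1 := @c0yI.eq_1
/-- strong generators of the centraliser in the simple group -/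
def c0ys : List ℕ := [29,14,31,510968674,2018,3454877,141404,561039437,131936,10,49866,510506780,439723789]
theorem c0ys_eq_1' : type_of% @c0ys.eq_1 := @c0ys.eq_1
/-- a chain of the centraliser in the simple group -/
def c0yl : List ILev := [⟨767, 0, 0, 5, [0,1,2]⟩, ⟨684, 0, 0, 4, [3]⟩, ⟨1577, 0, 0, 2, [4,5]⟩, ⟨1688, 0, 0, 2, [6]⟩, ⟨1088,
     0, 0, 2, [7,8]⟩, ⟨574, 0, 0, 2, [9,10]⟩, ⟨484, 0, 0, 1, [11]⟩, ⟨1015, 0, 0, 1, [12]⟩]
theorem c0yl_eq_1' : type_of% @c0yl.eq_1 := @c0yl.eq_1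
theorem c0y_eq : G0 ⊓ C1 y = gn gd.V c0yI :=
  (sub_eq gd hι (K := G0 ⊓ C1 y) (fun l hl => ⟨(V_mem l).2 ((by decide +kernel : ∀ l ∈ c0yI, appF gT 6 63 l 0 < 1782) l hl),
    cy_eq.ge (mem_gn gd.V ((by decide : ∀ l ∈ c0yI, l ∈ cyI) l hl))⟩) card_c0y.le
    (cs := c0ys) (ls := c0yl) (by decide +kernel)).2

end Cfsg.Lib.StdX.Suz
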