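import Cfsg.Agent.StdX.SuzD
import Cfsg.Agent.StdX.YG2

/-! The facts on the second class of involutions in the group of degree 1782. -/

set_option autoImplicit false
set_option maxRecDepth 100000

namespace Cfsg.Lib.StdX.Suz

open Subgroup Cfsg.Lib.Spor Cfsg.Lib.Spor.WM Cfsg.Lib.Known Cfsg.Lib.Known.PC YG
open Cfsg.Lib.Spor.SuzP (base)

/-- the atoms -/
def yE : List ℕ := [779, 28, 26, 13, 125082, 905, 59418, 460695374, 14, 11, 43135493066550711768, 26, 11, 0,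
    30, 8767113, 11, 1883, 13, 124955, 14, 124641, 32, 53850, 3453771, 136990, 9, 0, 221041353, 123485]

theorem yE_eq_1' : type_of% @yE.eq_1 := @yE.eq_1

theorem yk5 : cenT gT 6 63 base (1782 + 1782) ι 1782 (10 :: 9 :: yE)
    [9, 11, 13, 14, 26, 35, 28, 1885, 1820, 29, 116766, 135969, 50974, 135777, 108443, 108507, 10, 779,
    8237917, 108571, 209036105, 506255177, 456525641, 461682778]
    [⟨1367,0,0,5,[0,1,2,3,4,5]⟩, ⟨3126,0,0,1,[6,7,8,9]⟩, ⟨3513,3127,0,1,[10,11,12,13]⟩,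
    ⟨2848,3514,0,1,[14,15]⟩, ⟨2630,2849,0,0,[]⟩, ⟨2200,2631,0,0,[]⟩, ⟨1190,0,0,2,[16,17]⟩,
    ⟨1727,1191,0,1,[18,19,20]⟩, ⟨463,1728,0,1,[21,22,23]⟩, ⟨588,464,0,0,[]⟩]
    3 (pC 5 (.com (.c 15) (.c 2))) = true := by decide +kernel

theorem yk7 : cenT gT 6 63 base (1782 + 1782) ι 1782 (10 :: 9 :: yE)
    [9, 11, 13, 14, 26, 35, 1737, 2188, 602, 33, 141404, 55373, 495577182, 561911772, 10, 779]
    [⟨178,0,0,5,[0,1,2,3,4,5]⟩, ⟨684,179,0,4,[6,7,8,9]⟩, ⟨1541,685,0,4,[10,9,11]⟩, ⟨1221,1542,0,1,[12,13]⟩,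
    ⟨1326,1222,0,0,[]⟩, ⟨1576,1327,0,0,[]⟩, ⟨1394,1577,0,0,[]⟩, ⟨1776,0,0,2,[14,15]⟩, ⟨1614,1777,0,0,[]⟩]
    4 (pC 7 (.ncom (.c 15) (.c 2))) = true := by decide +kernel

theorem yk3 : cenT gT 6 63 base (1782 + 1782) ι 1782 (10 :: 9 :: yE)
    [9, 11, 13, 14, 26, 35, 30, 34, 2018, 1997, 866, 862, 2189, 10, 779, 47115, 9316554, 7983817, 225753033,
    8525517, 540418845]
    [⟨28,0,0,4,[0,1,2,3,4,5]⟩, ⟨2096,0,0,2,[2,6,7]⟩, ⟨2128,2097,0,1,[8,9,10,11]⟩, ⟨2630,2129,0,1,[12,10]⟩,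
    ⟨2096,2631,0,0,[]⟩, ⟨2911,0,0,2,[13,14]⟩, ⟨1923,2912,0,1,[15,16,17]⟩, ⟨3246,1924,0,1,[18,19,20]⟩,
    ⟨2911,3247,0,0,[]⟩]
    16 (pC 3 (.or (.ncom (.c 15) (.c 17)) (.ncom (.c 15) (.c 2)))) = true := by decide +kernel

theorem yk2 : cenT gT 6 63 base (1782 + 1782) ι 1782 (10 :: 9 :: yE)
    [10, 12, 14, 26, 35, 8767374, 13, 144099, 9, 53965, 713, 544003744]
    [⟨3053,0,0,9,[0,1,2,3,4]⟩, ⟨873,0,0,1,[5]⟩, ⟨1400,0,0,2,[6,7]⟩, ⟨496,0,0,2,[8,9]⟩, ⟨1675,497,0,0,[]⟩,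
    ⟨1110,0,0,2,[10,11]⟩, ⟨1370,1111,0,0,[]⟩]
    1 (pS [26, 28, 30]) = true := by decide +kernel

theorem yd0 {T : Subgroup Om} {j : ℕ} (b : Bas ⊤ G0 T z y j) (hy : Nat.card (centralizer {y}) ≤ 322560)
    (hz : Nat.card (centralizer {z}) = 6635520) : YD2 ⊤ G0 z y :=
  have k := cen_eq gd hι (I := [9, 10, 11, 12, 13, 14, 26, 27, 28, 29, 30, 31, 32, 33, 34, 35])
    (cs := [9, 11, 13, 14, 26, 35, 28, 1885, 1820, 29, 116766, 135969, 50974, 135777, 108443, 108507, 10, 779,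
    8237917, 108571, 209036105, 506255177, 456525641, 461682778])
    (ls := [⟨1367,0,0,5,[0,1,2,3,4,5]⟩, ⟨3126,0,0,1,[6,7,8,9]⟩, ⟨3513,3127,0,1,[10,11,12,13]⟩,
    ⟨2848,3514,0,1,[14,15]⟩, ⟨2630,2849,0,0,[]⟩, ⟨2200,2631,0,0,[]⟩, ⟨1190,0,0,2,[16,17]⟩,
    ⟨1727,1191,0,1,[18,19,20]⟩, ⟨463,1728,0,1,[21,22,23]⟩, ⟨588,464,0,0,[]⟩]) hy (by decide +kernel)
  yd_suz gd hι V_mem hb (k := 1) (k' := 1) (k₁ := 1) (k₂ := 1) (k₃ := 2) (k₄ := 1) b k.1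
    (hz ▸ by norm_num) k.2 (by decide +kernel) (by decide +kernel) yk5 yk7 yk3 yk2

end Cfsg.Lib.StdX.Suz
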