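import Cfsg.Agent.StdX.Kit

/-!
# Quantifier-free statements in a word model
-/

set_option autoImplicit false

namespace Cfsg.Lib.StdX

open Subgroup Equiv Cfsg.Lib.Spor Cfsg.Lib.Spor.WM Cfsg.Lib.Known Cfsg.Lib.Known.PC
open Cfsg.Lib.Spor.WF (upd)
open scoped commutatorElement

/-- terms; `cj g a` is `g * a * g⁻¹` -/
inductive Tm
  | c (i : ℕ) : Tm
  | one : Tm
  | mul (a b : Tm) : Tm
  | inv (a : Tm) : Tm
  | pw (a : Tm) (k : ℕ) : Tm
  | cm (a b : Tm) : Tm
  | cj (g a : Tm) : Tm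

/-- statements; in `mem t I L` the letter `2 j` of `L` is the `j`-th atom of `I`, `2 j + 1` its inverse -/
inductive Pf
  | tt : Pf
  | eq (s t : Tm) : Pf
  | ne (s t : Tm) : Pf
  | com (s t : Tm) : Pf
  | ncom (s t : Tm) : Pf
  | inn (t : Tm) : Pf
  | out (t : Tm) : Pf
  | mem (t : Tm) (I L : List ℕ) : Pf
  | and (p q : Pf) : Pf
  | or (p q : Pf) : Pf

section
variable {G : Type*} [Group G]

/-- the value of a term -/
noncomputable def Tm.val (g : ℕ → G) (t : Tm) : G :=
  Tm.rec g 1 (fun _ _ a b => a * b) (fun _ a => a⁻¹) (fun _ k a => a ^ k) (fun _ _ a b => ⁅a, b⁆)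
    (fun _ _ a b => a * b * a⁻¹) t

theorem Tm.val_eq_1' : type_of% @Tm.val.eq_1 := @Tm.val.eq_1

/-- the subgroup generated by some atoms -/
def gn (g : ℕ → G) (I : List ℕ) : Subgroup G := closure {x | ∃ l ∈ I, g l = x}

theorem gn_eq_1' : type_of% @gn.eq_1 := @gn.eq_1

theorem mem_gn (g : ℕ → G) {I : List ℕ} {l : ℕ} (h : l ∈ I) : g l ∈ gn g I := subset_closure ⟨l, h, rfl⟩

theorem gn_le {g : ℕ → G} {I : List ℕ} {K : Subgroup G} (h : ∀ l ∈ I, g l ∈ K) : gn g I ≤ K :=
  (closure_le K).2 fun _ ⟨l, hl, e⟩ => e ▸ h l hl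

theorem gn_eq_sub (g : ℕ → G) (I : List ℕ) : gn g I = WF.sub g (I.map fun l => [l]) :=
  (WF.sub_letters g I).symm

/-- the meaning of a statement -/
noncomputable def Pf.sem (H : Subgroup G) (g : ℕ → G) (p : Pf) : Prop :=
  Pf.rec True (fun s t => s.val g = t.val g) (fun s t => s.val g ≠ t.val g)
    (fun s t => Commute (s.val g) (t.val g)) (fun s t => ¬ Commute (s.val g) (t.val g))
    (fun t => t.val g ∈ H) (fun t => t.val g ∉ H) (fun t I _ => t.val g ∈ gn g I)
    (fun _ _ p q => p ∧ q) (fun _ _ p q => p ∨ q) p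

theorem Pf.sem_eq_1' : type_of% @Pf.sem.eq_1 := @Pf.sem.eq_1
end

/-- a power of a code -/
noncomputable def pwC (b a k : ℕ) : ℕ := Nat.rec 0 (fun _ r => mulF b r a) k

/-- the code of a term -/
noncomputable def Tm.code (ι : ℕ → ℕ) (b m : ℕ) (e : ℕ → ℕ) (t : Tm) : ℕ :=
  Tm.rec e 0 (fun _ _ x y => mulF b x y) (fun _ x => invF ι b m x) (fun _ k x => frc x fun x => pwC b x k)
    (fun _ _ x y => frc x fun x => frc y fun y =>
      mulF b (mulF b (mulF b x y) (invF ι b m x)) (invF ι b m y))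
    (fun _ _ x y => frc x fun x => mulF b (mulF b x y) (invF ι b m x)) t

/-- the code of a word in codes and their inverses -/
noncomputable def wdC (ι : ℕ → ℕ) (b m : ℕ) (cs L : List ℕ) : ℕ :=
  List.rec 0 (fun l _ r => frc (nth 0 cs (Nat.shiftRight l 1)) fun x =>
    mulF b (Bool.rec (invF ι b m x) x (Nat.beq (Nat.land l 1) 0)) r) L

/-- the test of a statement -/
noncomputable def Pf.ev (T : FT) (b m : ℕ) (base : List ℕ) (ι : ℕ → ℕ) (n0 : ℕ) (e : ℕ → ℕ) (p : Pf) :
    Bool :=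
  Pf.rec true (fun s t => eqvF T b m base (s.code ι b m e) (t.code ι b m e))
    (fun s t => bnot (eqvF T b m base (s.code ι b m e) (t.code ι b m e)))
    (fun s t => frc (s.code ι b m e) fun x => frc (t.code ι b m e) fun y =>
      eqvF T b m base (mulF b x y) (mulF b y x))
    (fun s t => frc (s.code ι b m e) fun x => frc (t.code ι b m e) fun y =>
      bnot (eqvF T b m base (mulF b x y) (mulF b y x)))
    (fun t => Nat.blt (appF T b m (t.code ι b m e) 0) n0)
    (fun t => Nat.ble n0 (appF T b m (t.code ι b m e) 0))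
    (fun t I L => WM.mapK e I fun cs => eqvF T b m base (t.code ι b m e) (wdC ι b m cs L))
    (fun _ _ p q => band p q) (fun _ _ p q => bor p q) p

variable {G : Type} [Group G] {n : ℕ} {ρ : G →* Perm (Fin n)} {T : FT} {b m : ℕ} {base : List ℕ}
  (h : Good ρ T b m base)

theorem V_mulF (x y : ℕ) : h.V (mulF b x y) = h.V x * h.V y := val_mulF h.lt_zero h.pos x y

theorem V_zero : h.V 0 = 1 := h.model.R_one

theorem V_pwC (a k : ℕ) : h.V (pwC b a k) = h.V a ^ k := by
  induction k with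
  | zero => exact (V_zero h).trans (pow_zero _).symm
  | succ k ih => rw [pow_succ, ← ih]; exact V_mulF h _ _

theorem ne_of_eqvF (hb : ∀ p ∈ base, p < n) {x y : ℕ} (e : bnot (eqvF T b m base x y) = true) :
    h.V x ≠ h.V y := fun k => by
  have : eqvF T b m base x y = true := by
    rw [eqvF, frc_eq, frc_eq, lall_iff]
    intro p hp
    rw [Nat.beq_eq, h.acts_appF x ⟨p, hb p hp⟩, h.acts_appF y ⟨p, hb p hp⟩, k]
  rw [this] at e
  exact Bool.false_ne_true e

variable {ι : ℕ → ℕ} (hι : invB T b m base ι = true)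
include hι

theorem Tm.V_code {e : ℕ → ℕ} {g : ℕ → G} (he : ∀ i, h.V (e i) = g i) (t : Tm) :
    h.V (t.code ι b m e) = t.val g := by
  induction t with
  | c i => exact he i
  | one => exact V_zero h
  | mul x y hx hy => exact (V_mulF h _ _).trans (congrArg₂ _ hx hy)
  | inv x hx => exact (h.V_invF hι _).trans (congrArg _ hx)
  | pw x k hx => exact (congrArg h.V (frc_eq _ _)).trans ((V_pwC h _ _).trans (congrArg (· ^ k) hx))
  | cm x y hx hy =>
    change h.V (frc (x.code ι b m e) fun x => frc (y.code ι b m e) fun y =>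
      mulF b (mulF b (mulF b x y) (invF ι b m x)) (invF ι b m y)) =
        x.val g * y.val g * (x.val g)⁻¹ * (y.val g)⁻¹
    rw [frc_eq, frc_eq, V_mulF, V_mulF, V_mulF, h.V_invF hι, h.V_invF hι, hx, hy]
  | cj x y hx hy =>
    change h.V (frc (x.code ι b m e) fun x => mulF b (mulF b x (y.code ι b m e)) (invF ι b m x)) =
      x.val g * y.val g * (x.val g)⁻¹
    rw [frc_eq, V_mulF, V_mulF, h.V_invF hι, hx, hy]

theorem wdC_mem {K : Subgroup G} {cs : List ℕ} (hK : ∀ c ∈ cs, h.V c ∈ K) (L : List ℕ) :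
    h.V (wdC ι b m cs L) ∈ K := by
  induction L with
  | nil => exact (V_zero h).symm ▸ K.one_mem
  | cons l L ih =>
    have k : h.V (nth 0 cs (Nat.shiftRight l 1)) ∈ K := V_nth h hι (fun c hc => ⟨_, hK c hc, rfl⟩) _
    change h.V (frc (nth 0 cs (Nat.shiftRight l 1)) fun x =>
      mulF b (Bool.rec (invF ι b m x) x (Nat.beq (Nat.land l 1) 0)) (wdC ι b m cs L)) ∈ K
    rw [frc_eq, V_mulF]
    refine K.mul_mem ?_ ih
    cases Nat.beq (Nat.land l 1) 0
    · exact (h.V_invF hι _).symm ▸ K.inv_mem k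
    · exact k

variable {H : Subgroup G} {n0 : ℕ} (hH : ∀ c, h.V c ∈ H ↔ appF T b m c 0 < n0) (hb : ∀ p ∈ base, p < n)
include hH hb

theorem Pf.sem_of_ev {e : ℕ → ℕ} {g : ℕ → G} (he : ∀ i, h.V (e i) = g i) (p : Pf)
    (k : p.ev T b m base ι n0 e = true) : p.sem H g := by
  have v := fun t => Tm.V_code h hι he t
  induction p with
  | tt => trivial
  | eq s t => exact (v s).symm.trans ((h.eq_of_eqvF k).trans (v t))
  | ne s t => exact fun a => ne_of_eqvF h hb k ((v s).trans (a.trans (v t).symm))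
  | com s t =>
    change (frc (s.code ι b m e) fun x => frc (t.code ι b m e) fun y =>
      eqvF T b m base (mulF b x y) (mulF b y x)) = true at k
    rw [frc_eq, frc_eq] at k
    have := h.eq_of_eqvF k
    rwa [V_mulF, V_mulF, v, v] at this
  | ncom s t =>
    change (frc (s.code ι b m e) fun x => frc (t.code ι b m e) fun y =>
      bnot (eqvF T b m base (mulF b x y) (mulF b y x))) = true at k
    rw [frc_eq, frc_eq] at k
    have := ne_of_eqvF h hb k
    rwa [V_mulF, V_mulF, v, v] at this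
  | inn t => exact show t.val g ∈ H from v t ▸ (hH _).2 (Nat.blt_eq.mp k)
  | out t => exact fun a => absurd ((hH _).1 ((v t).symm ▸ a)) (not_lt.2 (Nat.le_of_ble_eq_true k))
  | mem t I L =>
    change (WM.mapK e I fun cs => eqvF T b m base (t.code ι b m e) (wdC ι b m cs L)) = true at k
    rw [WM.mapK_eq] at k
    change t.val g ∈ gn g I
    rw [← v, h.eq_of_eqvF k]
    refine wdC_mem h hι (fun c hc => ?_) L
    obtain ⟨l, hl, rfl⟩ := List.mem_map.1 hc
    exact he l ▸ mem_gn g hl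
  | and p q hp hq => exact ⟨hp (band_iff.1 k).1, hq (band_iff.1 k).2⟩
  | or p q hp hq => exact (bor_iff.1 k).imp hp hq

/-- a closed statement on the atoms `E` -/
theorem holds (E : List ℕ) (p : Pf) (k : p.ev T b m base ι n0 (nth 0 E) = true) :
    p.sem H fun i => h.V (nth 0 E i) := Pf.sem_of_ev h hι hH hb (fun _ => rfl) p k

omit hι hH hb in
theorem V_upd (e : ℕ → ℕ) (v c : ℕ) (i : ℕ) : h.V (upd e v c i) = upd (fun i => h.V (e i)) v (h.V c) i := by
  unfold upd; cases Nat.beq i v <;> rfl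

/-- a statement for the atoms listed in `I`, substituted for the atom `v` -/
theorem holds_list (E I : List ℕ) (v : ℕ) (p : Pf)
    (k : lall (fun i => frc (nth 0 E i) fun c => p.ev T b m base ι n0 (upd (nth 0 E) v c)) I = true) :
    ∀ i ∈ I, p.sem H (upd (fun i => h.V (nth 0 E i)) v (h.V (nth 0 E i))) := fun i hi =>
  Pf.sem_of_ev h hι hH hb (V_upd h _ v _) p ((frc_eq _ _).symm.trans (lall_iff.1 k i hi))

/-- a statement for all `d` in a group `K` with a chain that satisfy `d y = z d` -/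
theorem holds_conj [Finite G] {K : Subgroup G} {cs : List ℕ} (hcs : ∀ c ∈ cs, h.V c ∈ K) {N : ℕ}
    (hN : Nat.card K ≤ N) {ls : List ILev} (E : List ℕ) (iy iz v : ℕ) (yK : h.V (nth 0 E iy) ∈ K)
    (zK : h.V (nth 0 E iz) ∈ K) (p : Pf)
    (k : conjAllB (fops T b m base n ι) cs N ls (nth 0 E iy) (nth 0 E iz)
      (fun c => p.ev T b m base ι n0 (upd (nth 0 E) v c)) = true) :
    ∀ d ∈ K, d * h.V (nth 0 E iy) = h.V (nth 0 E iz) * d → p.sem H (upd (fun i => h.V (nth 0 E i)) v d) :=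
  fun d hd e => by
    obtain ⟨c, rfl, a⟩ := conjAll (h.hasF hι) (fun c hc => ⟨_, hcs c hc, rfl⟩) hN rfl rfl yK zK k d hd e
    exact Pf.sem_of_ev h hι hH hb (V_upd h _ v _) p a

/-- a statement for all `d` commuting with `cz` and the atom `ix` -/
theorem holds_cen [Finite G] {cs : List ℕ} {cz N : ℕ} (hN : Nat.card (centralizer {h.V cz}) ≤ N)
    {ls : List ILev} (E : List ℕ) (ix v : ℕ) (p : Pf)
    (k : cenAllB (fops T b m base n ι) cs N ls cz (nth 0 E ix)
      (fun c => p.ev T b m base ι n0 (upd (nth 0 E) v c)) = true) :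
    ∀ d, Commute d (h.V cz) → Commute d (h.V (nth 0 E ix)) →
      p.sem H (upd (fun i => h.V (nth 0 E i)) v d) := fun d h1 h2 => by
  obtain ⟨c, rfl, a⟩ := cenAll (h.hasF hι) (h.fm_in cs) rfl rfl hN k d h1 h2
  exact Pf.sem_of_ev h hι hH hb (V_upd h _ v _) p a

end Cfsg.Lib.StdX
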