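import Cfsg.Agent.StdX.Fam

/-!
# Standard subgroups with two classes of involutions: an element centralising the derived group
of the centraliser of `z`
-/

set_option autoImplicit false

namespace Cfsg.Lib.StdX

open Subgroup Cfsg.Lib.Gold Cfsg.Lib.Trans Cfsg.Lib.StdSz Cfsg.Lib.StdW
open Cfsg.Lib.StdM (Cl Tr)
open scoped commutatorElement

variable {G Ω : Type*} [Group G] [Group Ω] {Γ Γ0 T : Subgroup Ω} {z y : Ω}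
  {n : ℕ} {A : Subgroup G} {ρ : G → Ω} {t : G}

namespace V1

theorem comm_mem (b : Bas Γ Γ0 T z y n) (h : Mdl Γ Γ0 A ρ) (s : St A ⊥ t) {x w : G}
    (hx : x ∈ C1 t) (hw : w ∈ C1 t) : ⁅x, w⁆ ∈ A := by
  have h7 : ∀ x ∈ C1 t, ∀ y ∈ C1 t, ρ x ∈ Γ0 → ⁅x, y⁆ ∈ A := fun x hx y hy e => by
    obtain ⟨a, ha, e⟩ := (h.inner (s.cN hx)).1 e
    have h8 := mul_mem ha (mem_normalizer_conj (s.cN hy) (inv_mem ha))
    rcases s.dec _ ⟨e, (C1 t).mul_mem (inv_mem (StdSz.mem_C1.2 (StdSz.mem_Cs.1 s.tA a ha).symm)) hx⟩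
      with e | ⟨o, ho, e⟩
    · rw [mem_bot, inv_mul_eq_one] at e
      simpa [← e, commutatorElement_def, mul_assoc] using h8
    · rw [mem_bot.1 ho, mul_one, inv_mul_eq_iff_eq_mul] at e
      convert h8 using 1
      rw [e, commutatorElement_def, mul_assoc a t, ← (StdSz.mem_C1.1 hy).eq]
      group
  by_cases h9 : ρ x ∈ Γ0
  · exact h7 x hx w hw h9
  by_cases h10 : ρ w ∈ Γ0
  · exact commutatorElement_inv w x ▸ inv_mem (h7 w hw x hx h10)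
  have := mem_normalizer_conj (s.cN hw) (h7 _ (mul_mem (inv_mem hw) hx) w hw (by
    rw [h.mul _ (inv_mem (s.cN hw)) _ (s.cN hx), h.inv (s.cN hw)]
    exact b.idx _ (inv_mem (h.memΓ _ (s.cN hw))) _ (h.memΓ _ (s.cN hx)) (mt inv_mem_iff.1 h10) h9))
  simpa [commutatorElement_def, mul_assoc] using this

variable {D V : Subgroup Ω} {γ m k₀ : Ω} (b : Bas Γ Γ0 T z y n) (vf : VF Γ Γ0 D V z γ m k₀)
  (h : Mdl Γ Γ0 A ρ) (hZ : A ⊓ Cs A = ⊥) (s : St A ⊥ t) {ζ k : G} (hζ : ζ ∈ A) (e : ρ ζ = z)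
include b vf h hZ s hζ e

theorem mem_der {a : G} : a ∈ ⁅C1 t ⊓ C1 ζ, C1 t ⊓ C1 ζ⁆ ↔ a ∈ A ∧ ρ a ∈ D := by
  have h1 : ⁅C1 t ⊓ C1 ζ, C1 t ⊓ C1 ζ⁆ ≤ A :=
    commutator_le.2 fun x hx w hw => comm_mem b h s hx.1 hw.1
  have h2 : ∀ x ∈ C1 t ⊓ C1 ζ, ρ x ∈ Γ ⊓ C1 z := fun x hx => ⟨h.memΓ _ (s.cN hx.1),
    StdSz.mem_C1.2 (e ▸ h.commute (s.cN hx.1) (le_normalizer hζ) (StdSz.mem_C1.1 hx.2))⟩
  have h3 : ∀ x ∈ A, ρ x ∈ D → x ∈ C1 t ⊓ C1 ζ := fun x hx hD =>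
    ⟨StdSz.mem_C1.2 (StdSz.mem_Cs.1 s.tA x hx).symm, StdSz.mem_C1.2
      (comm_of h hZ (le_normalizer hx) hζ (e ▸ StdSz.mem_C1.1 (vf.D0 hD).2))⟩
  refine ⟨fun ha => ⟨h1 ha, ?_⟩, fun ha => ?_⟩
  · have h4 : ⁅C1 t ⊓ C1 ζ, C1 t ⊓ C1 ζ⁆ ≤ (D.comap h.hom).map (Ns A).subtype :=
      commutator_le.2 fun x hx w hw => ⟨⁅(⟨x, s.cN hx.1⟩ : Ns A), (⟨w, s.cN hw.1⟩ : Ns A)⁆, by
        have h5 := vf.der (commutator_mem_commutator (h2 x hx) (h2 w hw))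
        rw [← h.comm (s.cN hx.1) (s.cN hw.1)] at h5
        exact h5, rfl⟩
    obtain ⟨x, hx, rfl⟩ := h4 ha
    exact hx
  · obtain ⟨x, hx, -, h4⟩ := h.mem_img.1 ((commutator_le
      (H₃ := h.img ⁅C1 t ⊓ C1 ζ, C1 t ⊓ C1 ζ⁆)).2 (fun p hp q hq => by
        obtain ⟨p, hp', rfl⟩ := h.surj p (vf.D0 hp).1
        obtain ⟨q, hq', rfl⟩ := h.surj q (vf.D0 hq).1
        have h5 := commutator_mem_commutator (h3 p hp' hp) (h3 q hq' hq)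
        exact h.mem_img.2 ⟨_, h5, le_normalizer (h1 h5),
          h.comm (le_normalizer hp') (le_normalizer hq')⟩) (vf.perf ha.2))
    exact inj h hZ (h1 hx) ha.1 h4 ▸ hx

theorem exists_aut [Finite G] (h1 : k * t * k⁻¹ = t * ζ) (h2 : k * ζ * k⁻¹ = ζ) :
    ∃ g ∈ Γ ⊓ C1 z, ∀ a ∈ A, ρ a ∈ D → k * a * k⁻¹ ∈ A ∧ ρ (k * a * k⁻¹) = g * ρ a * g⁻¹ := by
  have hF : k ∈ Ns (C1 t ⊓ C1 ζ) := mem_normalizer_of_cj_le (cj_le_iff.2 fun x hx => by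
    have h3 := commute_conj (StdSz.mem_C1.1 hx.1) k
    have h4 := commute_conj (StdSz.mem_C1.1 hx.2) k
    rw [h1] at h3
    rw [h2] at h4
    exact ⟨StdSz.mem_C1.2 (by simpa using h3.mul_right h4.inv_right), StdSz.mem_C1.2 h4⟩)
  have hk : k ∈ Ns ⁅C1 t ⊓ C1 ζ, C1 t ⊓ C1 ζ⁆ := mem_normalizer_of_cj_le (by
    rw [cj_commutator, cj_eq_of_mem_normalizer hF])
  have md := fun {a} => mem_der b vf h hZ s hζ e (a := a)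
  generalize ⁅C1 t ⊓ C1 ζ, C1 t ⊓ C1 ζ⁆ = E at hk md
  let f : E →* D := MonoidHom.mk' (fun a => ⟨ρ a, (md.1 a.2).2⟩) fun a c =>
    Subtype.ext (h.mul _ (le_normalizer (md.1 a.2).1) _ (le_normalizer (md.1 c.2).1))
  let ψ := MulEquiv.ofBijective f ⟨fun a c e => Subtype.ext
    (inj h hZ (md.1 a.2).1 (md.1 c.2).1 (congrArg Subtype.val e)), fun d => by
      obtain ⟨a, ha, e⟩ := h.surj d (vf.D0 d.2).1
      exact ⟨⟨a, md.2 ⟨ha, e ▸ d.2⟩⟩, Subtype.ext e⟩⟩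
  obtain ⟨g, hg, h3⟩ := vf.aut (ψ.symm.trans ((E.normalizerMonoidHom ⟨k, hk⟩).trans ψ))
  refine ⟨g, hg, fun a ha hD => ⟨(md.1 (mem_normalizer_conj hk (md.2 ⟨ha, hD⟩))).1, ?_⟩⟩
  have h4 := h3 (ψ ⟨a, md.2 ⟨ha, hD⟩⟩)
  rw [MulEquiv.trans_apply, MulEquiv.symm_apply_apply] at h4
  exact h4

theorem outer (h1 : k * t * k⁻¹ = t * ζ) (h2 : k * ζ * k⁻¹ = ζ)
    (hk : ∀ a ∈ A, ρ a ∈ D → k * a * k⁻¹ ∈ A ∧ ρ (k * a * k⁻¹) = γ * ρ a * γ⁻¹) :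
    ∃ u ∈ C1 t, ρ u ∉ Γ0 := by
  obtain ⟨μ, hμ, rfl⟩ := h.surj m vf.m0.1
  obtain ⟨κ, hκ, rfl⟩ := h.surj k₀ vf.k0.1
  have N : ∀ {a}, a ∈ A → a ∈ Ns A := fun ha => le_normalizer ha
  have c : ∀ {a x}, a ∈ A → x ∈ A → a * x * a⁻¹ ∈ A := fun ha hx =>
    mul_mem (mul_mem ha hx) (inv_mem ha)
  have ζ2 : ζ * ζ = 1 := inj h hZ (mul_mem hζ hζ) (one_mem _) (by
    rw [h.mul _ (N hζ) _ (N hζ), e, b.z2, h.one])
  obtain ⟨h3, h4⟩ := hk _ (c hμ hζ) (by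
    rw [h.conj (N hμ) (N hζ), e]; exact vf.VD (mem_normalizer_conj vf.m0.2 vf.zV))
  have h5 : κ * ζ * κ⁻¹ = ζ * (k * (μ * ζ * μ⁻¹) * k⁻¹) := inj h hZ (c hκ hζ) (mul_mem hζ h3) (by
    rw [h.mul _ (N hζ) _ (N h3), h4, h.conj (N hμ) (N hζ), h.conj (N hκ) (N hζ), e, vf.mz])
  have h6 : k⁻¹ * t * k = t * ζ := by
    rw [mul_assoc, inv_mul_eq_iff_eq_mul, ← mul_inv_eq_iff_eq_mul.1 (show k * (t * ζ) * k⁻¹ = t by
      rw [← conj_mul, h1, h2, mul_assoc, ζ2, mul_one])]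
  have tμ := conj_eq_of_commute (StdSz.mem_Cs.1 s.tA μ hμ).symm
  have tκ := conj_eq_of_commute (StdSz.mem_Cs.1 s.tA κ hκ).symm
  have h7 : (k * μ * k⁻¹)⁻¹ * κ * k ∈ C1 t := StdSz.mem_C1.2 (commute_of_conj_eq (by
    calc _ = (k * μ * k⁻¹)⁻¹ * (κ * (k * t * k⁻¹) * κ⁻¹) * (k * μ * k⁻¹) := by group
      _ = (k * μ * k⁻¹)⁻¹ * (k * (μ * (k⁻¹ * t * k) * μ⁻¹) * k⁻¹) * (k * μ * k⁻¹) := by
        rw [h1, h6, ← conj_mul (b := κ), ← conj_mul (b := μ), tμ, tκ, h5, ← conj_mul (a := t), h1,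
          mul_assoc t]
      _ = t := by group))
  refine ⟨_, h7, fun h8 => vf.γ1 ?_⟩
  have h9 : γ * (ρ μ)⁻¹ * γ⁻¹ * ρ κ ∈ Γ0 := mul_mem (b.conj_mem vf.γ0.1 (inv_mem vf.m0.1)) vf.k0.1
  have h10 := vf.cV (show (γ * (ρ μ)⁻¹ * γ⁻¹ * ρ κ * γ)⁻¹ * ρ ((k * μ * k⁻¹)⁻¹ * κ * k) ∈ Γ ⊓ Cs V
    from ⟨Γ.mul_mem (Γ.inv_mem (Γ.mul_mem (b.le h9) vf.γ0.1)) (b.le h8), StdSz.mem_Cs.2 fun v hv => by
      obtain ⟨a, ha, rfl⟩ := h.surj v (vf.D0 (vf.VD hv)).1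
      obtain ⟨a1, a2⟩ := hk a ha (vf.VD hv)
      have a3 := mem_cj.1 (mem_normalizer_conj vf.k0.2 (conj_mem_cj.2 hv))
      obtain ⟨a', ha', a4⟩ := h.surj _ (vf.D0 (vf.VD a3)).1
      obtain ⟨a5, a6⟩ := hk a' ha' (a4 ▸ vf.VD a3)
      have a7 : k * a' * k⁻¹ = κ * (k * a * k⁻¹) * κ⁻¹ := inj h hZ a5 (c hκ a1) (by
        rw [a6, a4, h.conj (N hκ) (N a1), a2]; group)
      have a8 := h.conj (N (inv_mem hμ)) (N ha')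
      rw [h.inv (N hμ), a4] at a8
      have a9 := (hk _ (c (inv_mem hμ) ha')
        (a8 ▸ vf.VD (mem_normalizer_conj (inv_mem vf.m0.2) a3))).2
      have a10 := h.conj (s.cN h7) (N ha)
      rw [show (k * μ * k⁻¹)⁻¹ * κ * k * a * ((k * μ * k⁻¹)⁻¹ * κ * k)⁻¹ =
        k * (μ⁻¹ * a' * μ⁻¹⁻¹) * k⁻¹ by
          calc _ = k * (μ⁻¹ * (k⁻¹ * (κ * (k * a * k⁻¹) * κ⁻¹) * k) * μ) * k⁻¹ := by group
            _ = _ := by rw [← a7]; group, a9, a8] at a10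
      refine commute_of_conj_eq ?_
      generalize ρ ((k * μ * k⁻¹)⁻¹ * κ * k) = r at a10
      calc _ = (γ * (ρ μ)⁻¹ * γ⁻¹ * ρ κ * γ)⁻¹ * (r * ρ a * r⁻¹) * (γ * (ρ μ)⁻¹ * γ⁻¹ * ρ κ * γ) := by
            group
        _ = _ := by rw [← a10]; group⟩)
  rwa [mul_mem_cancel_right h8, inv_mem_iff, mul_mem_cancel_left h9] at h10

end V1

open V1 in
theorem exists_x [Finite G] [Finite Ω] {D V : Subgroup Ω} {γ m k₀ : Ω} (b : Bas Γ Γ0 T z y n)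
    (vf : VF Γ Γ0 D V z γ m k₀)
    (h : Mdl Γ Γ0 A ρ) (hZ : A ⊓ Cs A = ⊥) (s : St A ⊥ t) {ζ k : G} (hζ : ζ ∈ A) (e : ρ ζ = z)
    (h1 : k * t * k⁻¹ = t * ζ) (h2 : k * ζ * k⁻¹ = ζ) :
    ∃ x, x * t * x⁻¹ = t * ζ ∧ ∀ a ∈ A, ρ a ∈ D → Commute x a := by
  obtain ⟨g, hg, h3⟩ := exists_aut b vf h hZ s hζ e h1 h2
  have tA : ∀ {a}, a ∈ A → a ∈ C1 t := fun ha => StdSz.mem_C1.2 (StdSz.mem_Cs.1 s.tA _ ha).symm
  obtain ⟨u, hu, h4⟩ : ∃ u ∈ C1 t, ρ u = g := by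
    by_cases h0 : g ∈ Γ0
    · obtain ⟨u, hu, h4⟩ := h.surj g h0
      exact ⟨u, tA hu, h4⟩
    obtain ⟨c, hc, h4⟩ := h.surj _ (b.idx _ vf.γ0.1 _ (inv_mem hg.1) vf.γ1 (mt inv_mem_iff.1 h0))
    have h5 := conj_eq_of_commute (comm_of h hZ (le_normalizer hc) hζ (by
      rw [h4, e]; exact StdSz.mem_C1.1 (mul_mem vf.γ0.2 (inv_mem hg.2))))
    obtain ⟨u, hu, h6⟩ := outer b vf h hZ s hζ e (k := c * k) (by
        calc _ = c * (k * t * k⁻¹) * c⁻¹ := by group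
          _ = _ := by rw [h1, ← conj_mul, h5, conj_eq_of_commute (StdSz.mem_C1.1 (tA hc))])
      (by
        calc _ = c * (k * ζ * k⁻¹) * c⁻¹ := by group
          _ = _ := by rw [h2, h5]) fun a ha hD => by
      obtain ⟨h6, h7⟩ := h3 a ha hD
      rw [show c * k * a * (c * k)⁻¹ = c * (k * a * k⁻¹) * c⁻¹ by group]
      refine ⟨mul_mem (mul_mem hc h6) (inv_mem hc), ?_⟩
      rw [h.conj (le_normalizer hc) (le_normalizer h6), h7, h4]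
      group
    obtain ⟨c', hc', h7⟩ := h.surj _ (b.idx _ hg.1 _ (inv_mem (h.memΓ _ (s.cN hu))) h0
      (mt inv_mem_iff.1 h6))
    exact ⟨c' * u, mul_mem (tA hc') hu, by
      rw [h.mul _ (le_normalizer hc') _ (s.cN hu), h7, inv_mul_cancel_right]⟩
  have h5 := comm_of h hZ (s.cN hu) hζ (by rw [h4, e]; exact StdSz.mem_C1.1 hg.2)
  refine ⟨u⁻¹ * k, ?_, fun a ha hD => commute_of_conj_eq ?_⟩
  · calc _ = u⁻¹ * (k * t * k⁻¹) * u⁻¹⁻¹ := by group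
      _ = _ := by
        rw [h1, conj_eq_of_commute ((StdSz.mem_C1.1 hu).mul_right h5).inv_left]
  · obtain ⟨h6, h7⟩ := h3 a ha hD
    calc _ = u⁻¹ * (k * a * k⁻¹) * u := by group
      _ = _ := by rw [← conj_of h hZ (s.cN hu) ha h6 (by rw [h4, h7])]; group

end Cfsg.Lib.StdX
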